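import Mathlib
import Cfsg.Agent.S0713
import Cfsg.Agent.FastGrp
import Cfsg.Agent.Prune
set_option linter.all false

section
prune_inst 0x7f00000000000000000000000000000000000000000000000000000000000000000000000000000000000000000000000000000000000000000000000000000000000000000000000000000000000000003fffffffffffffffffffffffffffbeffbdffbfffff

-- part: H426/FC/Defs
section
set_option linter.all false

/-!
# S3618, part B: few cycles of length `p`; definitions
-/

set_option autoImplicit false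

open Equiv Equiv.Perm MulAction

namespace Cfsg.Agent.H426.FC

universe u v

section

variable {Ω : Type u}

/-- `H` contains every permutation which agrees on every pair of points with an element of `H` -/
def TwoClosed (H : Subgroup (Perm Ω)) : Prop :=
  ∀ σ : Perm Ω, (∀ a b : Ω, ∃ h ∈ H, h a = σ a ∧ h b = σ b) → σ ∈ H

/-- `XX` is a nonempty set of permutations in `H`, invariant under conjugation with `H`, all of whose members move
exactly `s` points, `2 ≤ s < |Ω|` -/
structure Fam [Fintype Ω] [DecidableEq Ω] (H : Subgroup (Perm Ω)) (XX : Set (Perm Ω)) (s : ℕ) : Prop where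
  mem : ∀ x ∈ XX, x ∈ H
  conj : ∀ h ∈ H, ∀ x ∈ XX, h * x * h⁻¹ ∈ XX
  nonempty : XX.Nonempty
  card : ∀ x ∈ XX, x.support.card = s
  two_le : 2 ≤ s
  lt : s < Fintype.card Ω

/-- some member of `XX` which fixes `a` moves both `b` and `b'` -/
def Rel (XX : Set (Perm Ω)) (a b b' : Ω) : Prop := ∃ x ∈ XX, x a = a ∧ x b ≠ b ∧ x b' ≠ b'

/-- all 3-cycles on the set `S` are in `W` -/
def A3 {B : Type v} [Fintype B] [DecidableEq B] (W : Subgroup (Perm B)) (S : Finset B) : Prop :=
  ∀ σ : Perm B, σ.IsThreeCycle → σ.support ⊆ S → σ ∈ W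

end

end Cfsg.Agent.H426.FC
end

-- part: H426/FC/MinElt_mg
section
prune_inst 0x400000
set_option linter.all false
open scoped Cfsg.Agent.FastGrp

-- part: H426/FC/Closure
section
/-!
# S3618, part B: elements of order `p` with minimal support in a 2-closed group (L1 - L5)
-/

set_option autoImplicit false

open Equiv Equiv.Perm MulAction

namespace Cfsg.Agent.H426.FC

universe u

theorem one_mem_of_coprime (Y : AddSubgroup ℤ) {m n : ℤ} (hm : m ∈ Y) (hn : n ∈ Y) (h : IsCoprime m n) :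
    (1 : ℤ) ∈ Y := by
  obtain ⟨a, b, hab⟩ := h
  rw [← hab]
  refine Y.add_mem ?_ ?_
  · rw [← smul_eq_mul]
    exact Y.zsmul_mem hm a
  · rw [← smul_eq_mul]
    exact Y.zsmul_mem hn b

section

variable {Ω : Type u}

/-- the exponents `n` with `t ^ n a ∈ ⟨x⟩ a` -/
def expo (x t : Perm Ω) (h : Commute x t) (a : Ω) : AddSubgroup ℤ where
  carrier := {n | ∃ i : ℤ, (t ^ n) a = (x ^ i) a}
  zero_mem' := ⟨0, by simp⟩
  add_mem' := by
    rintro m n ⟨i, hi⟩ ⟨j, hj⟩
    refine ⟨j + i, ?_⟩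
    have hc : Commute (x ^ j) (t ^ m) := (h.zpow_zpow j m)
    calc (t ^ (m + n)) a = (t ^ m) ((t ^ n) a) := by rw [zpow_add, Perm.mul_apply]
      _ = (t ^ m * x ^ j) a := by rw [hj, Perm.mul_apply]
      _ = (x ^ j * t ^ m) a := by rw [hc.eq]
      _ = (x ^ j) ((x ^ i) a) := by rw [Perm.mul_apply, hi]
      _ = (x ^ (j + i)) a := by rw [zpow_add, Perm.mul_apply]
  neg_mem' := by
    rintro m ⟨i, hi⟩
    refine ⟨-i, ?_⟩
    have hc : Commute (x ^ (-i)) (t ^ (-m)) := (h.zpow_zpow (-i) (-m))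
    calc (t ^ (-m)) a = (t ^ (-m) * x ^ (-i)) ((x ^ i) a) := by
            rw [Perm.mul_apply, ← Perm.mul_apply (x ^ (-i)), ← zpow_add, neg_add_cancel, zpow_zero, Perm.one_apply]
      _ = (x ^ (-i) * t ^ (-m)) ((t ^ m) a) := by rw [hc.eq, hi]
      _ = (x ^ (-i)) a := by
            rw [Perm.mul_apply, ← Perm.mul_apply (t ^ (-m)), ← zpow_add, neg_add_cancel, zpow_zero, Perm.one_apply]

theorem coprime_of_lt {p : ℕ} (hp : p.Prime) {k : ℤ} (h0 : k ≠ 0) (h1 : -p < k) (h2 : k < p) : IsCoprime k (p : ℤ) := by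
  rw [Int.isCoprime_iff_gcd_eq_one, Int.gcd_comm, ← Int.isCoprime_iff_gcd_eq_one]
  rw [Prime.coprime_iff_not_dvd (Nat.prime_iff_prime_int.1 hp)]
  intro hd
  have := Int.le_of_dvd (abs_pos.2 h0) ((dvd_abs _ _).2 hd)
  rcases abs_cases k with ⟨h, _⟩ | ⟨h, _⟩ <;> omega

/-- if `x ^ p = 1` and `x ^ k a = a` with `p ∤ k` then `x a = a` -/
theorem fixed_of_zpow {p : ℕ} {x : Perm Ω} (hx : x ^ p = 1) {k : ℤ} (hk : IsCoprime k (p : ℤ)) {a : Ω}
    (h : (x ^ k) a = a) : x a = a := by
  have h1 : (1 : ℤ) ∈ expo (1 : Perm Ω) x (Commute.one_left x) a := by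
    refine one_mem_of_coprime _ (m := k) (n := p) ⟨0, by simpa using h⟩ ⟨0, ?_⟩ hk
    rw [zpow_natCast, hx, zpow_zero]
  obtain ⟨i, hi⟩ := h1
  simpa using hi

variable [Fintype Ω] [DecidableEq Ω]

/-- Lemma C -/
theorem exists_zpow {p : ℕ} (hp : p.Prime) {x t : Perm Ω} (hx : x ^ p = 1) (hs : x.support.card < p ^ 2)
    (h : Commute x t) (ht : ∃ i : ℤ, t ^ p = x ^ i) {a : Ω} (ha : x a ≠ a) : ∃ i : ℤ, t a = (x ^ i) a := by
  by_contra hno
  have h1 : (1 : ℤ) ∉ expo x t h a := by
    rintro ⟨i, hi⟩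
    exact hno ⟨i, by simpa using hi⟩
  have hpY : (p : ℤ) ∈ expo x t h a := by
    obtain ⟨i, hi⟩ := ht
    exact ⟨i, by rw [zpow_natCast, hi]⟩
  have hnot : ∀ k : ℤ, IsCoprime k (p : ℤ) → k ∉ expo x t h a := fun k hk hk' =>
    h1 (one_mem_of_coprime _ hk' hpY hk)
  let f : Fin p × Fin p → x.support := fun ij => ⟨(t ^ (ij.2 : ℕ)) ((x ^ (ij.1 : ℕ)) a), by
    rw [mem_support, ← Perm.mul_apply, ← Perm.mul_apply, ← Perm.mul_apply]
    have hc : Commute x (t ^ (ij.2 : ℕ) * x ^ (ij.1 : ℕ)) := (h.pow_right _).mul_right (Commute.self_pow x _)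
    rw [mul_assoc, hc.eq, Perm.mul_apply]
    exact fun h' => ha ((t ^ (ij.2 : ℕ) * x ^ (ij.1 : ℕ)).injective h')⟩
  have hf : Function.Injective f := by
    rintro ⟨i, j⟩ ⟨i', j'⟩ hij
    have h2 : (t ^ (j : ℕ)) ((x ^ (i : ℕ)) a) = (t ^ (j' : ℕ)) ((x ^ (i' : ℕ)) a) := congrArg Subtype.val hij
    have h3 : (t ^ ((j : ℤ) - (j' : ℤ))) a = (x ^ ((i' : ℤ) - (i : ℤ))) a := by
      have hc1 : Commute (x ^ (-(i : ℤ))) (t ^ (-(j' : ℤ)) * t ^ (j : ℤ)) :=
        (h.zpow_zpow _ _).mul_right (h.zpow_zpow _ _)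
      have h4 : (x ^ (-(i : ℤ)) * (t ^ (-(j' : ℤ)) * t ^ (j : ℤ)) * x ^ (i : ℤ)) a =
          (x ^ (-(i : ℤ)) * t ^ (-(j' : ℤ)) * (t ^ (j' : ℤ) * x ^ (i' : ℤ))) a := by
        rw [zpow_natCast, zpow_natCast, zpow_natCast, zpow_natCast]
        simp only [Perm.mul_apply] at *
        rw [h2]
      rw [hc1.eq] at h4
      have e1 : t ^ (-(j' : ℤ)) * t ^ (j : ℤ) * x ^ (-(i : ℤ)) * x ^ (i : ℤ) = t ^ ((j : ℤ) - (j' : ℤ)) := by
        rw [mul_assoc, ← zpow_add x, neg_add_cancel, zpow_zero, mul_one, ← zpow_add]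
        congr 1
        ring
      have e2 : x ^ (-(i : ℤ)) * t ^ (-(j' : ℤ)) * (t ^ (j' : ℤ) * x ^ (i' : ℤ)) = x ^ ((i' : ℤ) - (i : ℤ)) := by
        rw [mul_assoc, ← mul_assoc (t ^ (-(j' : ℤ))), ← zpow_add t, neg_add_cancel, zpow_zero, one_mul, ← zpow_add]
        congr 1
        ring
      rw [e1, e2] at h4
      exact h4
    have hj : j = j' := by
      by_contra hne
      refine hnot ((j : ℤ) - (j' : ℤ)) (coprime_of_lt hp ?_ ?_ ?_) ⟨_, h3⟩
      · intro h5
        apply hne
        apply Fin.ext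
        omega
      · have := j'.2
        omega
      · have := j.2
        omega
    subst hj
    have hi : i = i' := by
      by_contra hne
      rw [sub_self, zpow_zero, Perm.one_apply] at h3
      apply ha
      refine fixed_of_zpow hx (k := (i' : ℤ) - (i : ℤ)) (coprime_of_lt hp ?_ ?_ ?_) h3.symm
      · intro h5
        apply hne
        apply Fin.ext
        omega
      · have := i.2
        omega
      · have := i'.2
        omega
    rw [hi]
  have hcard := Fintype.card_le_of_injective f hf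
  rw [Fintype.card_prod, Fintype.card_fin, Fintype.card_coe] at hcard
  rw [pow_two] at hs
  omega

/-- L1: two elements of order `p` with small support in a `p`-group commute -/
theorem commute_of_isPGroup {p : ℕ} [Fact p.Prime] {P : Subgroup (Perm Ω)} (hP : IsPGroup p P) {x y : Perm Ω}
    (hx : x ∈ P) (hy : y ∈ P) (hxp : x ^ p = 1) (hyp : y ^ p = 1) (hxs : x.support.card < p ^ 2)
    (hys : y.support.card < p ^ 2) : Commute x y := by
  classical
  have hp : p.Prime := Fact.out
  apply Equiv.ext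
  intro β
  let O : Set Ω := orbit P β
  let φ : P →* Perm O := toPermHom P O
  have hφ : ∀ (g : P) (γ : O), ((φ g γ : O) : Ω) = (g : Perm Ω) (γ : Ω) := fun g γ => rfl
  let β' : O := ⟨β, mem_orbit_self β⟩
  rcases subsingleton_or_nontrivial (φ.range) with hsub | hnt
  · have h1 : ∀ g : P, ∀ γ : O, (g : Perm Ω) (γ : Ω) = γ := by
      intro g γ
      have h2 : (⟨φ g, g, rfl⟩ : φ.range) = 1 := Subsingleton.elim _ _
      have h3 : φ g = 1 := congrArg Subtype.val h2
      rw [← hφ, h3]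
      rfl
    rw [Perm.mul_apply, Perm.mul_apply]
    have h2 := h1 ⟨y, hy⟩ β'
    have h3 := h1 ⟨x, hx⟩ β'
    change y β = β at h2
    change x β = β at h3
    rw [h2, h3, h2]
  · have hR : IsPGroup p φ.range := hP.of_surjective φ.rangeRestrict φ.rangeRestrict_surjective
    have hZ : Nontrivial (Subgroup.center φ.range) := hR.center_nontrivial
    have hZp : IsPGroup p (Subgroup.center φ.range) := hR.to_subgroup _
    have hdvd : p ∣ Nat.card (Subgroup.center φ.range) := by
      obtain ⟨n, hn, hc⟩ := hZp.nontrivial_iff_card.1 hZ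
      rw [hc]
      exact dvd_pow_self p (by omega)
    obtain ⟨z, hz⟩ := exists_prime_orderOf_dvd_card' p hdvd
    obtain ⟨⟨_, ζ, rfl⟩, hcen⟩ := z
    have hzp : (φ ζ) ^ p = 1 := by
      have h1 := pow_orderOf_eq_one (⟨⟨φ ζ, ζ, rfl⟩, hcen⟩ : Subgroup.center φ.range)
      rw [hz] at h1
      exact congrArg (fun w : Subgroup.center φ.range => ((w : φ.range) : Perm O)) h1
    have hz1 : φ ζ ≠ 1 := by
      intro h
      have h1 : (⟨⟨φ ζ, ζ, rfl⟩, hcen⟩ : Subgroup.center φ.range) = 1 := by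
        apply Subtype.ext
        apply Subtype.ext
        exact h
      rw [h1, orderOf_one] at hz
      exact hp.one_lt.ne hz
    have hcomm : ∀ g : P, Commute (φ g) (φ ζ) := by
      intro g
      have h1 := Subgroup.mem_center_iff.1 hcen ⟨φ g, g, rfl⟩
      exact congrArg Subtype.val h1
    have hfree : ∀ γ : O, φ ζ γ ≠ γ := by
      intro γ hγ
      apply hz1
      apply Equiv.ext
      intro δ
      have hδ : ∃ g : P, g • (γ : Ω) = (δ : Ω) := by
        have h1 : (γ : Ω) ∈ orbit P β := γ.2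
        have h2 : (δ : Ω) ∈ orbit P (γ : Ω) := by
          rw [orbit_eq_iff.2 h1]
          exact δ.2
        exact h2
      obtain ⟨g, hg⟩ := hδ
      have hg' : φ g γ = δ := Subtype.ext hg
      rw [Perm.one_apply, ← hg', ← Perm.mul_apply, ← (hcomm g).eq, Perm.mul_apply, hγ]
    -- the restriction of an element with small support is locally a power of `ζ`
    have key : ∀ g : P, (g : Perm Ω) ^ p = 1 → (g : Perm Ω).support.card < p ^ 2 → ∀ γ : O,
        ∃ i : ℤ, φ g γ = (φ ζ ^ i) γ := by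
      intro g hg hgs γ
      by_cases hm : φ g γ = γ
      · exact ⟨0, by rw [zpow_zero, hm]; rfl⟩
      have hgp : φ g ^ p = 1 := by
        rw [← map_pow]
        have : g ^ p = 1 := Subtype.ext (by simpa only [_root_.SubmonoidClass.coe_pow, _root_.OneMemClass.coe_one] using hg)
        rw [this, map_one]
      have hcard : (φ g).support.card < p ^ 2 := by
        refine lt_of_le_of_lt ?_ hgs
        refine Finset.card_le_card_of_injOn (fun γ : O => (γ : Ω)) ?_ (fun a _ b _ h => Subtype.ext h)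
        intro δ hδ
        rw [Finset.mem_coe, mem_support] at hδ ⊢
        intro h
        exact hδ (Subtype.ext h)
      obtain ⟨i, hi⟩ := exists_zpow hp hgp hcard (hcomm g) ⟨0, by rw [hzp, zpow_zero]⟩ hm
      -- `ζ γ = g ^ i γ`, so `i` is prime to `p`
      have hi0 : IsCoprime i (p : ℤ) := by
        rw [Int.isCoprime_iff_gcd_eq_one, Int.gcd_comm, ← Int.isCoprime_iff_gcd_eq_one,
          Prime.coprime_iff_not_dvd (Nat.prime_iff_prime_int.1 hp)]
        rintro ⟨k, hk⟩
        rw [hk, zpow_mul, zpow_natCast, hgp, one_zpow] at hi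
        exact hfree γ hi
      have h1 : (1 : ℤ) ∈ expo (φ ζ) (φ g) (hcomm g).symm γ := by
        refine one_mem_of_coprime _ (m := i) (n := p) ⟨1, ?_⟩ ⟨0, ?_⟩ hi0
        · rw [zpow_one, hi]
        · rw [zpow_natCast, hgp, zpow_zero]
      obtain ⟨j, hj⟩ := h1
      exact ⟨j, by simpa using hj⟩
    obtain ⟨i, hi⟩ := key ⟨x, hx⟩ hxp hxs β'
    obtain ⟨j, hj⟩ := key ⟨y, hy⟩ hyp hys β'
    have h1 : φ ⟨x, hx⟩ (φ ⟨y, hy⟩ β') = φ ⟨y, hy⟩ (φ ⟨x, hx⟩ β') := by
      have e1 : φ ⟨x, hx⟩ (φ ⟨y, hy⟩ β') = (φ ζ ^ j * φ ζ ^ i) β' := by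
        rw [hj, ← Perm.mul_apply, ((hcomm ⟨x, hx⟩).zpow_right j).eq, Perm.mul_apply, Perm.mul_apply, hi]
      have e2 : φ ⟨y, hy⟩ (φ ⟨x, hx⟩ β') = (φ ζ ^ i * φ ζ ^ j) β' := by
        rw [hi, ← Perm.mul_apply, ((hcomm ⟨y, hy⟩).zpow_right i).eq, Perm.mul_apply, Perm.mul_apply, hj]
      rw [e1, e2, (Commute.zpow_zpow_self (φ ζ) j i).eq]
    exact congrArg Subtype.val h1

/-- L2 -/
theorem exists_pow_of_commute {p : ℕ} (hp : p.Prime) {H : Subgroup (Perm Ω)} (hcl : TwoClosed H) {x y : Perm Ω}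
    (hxH : x ∈ H) (hx : orderOf x = p) (hs : x.support.card < p ^ 2)
    (hmin : ∀ z ∈ H, orderOf z = p → x.support.card ≤ z.support.card) (hyH : y ∈ H) (hy : y ^ p = 1)
    (hxy : Commute x y) : ∃ i : ℤ, ∀ a, x a ≠ a → y a = (x ^ i) a := by
  classical
  have hxp : x ^ p = 1 := by rw [← hx]; exact pow_orderOf_eq_one x
  have hx1 : x ≠ 1 := by
    intro h
    rw [h, orderOf_one] at hx
    exact hp.one_lt.ne hx
  obtain ⟨a0, ha0⟩ : ∃ a, x a ≠ a := by
    by_contra h
    push Not at h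
    exact hx1 (Equiv.ext h)
  obtain ⟨i, hi⟩ := exists_zpow hp hxp hs hxy ⟨0, by rw [hy, zpow_zero]⟩ ha0
  refine ⟨i, ?_⟩
  set w : Perm Ω := x ^ (-i) * y with hw
  have hxw : Commute x w := (Commute.self_zpow x _).mul_right hxy
  have hwp : w ^ p = 1 := by
    have hc : Commute (x ^ (-i)) y := hxy.zpow_left _
    rw [hw, hc.mul_pow, hy, mul_one, ← zpow_natCast, ← zpow_mul, mul_comm, zpow_mul, zpow_natCast, hxp, one_zpow]
  have hwa0 : w a0 = a0 := by
    rw [hw, Perm.mul_apply, hi, ← Perm.mul_apply, ← zpow_add, neg_add_cancel]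
    rfl
  have hinv : ∀ a, w (x a) = x a ↔ w a = a := by
    intro a
    rw [← Perm.mul_apply, ← hxw.eq, Perm.mul_apply]
    exact x.injective.eq_iff
  let σ : Perm Ω := Perm.ofSubtype (x.subtypePerm (p := fun a => w a = a) hinv)
  have hσ1 : ∀ a, w a = a → σ a = x a := by
    intro a ha
    exact Perm.ofSubtype_apply_of_mem (x.subtypePerm (p := fun a => w a = a) hinv) ha
  have hσ2 : ∀ a, w a ≠ a → σ a = a := by
    intro a ha
    exact Perm.ofSubtype_apply_of_not_mem (x.subtypePerm (p := fun a => w a = a) hinv) ha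
  have hσp : σ ^ p = 1 := by
    change (Perm.ofSubtype (x.subtypePerm (p := fun a => w a = a) hinv)) ^ p = 1
    rw [← map_pow]
    have h1 : (x.subtypePerm (p := fun a => w a = a) hinv) ^ p = 1 := by
      apply Equiv.ext
      intro a
      apply Subtype.ext
      rw [Perm.subtypePerm_pow]
      change (x ^ p) (a : Ω) = a
      rw [hxp]
      rfl
    rw [h1, map_one]
  have hσ : orderOf σ = p := by
    refine (Nat.dvd_prime hp).1 (orderOf_dvd_of_pow_eq_one hσp) |>.resolve_left ?_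
    intro h
    rw [orderOf_eq_one_iff] at h
    have h1 := hσ1 a0 hwa0
    rw [h] at h1
    exact ha0 h1.symm
  have hσH : σ ∈ H := by
    apply hcl
    intro a b
    -- one point in `supp w`, the other one in `Fix w`
    have mixed : ∀ a b : Ω, w a = a → w b ≠ b → ∃ h ∈ H, h a = x a ∧ h b = b := by
      intro a b ha hb
      by_cases hxb : x b = b
      · exact ⟨x, hxH, rfl, hxb⟩
      obtain ⟨j, hj⟩ := exists_zpow hp hxp hs hxw ⟨0, by rw [hwp, zpow_zero]⟩ hxb
      have hj0 : IsCoprime j (p : ℤ) := by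
        rw [Int.isCoprime_iff_gcd_eq_one, Int.gcd_comm, ← Int.isCoprime_iff_gcd_eq_one,
          Prime.coprime_iff_not_dvd (Nat.prime_iff_prime_int.1 hp)]
        rintro ⟨k, hk⟩
        rw [hk, zpow_mul, zpow_natCast, hxp, one_zpow] at hj
        exact hb hj
      obtain ⟨m, l, hml⟩ := hj0
      refine ⟨(w⁻¹ * x ^ j) ^ m, H.zpow_mem (H.mul_mem (H.inv_mem ?_) (H.zpow_mem hxH _)) _, ?_, ?_⟩
      · exact H.mul_mem (H.zpow_mem hxH _) hyH
      · have hc : Commute w⁻¹ (x ^ j) := (hxw.symm.inv_left).zpow_right j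
        have hwa : (w⁻¹ ^ m) (x a) = x a := by
          have h1 : w (x a) = x a := (hinv a).2 ha
          have h2 : w⁻¹ (x a) = x a := by
            rw [Perm.inv_eq_iff_eq]
            exact h1.symm
          exact (Perm.zpow_apply_eq_self_of_apply_eq_self h2 m)
        rw [hc.mul_zpow, Perm.mul_apply, ← zpow_mul]
        have h3 : x ^ (j * m) = x := by
          have h4 : j * m = 1 + p * (-l) := by linarith only [hml]
          rw [h4, zpow_add, zpow_one, zpow_mul, zpow_natCast, hxp, one_zpow, mul_one]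
        rw [h3]
        exact hwa
      · apply Perm.zpow_apply_eq_self_of_apply_eq_self
        rw [Perm.mul_apply, ← hj]
        exact w.symm_apply_apply b
    by_cases ha : w a = a <;> by_cases hb : w b = b
    · exact ⟨x, hxH, (hσ1 a ha).symm, (hσ1 b hb).symm⟩
    · obtain ⟨h, hh, h1, h2⟩ := mixed a b ha hb
      exact ⟨h, hh, by rw [h1, hσ1 a ha], by rw [h2, hσ2 b hb]⟩
    · obtain ⟨h, hh, h1, h2⟩ := mixed b a hb ha
      exact ⟨h, hh, by rw [h2, hσ2 a ha], by rw [h1, hσ1 b hb]⟩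
    · exact ⟨1, H.one_mem, by rw [hσ2 a ha]; rfl, by rw [hσ2 b hb]; rfl⟩
  have hle := hmin σ hσH hσ
  have hsub : σ.support ⊆ x.support := by
    intro a ha
    rw [mem_support] at ha ⊢
    by_cases hwa : w a = a
    · rw [hσ1 a hwa] at ha
      exact ha
    · exact absurd (hσ2 a hwa) ha
  have heq : σ.support = x.support := Finset.eq_of_subset_of_card_le hsub hle
  intro a ha
  have h1 : a ∈ σ.support := by rw [heq]; exact mem_support.2 ha
  have hwa : w a = a := by
    by_contra h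
    exact mem_support.1 h1 (hσ2 a h)
  rw [hw, Perm.mul_apply] at hwa
  have h2 := congrArg (x ^ i) hwa
  rw [← Perm.mul_apply, ← zpow_add, add_neg_cancel, zpow_zero] at h2
  exact h2

end

end Cfsg.Agent.H426.FC
end

-- part: H426/FC/MinElt
section
/-!
# S3618, part B: the minimal elements of order `p` (L3 - L5)
-/

set_option autoImplicit false

open Equiv Equiv.Perm MulAction
open scoped Pointwise

namespace Cfsg.Agent.H426.FC

universe u

theorem pow_eq_one {Ω : Type u} {p : ℕ} {x : Perm Ω} (hx : orderOf x = p) : x ^ p = 1 := by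
  rw [← hx]; exact pow_orderOf_eq_one x

theorem ne_one {Ω : Type u} {p : ℕ} (hp : p.Prime) {x : Perm Ω} (hx : orderOf x = p) : x ≠ 1 := by
  intro h
  rw [h, orderOf_one] at hx
  exact hp.one_lt.ne hx

/-- if `x ^ i a ≠ a` for one point then `x ^ i` moves every point moved by `x` -/
theorem zpow_ne {Ω : Type u} {p : ℕ} (hp : p.Prime) {x : Perm Ω} (hx : x ^ p = 1) {i : ℤ} {a : Ω}
    (h : (x ^ i) a ≠ a) {b : Ω} (hb : x b ≠ b) : (x ^ i) b ≠ b := by
  intro h'
  apply hb
  refine fixed_of_zpow hx ?_ h'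
  rw [Int.isCoprime_iff_gcd_eq_one, Int.gcd_comm, ← Int.isCoprime_iff_gcd_eq_one,
    Prime.coprime_iff_not_dvd (Nat.prime_iff_prime_int.1 hp)]
  rintro ⟨k, hk⟩
  apply h
  rw [hk, zpow_mul, zpow_natCast, hx, one_zpow]
  rfl

variable {Ω : Type u} [Fintype Ω] [DecidableEq Ω]

/-- the elements of order `p` of `H` which move exactly `s` points -/
def XX (p : ℕ) (H : Subgroup (Perm Ω)) (s : ℕ) : Set (Perm Ω) := {x | x ∈ H ∧ orderOf x = p ∧ x.support.card = s}

/-- `H` is 2-closed and `s < p ^ 2` is at most the number of points moved by an element of order `p` -/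
structure MinData (p : ℕ) (H : Subgroup (Perm Ω)) (s : ℕ) : Prop where
  cl : TwoClosed H
  lt : s < p ^ 2
  min : ∀ z ∈ H, orderOf z = p → s ≤ z.support.card

namespace MinData

variable {p : ℕ} [hp : Fact p.Prime] {H : Subgroup (Perm Ω)} {s : ℕ} (D : MinData p H s)

include D

theorem exists_zpow_of_commute {x y : Perm Ω} (hx : x ∈ XX p H s) (hy : y ∈ H) (hyp : y ^ p = 1)
    (hc : Commute x y) : ∃ i : ℤ, ∀ a, x a ≠ a → y a = (x ^ i) a :=
  exists_pow_of_commute hp.out D.cl hx.1 hx.2.1 (by rw [hx.2.2]; exact D.lt)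
    (fun z hz hz' => by rw [hx.2.2]; exact D.min z hz hz') hy hyp hc

/-- L3 -/
theorem disjoint_or {P : Subgroup (Perm Ω)} (hP : IsPGroup p P) {x y : Perm Ω} (hx : x ∈ XX p H s)
    (hy : y ∈ XX p H s) (hxP : x ∈ P) (hyP : y ∈ P) : (∀ a, x a = a ∨ y a = a) ∨ ∃ i : ℤ, y = x ^ i := by
  have hc : Commute x y := commute_of_isPGroup hP hxP hyP (pow_eq_one hx.2.1) (pow_eq_one hy.2.1)
    (by rw [hx.2.2]; exact D.lt) (by rw [hy.2.2]; exact D.lt)
  by_cases hm : ∀ a, x a = a ∨ y a = a
  · exact Or.inl hm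
  push Not at hm
  obtain ⟨a, hxa, hya⟩ := hm
  obtain ⟨i, hi⟩ := D.exists_zpow_of_commute hx hy.1 (pow_eq_one hy.2.1) hc
  right
  refine ⟨i, ?_⟩
  have h1 : (x ^ i) a ≠ a := by rw [← hi a hxa]; exact hya
  have hsub : x.support ⊆ y.support := by
    intro b hb
    rw [mem_support] at hb ⊢
    rw [hi b hb]
    exact zpow_ne hp.out (pow_eq_one hx.2.1) h1 hb
  have heq : x.support = y.support := Finset.eq_of_subset_of_card_le hsub (by rw [hx.2.2, hy.2.2])
  apply Equiv.ext
  intro b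
  by_cases hb : x b = b
  · have h2 : b ∉ y.support := by
      rw [← heq, mem_support, not_not]
      exact hb
    rw [mem_support, not_not] at h2
    rw [h2, Perm.zpow_apply_eq_self_of_apply_eq_self hb]
  · exact hi b hb

/-- L4 -/
theorem exists_conj {x y : Perm Ω} (hx : x ∈ XX p H s) (hy : y ∈ XX p H s) {a : Ω} (hxa : x a ≠ a) (hya : y a ≠ a) :
    ∃ l ∈ Subgroup.closure {x, y}, ∃ i : ℤ, l * y * l⁻¹ = x ^ i := by
  classical
  set L := Subgroup.closure {x, y} with hL
  have hxL : x ∈ L := Subgroup.subset_closure (by simp)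
  have hyL : y ∈ L := Subgroup.subset_closure (by simp)
  have hLH : L ≤ H := by
    rw [hL, Subgroup.closure_le]
    rintro z (rfl | rfl)
    · exact hx.1
    · exact hy.1
  have hzp : ∀ z : L, orderOf (z : Perm Ω) = p → IsPGroup p (Subgroup.zpowers z) := by
    intro z hz
    refine IsPGroup.of_card (n := 1) ?_
    rw [Nat.card_zpowers, pow_one, ← hz, Subgroup.orderOf_coe]
  obtain ⟨T, hT⟩ := (hzp ⟨x, hxL⟩ hx.2.1).exists_le_sylow
  obtain ⟨T', hT'⟩ := (hzp ⟨y, hyL⟩ hy.2.1).exists_le_sylow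
  obtain ⟨l, hl⟩ := MulAction.exists_smul_eq L T' T
  have hxT : (⟨x, hxL⟩ : L) ∈ (T : Subgroup L) := hT (Subgroup.mem_zpowers _)
  have hyT : l * (⟨y, hyL⟩ : L) * l⁻¹ ∈ (T : Subgroup L) := by
    have h1 : (⟨y, hyL⟩ : L) ∈ (T' : Subgroup L) := hT' (Subgroup.mem_zpowers _)
    have h2 : MulAut.conj l • (⟨y, hyL⟩ : L) ∈ (MulAut.conj l • (T' : Subgroup L) : Subgroup L) :=
      Subgroup.smul_mem_pointwise_smul _ _ _ h1
    rw [← hl]
    exact h2
  -- supports
  have hinv : ∀ z ∈ L, ∀ b, (x b ≠ b ∨ y b ≠ b) → (x (z b) ≠ z b ∨ y (z b) ≠ z b) := by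
    intro z hz
    refine Subgroup.closure_induction (p := fun z _ => ∀ b, (x b ≠ b ∨ y b ≠ b) → (x (z b) ≠ z b ∨ y (z b) ≠ z b))
      ?_ ?_ ?_ ?_ hz
    · rintro z (rfl | rfl) b hb
      · by_cases h1 : z b = b
        · rw [h1]; exact hb
        · exact Or.inl fun h => h1 (z.injective h)
      · by_cases h1 : z b = b
        · rw [h1]; exact hb
        · exact Or.inr fun h => h1 (z.injective h)
    · intro b hb; exact hb
    · intro z w _ _ hz hw b hb
      exact hz (w b) (hw b hb)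
    · intro z _ hz b hb
      -- the map induced on the finite set is onto
      have h1 : ∀ n : ℕ, x ((z ^ n) b) ≠ (z ^ n) b ∨ y ((z ^ n) b) ≠ (z ^ n) b := by
        intro n
        induction n with
        | zero => exact hb
        | succ n ih =>
          rw [pow_succ', Perm.mul_apply]
          exact hz _ ih
      have h2 : z⁻¹ = z ^ (orderOf z - 1) := by
        rw [inv_eq_iff_mul_eq_one, ← pow_succ', Nat.sub_add_cancel (orderOf_pos z)]
        exact pow_orderOf_eq_one z
      rw [h2]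
      exact h1 _
  have hlH : (l : Perm Ω) ∈ H := hLH l.2
  set y' : Perm Ω := l * y * (l : Perm Ω)⁻¹ with hy'
  have hyX : y' ∈ XX p H s := by
    refine ⟨H.mul_mem (H.mul_mem hlH hy.1) (H.inv_mem hlH), ?_, ?_⟩
    · rw [hy', ← MulAut.conj_apply, MulEquiv.orderOf_eq]
      exact hy.2.1
    · rw [hy', Perm.card_support_conj]
      exact hy.2.2
  have hP : IsPGroup p ((T : Subgroup L).map L.subtype) := T.isPGroup'.map _
  rcases D.disjoint_or hP hx hyX ⟨_, hxT, rfl⟩ ⟨_, hyT, rfl⟩ with h | ⟨i, hi⟩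
  · exfalso
    -- disjoint supports inside `supp x ∪ supp y`
    have h1 : Disjoint x.support y'.support := by
      rw [Finset.disjoint_left]
      intro b hb hb'
      rw [mem_support] at hb hb'
      rcases h b with h | h
      · exact hb h
      · exact hb' h
    have h2 : x.support ∪ y'.support ⊆ x.support ∪ y.support := by
      intro b hb
      rw [Finset.mem_union] at hb ⊢
      rcases hb with hb | hb
      · exact Or.inl hb
      · rw [mem_support, hy', Perm.mul_apply, Perm.mul_apply] at hb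
        have h3 : y ((l : Perm Ω)⁻¹ b) ≠ (l : Perm Ω)⁻¹ b := by
          intro h4
          rw [h4] at hb
          exact hb ((l : Perm Ω).apply_symm_apply b)
        have h5 := hinv l l.2 _ (Or.inr h3)
        have h6 : (l : Perm Ω) ((l : Perm Ω)⁻¹ b) = b := (l : Perm Ω).apply_symm_apply b
        rw [h6] at h5
        rcases h5 with h5 | h5
        · exact Or.inl (mem_support.2 h5)
        · exact Or.inr (mem_support.2 h5)
    have h3 := Finset.card_le_card h2
    rw [Finset.card_union_of_disjoint h1, hx.2.2, hyX.2.2] at h3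
    have h4 := Finset.card_union_add_card_inter x.support y.support
    rw [hx.2.2, hy.2.2] at h4
    have h5 : 0 < (x.support ∩ y.support).card :=
      Finset.card_pos.2 ⟨a, Finset.mem_inter.2 ⟨mem_support.2 hxa, mem_support.2 hya⟩⟩
    omega
  · exact ⟨l, l.2, i, hi⟩

/-- L5 -/
theorem two_mul_le (hd : p ^ 2 ∣ Nat.card H) {x : Perm Ω} (hx : x ∈ XX p H s) : 2 * s ≤ Fintype.card Ω := by
  classical
  have hxp : x ^ p = 1 := pow_eq_one hx.2.1
  have hx1 : x ≠ 1 := ne_one hp.out hx.2.1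
  -- an element `t` of `H` which commutes with `x`, not in `⟨x⟩`, with `t ^ p ∈ ⟨x⟩`
  obtain ⟨t, htH, htx, htn, htp⟩ : ∃ t ∈ H, Commute x t ∧ t ∉ Subgroup.zpowers x ∧ t ^ p ∈ Subgroup.zpowers x := by
    have hzp : IsPGroup p (Subgroup.zpowers (⟨x, hx.1⟩ : H)) := by
      refine IsPGroup.of_card (n := 1) ?_
      rw [Nat.card_zpowers, pow_one, Subgroup.orderOf_mk]
      exact hx.2.1
    obtain ⟨P, hP⟩ := hzp.exists_le_sylow
    have hcP : p ^ 2 ∣ Nat.card P := P.pow_dvd_card_of_pow_dvd_card hd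
    have hxP : (⟨x, hx.1⟩ : H) ∈ (P : Subgroup H) := hP (Subgroup.mem_zpowers _)
    let X : P := ⟨⟨x, hx.1⟩, hxP⟩
    have hPp : IsPGroup p P := P.isPGroup'
    have hXo : orderOf X = p :=
      ((Subgroup.orderOf_coe X).symm.trans (Subgroup.orderOf_coe (X : H)).symm).trans hx.2.1
    -- a central subgroup
    have hPn : Nontrivial P := ⟨X, 1, fun h => hx1 (congrArg (fun z : P => ((z : H) : Perm Ω)) h)⟩
    have hZ : Nontrivial (Subgroup.center P) := hPp.center_nontrivial
    have hZp : IsPGroup p (Subgroup.center P) := hPp.to_subgroup _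
    have hdvd : p ∣ Nat.card (Subgroup.center P) := by
      obtain ⟨n, hn, hc⟩ := hZp.nontrivial_iff_card.1 hZ
      rw [hc]
      exact dvd_pow_self p (by omega)
    obtain ⟨z, hz⟩ := exists_prime_orderOf_dvd_card' p hdvd
    have hzc : ∀ g : P, Commute g (z : P) := fun g => Subgroup.mem_center_iff.1 z.2 g
    have hzo : orderOf (z : P) = p := by rw [Subgroup.orderOf_coe, hz]
    by_cases hzX : (z : P) ∈ Subgroup.zpowers X
    · -- `X` is central; take an element of order `p` in the quotient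
      have hXc : ∀ g : P, Commute g X := by
        have h1 : Subgroup.zpowers X = Subgroup.zpowers (z : P) := by
          refine (Subgroup.eq_of_le_of_card_ge (Subgroup.zpowers_le.2 hzX) ?_).symm
          rw [Nat.card_zpowers, Nat.card_zpowers, hXo, hzo]
        intro g
        have h2 : X ∈ Subgroup.zpowers (z : P) := by rw [← h1]; exact Subgroup.mem_zpowers X
        obtain ⟨k, hk⟩ := Subgroup.mem_zpowers_iff.1 h2
        rw [← hk]
        exact (hzc g).zpow_right k
      have hnor : (Subgroup.zpowers X).Normal := by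
        constructor
        intro w hw g
        obtain ⟨k, rfl⟩ := Subgroup.mem_zpowers_iff.1 hw
        have h1 : g * X ^ k * g⁻¹ = X ^ k := by
          rw [((hXc g).zpow_right k).eq, mul_inv_cancel_right]
        rw [h1]
        exact hw
      have hidx : p ∣ Nat.card (P ⧸ Subgroup.zpowers X) := by
        have h1 : Nat.card P = Nat.card (P ⧸ Subgroup.zpowers X) * Nat.card (Subgroup.zpowers X) :=
          Subgroup.card_eq_card_quotient_mul_card_subgroup _
        rw [Nat.card_zpowers, hXo] at h1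
        rw [h1, pow_two] at hcP
        exact Nat.dvd_of_mul_dvd_mul_right hp.out.pos hcP
      obtain ⟨q, hq⟩ := exists_prime_orderOf_dvd_card' p hidx
      obtain ⟨t, rfl⟩ := QuotientGroup.mk_surjective q
      refine ⟨((t : H) : Perm Ω), (t : H).2, ?_, ?_, ?_⟩
      · exact congrArg (fun z : P => ((z : H) : Perm Ω)) (hXc t).symm.eq
      · rintro ⟨k, hk⟩
        have h1 : X ^ k = t := by
          apply Subtype.ext
          apply Subtype.ext
          rw [← hk]
          simp [X]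
        have h2 : (t : P ⧸ Subgroup.zpowers X) = 1 := by
          rw [QuotientGroup.eq_one_iff, ← h1]
          exact Subgroup.zpow_mem _ (Subgroup.mem_zpowers X) k
        rw [h2, orderOf_one] at hq
        exact hp.out.one_lt.ne hq
      · have h1 : (t : P ⧸ Subgroup.zpowers X) ^ p = 1 := orderOf_dvd_iff_pow_eq_one.1 hq.dvd
        rw [← QuotientGroup.mk_pow, QuotientGroup.eq_one_iff] at h1
        obtain ⟨k, hk⟩ := Subgroup.mem_zpowers_iff.1 h1
        refine Subgroup.mem_zpowers_iff.2 ⟨k, ?_⟩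
        have h2 := congrArg (fun z : P => ((z : H) : Perm Ω)) hk
        simpa only [X, _root_.SubgroupClass.coe_zpow, _root_.SubmonoidClass.coe_pow] using h2
    · refine ⟨(((z : P) : H) : Perm Ω), ((z : P) : H).2, ?_, ?_, ?_⟩
      · exact congrArg (fun z : P => ((z : H) : Perm Ω)) (hzc X).eq
      · rintro ⟨k, hk⟩
        apply hzX
        refine Subgroup.mem_zpowers_iff.2 ⟨k, ?_⟩
        apply Subtype.ext
        apply Subtype.ext
        rw [← hk]
        simp [X]
      · have h1 : (z : P) ^ p = 1 := orderOf_dvd_iff_pow_eq_one.1 hzo.dvd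
        have h2 := congrArg (fun z : P => ((z : H) : Perm Ω)) h1
        have h3 : (((z : P) : H) : Perm Ω) ^ p = 1 := by simpa only [_root_.SubmonoidClass.coe_pow, _root_.OneMemClass.coe_one] using h2
        rw [h3]
        exact Subgroup.one_mem _
  obtain ⟨k, hk⟩ := Subgroup.mem_zpowers_iff.1 htp
  -- `t ^ p` is trivial on `supp x`
  have ht1 : t ^ p = 1 := by
    obtain ⟨a0, ha0⟩ : ∃ a, x a ≠ a := by
      by_contra h
      push Not at h
      exact hx1 (Equiv.ext h)
    obtain ⟨i, hi⟩ := exists_zpow hp.out hxp (by rw [hx.2.2]; exact D.lt) htx ⟨k, hk.symm⟩ ha0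
    have h1 : ∀ n : ℕ, (t ^ n) a0 = (x ^ (i * n)) a0 := by
      intro n
      induction n with
      | zero => simp
      | succ n ih =>
        have hc : Commute (x ^ (i * n)) t := htx.zpow_left _
        rw [pow_succ', Perm.mul_apply, ih, ← Perm.mul_apply, ← hc.eq, Perm.mul_apply, hi, ← Perm.mul_apply,
          ← zpow_add]
        congr 2
        push_cast
        ring
    have h2 := h1 p
    have h5 : x ^ (i * (p : ℤ)) = 1 := by rw [mul_comm, zpow_mul, zpow_natCast, hxp, one_zpow]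
    rw [h5, ← hk] at h2
    have h3 : x ^ k = 1 := by
      by_contra h4
      obtain ⟨b, hb⟩ : ∃ b, (x ^ k) b ≠ b := by
        by_contra h
        push Not at h
        exact h4 (Equiv.ext h)
      exact zpow_ne hp.out hxp hb ha0 h2
    rw [← hk, h3]
  obtain ⟨i, hi⟩ := D.exists_zpow_of_commute hx htH ht1 htx
  set w : Perm Ω := x ^ (-i) * t with hw
  have hwH : w ∈ H := H.mul_mem (H.zpow_mem hx.1 _) htH
  have hwp : w ^ p = 1 := by
    have hc : Commute (x ^ (-i)) t := htx.zpow_left _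
    rw [hw, hc.mul_pow, ht1, mul_one, ← zpow_natCast, ← zpow_mul, mul_comm, zpow_mul, zpow_natCast, hxp, one_zpow]
  have hwo : orderOf w = p := by
    refine (Nat.dvd_prime hp.out).1 (orderOf_dvd_of_pow_eq_one hwp) |>.resolve_left ?_
    intro h
    rw [orderOf_eq_one_iff, hw] at h
    apply htn
    refine Subgroup.mem_zpowers_iff.2 ⟨i, ?_⟩
    rw [zpow_neg, inv_mul_eq_one] at h
    exact h
  have hdis : Disjoint x.support w.support := by
    rw [Finset.disjoint_left]
    intro b hb hb'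
    rw [mem_support] at hb hb'
    apply hb'
    rw [hw, Perm.mul_apply, hi b hb, ← Perm.mul_apply, ← zpow_add, neg_add_cancel]
    rfl
  have h1 := D.min w hwH hwo
  have h2 := Finset.card_le_univ (x.support ∪ w.support)
  rw [Finset.card_union_of_disjoint hdis, hx.2.2] at h2
  omega

end MinData

end Cfsg.Agent.H426.FC
end

-- part: H426/FC/TwoCl
section
/-!
# S3618, part B: the 2-closure, and the final geometry
-/

set_option autoImplicit false

open Equiv Equiv.Perm MulAction

namespace Cfsg.Agent.H426.FC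

universe u

variable {Ω : Type u}

/-- the 2-closure -/
def cl2 (K : Subgroup (Perm Ω)) : Subgroup (Perm Ω) where
  carrier := {σ | ∀ a b : Ω, ∃ h ∈ K, h a = σ a ∧ h b = σ b}
  one_mem' := fun _ _ => ⟨1, K.one_mem, rfl, rfl⟩
  mul_mem' := by
    intro σ τ hσ hτ a b
    obtain ⟨h, hh, h1, h2⟩ := hτ a b
    obtain ⟨g, hg, g1, g2⟩ := hσ (τ a) (τ b)
    exact ⟨g * h, K.mul_mem hg hh, by rw [Perm.mul_apply, h1, g1, Perm.mul_apply],
      by rw [Perm.mul_apply, h2, g2, Perm.mul_apply]⟩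
  inv_mem' := by
    intro σ hσ a b
    obtain ⟨h, hh, h1, h2⟩ := hσ (σ⁻¹ a) (σ⁻¹ b)
    refine ⟨h⁻¹, K.inv_mem hh, ?_, ?_⟩
    · rw [Perm.inv_eq_iff_eq, h1]
      exact (σ.apply_symm_apply a).symm
    · rw [Perm.inv_eq_iff_eq, h2]
      exact (σ.apply_symm_apply b).symm

theorem le_cl2 (K : Subgroup (Perm Ω)) : K ≤ cl2 K := fun σ hσ _ _ => ⟨σ, hσ, rfl, rfl⟩

theorem twoClosed_cl2 (K : Subgroup (Perm Ω)) : TwoClosed (cl2 K) := by
  intro σ hσ a b
  obtain ⟨h, hh, h1, h2⟩ := hσ a b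
  obtain ⟨g, hg, g1, g2⟩ := hh a b
  exact ⟨g, hg, g1.trans h1, g2.trans h2⟩

/-- an overgroup of a primitive group is primitive -/
theorem isPreprimitive_of_le {K H : Subgroup (Perm Ω)} (h : K ≤ H) (hK : IsPreprimitive K Ω) : IsPreprimitive H Ω := by
  let f : Ω →ₑ[Subgroup.inclusion h] Ω := { toFun := id, map_smul' := fun _ _ => rfl }
  exact IsPreprimitive.of_surjective (f := f) Function.surjective_id

theorem not_two_cl2 {K : Subgroup (Perm Ω)} (h : ¬ IsMultiplyPretransitive K Ω 2) :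
    ¬ IsMultiplyPretransitive (cl2 K) Ω 2 := by
  intro h2
  apply h
  rw [is_two_pretransitive_iff] at h2 ⊢
  intro a b c d hab hcd
  obtain ⟨⟨σ, hσ⟩, h1, h3⟩ := h2 hab hcd
  obtain ⟨g, hg, g1, g2⟩ := hσ a b
  exact ⟨⟨g, hg⟩, g1.trans h1, g2.trans h3⟩

/-- a primitive group containing the alternating group of degree at least 4 is 2-transitive -/
theorem two_of_alt [Fintype Ω] [DecidableEq Ω] {K : Subgroup (Perm Ω)} (h : alternatingGroup Ω ≤ K)
    (h4 : 4 ≤ Fintype.card Ω) : IsMultiplyPretransitive K Ω 2 := by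
  have h1 : IsMultiplyPretransitive (alternatingGroup Ω) Ω (Nat.card Ω - 2) :=
    alternatingGroup.isMultiplyPretransitive Ω
  have h2 : IsMultiplyPretransitive (alternatingGroup Ω) Ω 2 := by
    refine isMultiplyPretransitive_of_le (n := Nat.card Ω - 2) ?_ ?_
    · rw [Nat.card_eq_fintype_card]; omega
    · rw [Nat.card_eq_fintype_card]
      exact Nat.sub_le _ _
  rw [is_two_pretransitive_iff] at h2 ⊢
  intro a b c d hab hcd
  obtain ⟨⟨g, hg⟩, h3, h5⟩ := h2 hab hcd
  exact ⟨⟨g, h hg⟩, h3, h5⟩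

/-- GEOM -/
theorem no_geometry (XX : Set (Perm Ω))
    (P1 : ∀ a b y : Ω, a ≠ b → a ≠ y → b ≠ y → (∀ x ∈ XX, x a = a → x b = b → x y = y) →
      ∀ x ∈ XX, x a = a → x y = y → x b = b)
    (P2 : ∀ a b : Ω, a ≠ b → ∃ y, y ≠ a ∧ y ≠ b ∧ ∀ x ∈ XX, x a = a → x b = b → x y = y)
    (P3 : ∀ a b b' y : Ω, b ≠ a → b' ≠ a → y ≠ a → (∀ x ∈ XX, x a = a → x b = b → x b' = b' → x y = y) →
      (∀ x ∈ XX, x a = a → x b = b → x y = y) ∨ (∀ x ∈ XX, x a = a → x b' = b' → x y = y))
    (P4 : ∃ a b b' : Ω, b ≠ a ∧ b' ≠ a ∧ b ≠ b' ∧ ∃ x ∈ XX, x a = a ∧ x b = b ∧ x b' ≠ b') : False := by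
  obtain ⟨a, b, b', hb, hb', hbb, x, hx, hxa, hxb, hxb'⟩ := P4
  -- `b'` is not in `F a b`
  have hnot : ¬ ∀ x ∈ XX, x a = a → x b = b → x b' = b' := fun h => hxb' (h x hx hxa hxb)
  obtain ⟨y, hyb, hyb', hy⟩ := P2 b b' hbb
  -- `y ≠ a`
  have hya : y ≠ a := by
    rintro rfl
    exact hnot fun x hx h1 h2 => P1 b b' y hbb (Ne.symm hyb) (Ne.symm hyb') hy x hx h2 h1
  -- `b' ∈ F (b, y)` and `b ∈ F (b', y)`
  have h1 := P1 b b' y hbb (Ne.symm hyb) (Ne.symm hyb') hy
  have h2 := P1 b' b y (Ne.symm hbb) (Ne.symm hyb') (Ne.symm hyb) fun x hx h h' => hy x hx h' h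
  rcases P3 a b b' y hb hb' hya fun x hx _ h3 h4 => hy x hx h3 h4 with h | h
  · exact hnot fun x hx h3 h4 => h1 x hx h4 (h x hx h3 h4)
  · have h3 : ∀ x ∈ XX, x a = a → x b' = b' → x b = b := fun x hx h3 h4 => h2 x hx h4 (h x hx h3 h4)
    exact hnot (P1 a b' b (Ne.symm hb') (Ne.symm hb) (Ne.symm hbb) h3)

end Cfsg.Agent.H426.FC
end

private theorem dce_e00ce7cd26b2 : _root_.True := by
  try have : _root_.True := by simp only [_root_.Cfsg.Agent.H426.FC.expo.congr_simp]
  exact _root_.True.intro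
end

section
prune_inst 0xfdfef9ffbcfddfffff7e7ffefddffe39d6dfffffdfff4bffedfbffefdf23e73be5fbaf9de458ffded7e29630b87853fb7eefffae6fdc7ffffd5ff45ffbec1f976fbf8d51d7bc341ff66ffffbf17fbfffc00000000000000000000000000041004000000000

-- part: H411/PrA/Defs_mg
section
prune_inst 0x400000
set_option linter.all false
open scoped Cfsg.Agent.FastGrp

-- part: H411/PrA/Defs
section
/-!
# S3618, part A (`p ^ 2` does not divide `|K|`, `K` not 2-transitive): definitions (helper411)

Plan: `tools/plans/S3618_A.md`.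
-/

set_option autoImplicit false

open Equiv Equiv.Perm MulAction

namespace Cfsg.Agent.H411.PrA

universe u v

/-- the 2-transitive case (lemma 2T) -/
def TwoT (p : ℕ) : Prop :=
  ∀ (Ω : Type u) [Fintype Ω] [DecidableEq Ω] (K : Subgroup (Perm Ω)), IsMultiplyPretransitive K Ω 2 →
    ∀ x ∈ K, orderOf x = p → ∀ q : ℕ, 2 ≤ q → q < p → x.support.card = q * p →
      2 * (Fintype.card Ω - q * p + 1) ≤ 5 * q ∨ alternatingGroup Ω ≤ K

/-- the conclusion "pairs" -/
def Pairs (p q n : ℕ) (G : Type u) [Group G] : Prop :=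
  ∃ c : ℕ, p ≤ c ∧ n = c.choose 2 ∧ 2 * q + p + 1 = 2 * c ∧
    (Nonempty (G ≃* alternatingGroup (Fin c)) ∨ Nonempty (G ≃* Perm (Fin c)))

/-- the theorem for primitive groups of degree `< N` whose order is not divisible by `p ^ 2` -/
def Claim (p N : ℕ) : Prop :=
  ∀ (Ω : Type u) [Fintype Ω] [DecidableEq Ω] (K : Subgroup (Perm Ω)), Fintype.card Ω < N → IsPreprimitive K Ω →
    ¬ p ^ 2 ∣ Nat.card K → ∀ x ∈ K, orderOf x = p → ∀ q : ℕ, 2 ≤ q → q < p → x.support.card = q * p →
      5 * q < 2 * (Fintype.card Ω - q * p + 1) → Pairs p q (Fintype.card Ω) K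

/-- the theorem for primitive groups -/
def PrimThm : Prop :=
  ∀ (Ω : Type u) [Fintype Ω] [DecidableEq Ω] (K : Subgroup (Perm Ω)), IsPreprimitive K Ω →
    ∀ p q : ℕ, p.Prime → 2 ≤ q → q < p → ∀ x ∈ K, orderOf x = p → x.support.card = q * p →
      2 * (Fintype.card Ω - q * p + 1) ≤ 5 * q ∨ alternatingGroup Ω ≤ K ∨ Pairs p q (Fintype.card Ω) K

section

variable {Ω : Type u}

/-- the standing hypotheses of part A -/
structure Setup [Fintype Ω] [DecidableEq Ω] (p q : ℕ) (K : Subgroup (Perm Ω)) : Prop where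
  prime : p.Prime
  two_le : 2 ≤ q
  lt : q < p
  prim : IsPreprimitive K Ω
  not2 : ¬ IsMultiplyPretransitive K Ω 2
  sylow : ¬ p ^ 2 ∣ Nat.card K
  supp : ∀ x ∈ K, orderOf x = p → x.support.card = q * p
  ex : ∃ x ∈ K, orderOf x = p
  fix : q * p < Fintype.card Ω

/-- the subgroup generated by the elements of order `p` in `K` which fix `a` -/
def M (p : ℕ) (K : Subgroup (Perm Ω)) (a : Ω) : Subgroup (Perm Ω) :=
  Subgroup.closure {x | x ∈ K ∧ orderOf x = p ∧ x a = a}

open Classical in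
/-- the orbit of `b` under `M p K a` -/
noncomputable def orb [Fintype Ω] (p : ℕ) (K : Subgroup (Perm Ω)) (a b : Ω) : Finset Ω :=
  Finset.univ.filter (fun c => ∃ m ∈ M p K a, m b = c)

/-- number of points of `O` moved by `x` -/
def mv [DecidableEq Ω] (x : Perm Ω) (O : Finset Ω) : ℕ := (O.filter (fun c => x c ≠ c)).card

/-- number of points of `O` fixed by `x` -/
def fx [DecidableEq Ω] (x : Perm Ω) (O : Finset Ω) : ℕ := (O.filter (fun c => x c = c)).card

/-- `M p K a` is doubly transitive on `O` -/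
def Two (p : ℕ) (K : Subgroup (Perm Ω)) (a : Ω) (O : Finset Ω) : Prop :=
  ∀ c ∈ O, ∀ d ∈ O, ∀ c' ∈ O, ∀ d' ∈ O, c ≠ d → c' ≠ d' → ∃ m ∈ M p K a, m c = c' ∧ m d = d'

/-- `b` is bad (for `a` and `φ`): the stabilizer of `b` in `M p K a` maps onto the alternating group -/
def Bad {p m : ℕ} {K : Subgroup (Perm Ω)} {a : Ω} (φ : M p K a →* alternatingGroup (Fin m)) (b : Ω) : Prop :=
  ∀ s : alternatingGroup (Fin m), ∃ y : M p K a, (y : Perm Ω) b = b ∧ φ y = s

/-- `M p K a` modulo a normal subgroup is an alternating group of degree `p + u`, `3 ≤ u < p`, and `b` is a point which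
is not bad and is fixed by an element of order `p`. -/
def AltType (p : ℕ) (K : Subgroup (Perm Ω)) (a : Ω) : Prop :=
  ∃ u : ℕ, 3 ≤ u ∧ u < p ∧ ∃ φ : M p K a →* alternatingGroup (Fin (p + u)), Function.Surjective φ ∧
    ∃ b : Ω, b ≠ a ∧ (∃ y ∈ K, orderOf y = p ∧ y a = a ∧ y b = b) ∧ ¬ Bad φ b ∧
      (5 ≤ u ∨ ∃ i : Fin (p + u), ∀ y : M p K a, (y : Perm Ω) b = b → ((φ y : Perm (Fin (p + u))) i = i))

/-- some member of `XX` fixes `a` and `b` -/
def NF (XX : Set (Perm Ω)) (a b : Ω) : Prop := ∃ x ∈ XX, x a = a ∧ x b = b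

/-- The combinatorial structure. `XX` will be the set of elements of order `p` of `K`. For each point `a` the members of `XX` fixing `a`
are mapped (by `P a`) onto the `p`-subsets of `{1, ..., m}`; for each `b ≠ a` fixed by one of them (`NF`) there is a subset
`S a b` of size 1 or 2 of `{1, ..., m}` such that `x` (fixing `a`) fixes `b` iff `P a x` is disjoint from `S a b`; each singleton is
`S a b` for exactly `B` points `b`, each pair for exactly `ε` points. -/
structure Geo (p m B ε : ℕ) (XX : Set (Perm Ω)) where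
  P : Ω → Perm Ω → Finset (Fin m)
  S : Ω → Ω → Finset (Fin m)
  card_P : ∀ a, ∀ x ∈ XX, x a = a → (P a x).card = p
  surj_P : ∀ (a : Ω) (T : Finset (Fin m)), T.card = p → ∃ x ∈ XX, x a = a ∧ P a x = T
  card_S : ∀ a b, a ≠ b → NF XX a b → 1 ≤ (S a b).card ∧ (S a b).card ≤ 2
  fix_iff : ∀ a b, a ≠ b → NF XX a b → ∀ x ∈ XX, x a = a → (x b = b ↔ Disjoint (P a x) (S a b))
  card_B : ∀ a i, {b | a ≠ b ∧ NF XX a b ∧ S a b = {i}}.ncard = B
  card_ε : ∀ a i j, i ≠ j → {b | a ≠ b ∧ NF XX a b ∧ S a b = {i, j}}.ncard = ε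

/-- collinear: `b ≠ a` and `S a b` is a singleton -/
def Geo.Near {p m B ε : ℕ} {XX : Set (Perm Ω)} (g : Geo p m B ε XX) (a b : Ω) : Prop :=
  a ≠ b ∧ NF XX a b ∧ (g.S a b).card = 1

/-- the graph of collinear points is connected -/
def Geo.Conn {p m B ε : ℕ} {XX : Set (Perm Ω)} (g : Geo p m B ε XX) : Prop :=
  ∀ a b, Relation.ReflTransGen g.Near a b

end

end Cfsg.Agent.H411.PrA
end

-- part: H273/FC/Conn
section
/-!
# S3618, part B: connectivity (helper273)

Section 2 of `tools/plans/S3618_B_helper426.md`.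
-/

set_option autoImplicit false

open Equiv Equiv.Perm MulAction
open scoped Pointwise

namespace Cfsg.Agent.H273.FC

open Cfsg.Agent.H426.FC

universe u

variable {Ω : Type u} [Fintype Ω] [DecidableEq Ω]

omit [Fintype Ω] [DecidableEq Ω] in
theorem inv_self' (h : Perm Ω) (a : Ω) : h⁻¹ (h a) = a := h.symm_apply_apply a

omit [Fintype Ω] [DecidableEq Ω] in
theorem self_inv' (h : Perm Ω) (a : Ω) : h (h⁻¹ a) = a := h.apply_symm_apply a

/-- members fixing `a` -/
def Fx (XX : Set (Perm Ω)) (a : Ω) : Set (Perm Ω) := {x | x ∈ XX ∧ x a = a}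

theorem ncard_Fx {H : Subgroup (Perm Ω)} {XX : Set (Perm Ω)} {s : ℕ} (hX : Fam H XX s) {h : Perm Ω} (hh : h ∈ H)
    (a : Ω) : (Fx XX (h a)).ncard = (Fx XX a).ncard := by
  have h1 : Fx XX (h a) = (MulAut.conj h) '' Fx XX a := by
    ext x
    constructor
    · rintro ⟨hx, hxa⟩
      refine ⟨h⁻¹ * x * h, ⟨?_, ?_⟩, ?_⟩
      · have := hX.conj h⁻¹ (H.inv_mem hh) x hx
        rwa [inv_inv] at this
      · rw [Perm.mul_apply, Perm.mul_apply, hxa, inv_self']
      · rw [MulAut.conj_apply]; group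
    · rintro ⟨y, ⟨hy, hya⟩, rfl⟩
      rw [MulAut.conj_apply]
      exact ⟨hX.conj h hh y hy, by rw [Perm.mul_apply, Perm.mul_apply, inv_self', hya]⟩
  rw [h1, Set.ncard_image_of_injective _ (MulAut.conj h).injective]

theorem conj_Fx {H : Subgroup (Perm Ω)} {XX : Set (Perm Ω)} {s : ℕ} (hX : Fam H XX s) {h : Perm Ω} (hh : h ∈ H)
    {a b : Ω} (hab : Fx XX a = Fx XX b) : Fx XX (h a) = Fx XX (h b) := by
  have key : ∀ a b : Ω, Fx XX a = Fx XX b → Fx XX (h a) ⊆ Fx XX (h b) := by
    intro a b hab x hx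
    have h1 : h⁻¹ * x * h ∈ Fx XX a := by
      refine ⟨?_, ?_⟩
      · have := hX.conj h⁻¹ (H.inv_mem hh) x hx.1
        rwa [inv_inv] at this
      · rw [Perm.mul_apply, Perm.mul_apply, hx.2, inv_self']
    rw [hab] at h1
    refine ⟨hx.1, ?_⟩
    have h2 := h1.2
    rw [Perm.mul_apply, Perm.mul_apply, Perm.inv_eq_iff_eq] at h2
    exact h2
  exact (key a b hab).antisymm (key b a hab.symm)

/-- CONN (i) (section 2 (i) of the plan) -/
theorem exists_fix_move (H : Subgroup (Perm Ω)) (hprim : IsPreprimitive H Ω) (XX : Set (Perm Ω)) (s : ℕ)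
    (hX : Fam H XX s) (a b : Ω) (hab : a ≠ b) : ∃ x ∈ XX, x a = a ∧ x b ≠ b := by
  by_contra hcon
  push Not at hcon
  have htr : IsPretransitive H Ω := hprim.toIsPretransitive
  have hcard : ∀ c d : Ω, (Fx XX c).ncard = (Fx XX d).ncard := by
    intro c d
    obtain ⟨h, hh⟩ := MulAction.exists_smul_eq H d c
    have h1 : (h : Perm Ω) d = c := hh
    rw [← h1]
    exact ncard_Fx hX h.2 d
  have hsub : ∀ c d : Ω, Fx XX c ⊆ Fx XX d → Fx XX c = Fx XX d := fun c d h =>
    Set.eq_of_subset_of_ncard_le h (hcard d c).le (Set.toFinite _)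
  have hab' : Fx XX a = Fx XX b := hsub a b fun x hx => ⟨hx.1, hcon x hx.1 hx.2⟩
  let B : Set Ω := {c | Fx XX c = Fx XX a}
  have hB : IsBlock H B := by
    rw [isBlock_iff_smul_eq_of_mem]
    intro g c hc hgc
    have h1 : Fx XX c = Fx XX a := hc
    have h2 : Fx XX ((g : Perm Ω) c) = Fx XX a := hgc
    have h3 : ∀ d ∈ B, g • d ∈ B := by
      intro d hd
      have h4 : Fx XX d = Fx XX a := hd
      show Fx XX ((g : Perm Ω) d) = Fx XX a
      rw [← h2]
      exact conj_Fx hX g.2 (h4.trans h1.symm)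
    apply Set.eq_of_subset_of_ncard_le
    · rintro _ ⟨d, hd, rfl⟩
      exact h3 d hd
    · exact (Set.ncard_image_of_injective B (MulAction.injective g)).ge
    · exact Set.toFinite _
  rcases hprim.isTrivialBlock_of_isBlock hB with h1 | h1
  · exact hab (h1 rfl hab'.symm)
  · -- all members fixing `a` fix everything
    obtain ⟨x, hx⟩ := hX.nonempty
    have h2 : ∃ c, x c = c := by
      by_contra hne
      push Not at hne
      have h3 : x.support = Finset.univ := by
        rw [Finset.eq_univ_iff_forall]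
        intro c
        exact Perm.mem_support.2 (hne c)
      have h4 := hX.card x hx
      rw [h3, Finset.card_univ] at h4
      exact absurd hX.lt (by omega)
    obtain ⟨c, hc⟩ := h2
    have h3 : ∀ d : Ω, x d = d := by
      intro d
      have h4 : d ∈ B := by rw [h1]; trivial
      have h5 : c ∈ B := by rw [h1]; trivial
      have h6 : Fx XX c = Fx XX d := h5.trans (Eq.symm h4)
      have h7 : x ∈ Fx XX c := ⟨hx, hc⟩
      rw [h6] at h7
      exact h7.2
    have h4 : x.support = ∅ := by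
      rw [Finset.eq_empty_iff_forall_notMem]
      intro d hd
      exact Perm.mem_support.1 hd (h3 d)
    have h5 := hX.card x hx
    rw [h4, Finset.card_empty] at h5
    have := hX.two_le
    omega

omit [Fintype Ω] [DecidableEq Ω] in
theorem Rel.symm {XX : Set (Perm Ω)} {a b c : Ω} (h : Rel XX a b c) : Rel XX a c b := by
  obtain ⟨x, h1, h2, h3, h4⟩ := h
  exact ⟨x, h1, h2, h4, h3⟩

omit [Fintype Ω] [DecidableEq Ω] in
theorem rtg_symm {XX : Set (Perm Ω)} {a b c : Ω} (h : Relation.ReflTransGen (Rel XX a) b c) :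
    Relation.ReflTransGen (Rel XX a) c b := by
  induction h with
  | refl => exact Relation.ReflTransGen.refl
  | tail _ h2 ih => exact Relation.ReflTransGen.head (Rel.symm h2) ih

/-- the class of `b` -/
def cls (XX : Set (Perm Ω)) (a b : Ω) : Set Ω := {y | Relation.ReflTransGen (Rel XX a) b y}

theorem lift_rel {H : Subgroup (Perm Ω)} {XX : Set (Perm Ω)} {s : ℕ} (hX : Fam H XX s) {h : Perm Ω} (hh : h ∈ H)
    {a b c : Ω} (hbc : Relation.ReflTransGen (Rel XX a) b c) :
    Relation.ReflTransGen (Rel XX (h a)) (h b) (h c) := by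
  refine Relation.ReflTransGen.lift h ?_ _ _ hbc
  rintro y z ⟨x, h1, h2, h3, h4⟩
  refine ⟨h * x * h⁻¹, hX.conj h hh x h1, ?_, ?_, ?_⟩
  · rw [Perm.mul_apply, Perm.mul_apply, inv_self', h2]
  · rw [Perm.mul_apply, Perm.mul_apply, inv_self']
    exact fun h5 => h3 (h.injective h5)
  · rw [Perm.mul_apply, Perm.mul_apply, inv_self']
    exact fun h5 => h4 (h.injective h5)

/-- CONN (ii) (section 2 (ii) of the plan) -/
theorem connected (H : Subgroup (Perm Ω)) (hprim : IsPreprimitive H Ω) (XX : Set (Perm Ω)) (s : ℕ)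
    (hX : Fam H XX s) (a b b' : Ω) (hb : b ≠ a) (hb' : b' ≠ a) : Relation.ReflTransGen (Rel XX a) b b' := by
  classical
  by_contra hcon
  have htr : IsPretransitive H Ω := hprim.toIsPretransitive
  -- a class of maximal size
  obtain ⟨⟨a₁, b₁⟩, hm1, hmax⟩ := Finset.exists_max_image (Finset.univ.filter fun p : Ω × Ω => p.2 ≠ p.1)
    (fun p => (cls XX p.1 p.2).ncard) ⟨(a, b), Finset.mem_filter.2 ⟨Finset.mem_univ _, hb⟩⟩
  have hb1 : b₁ ≠ a₁ := (Finset.mem_filter.1 hm1).2
  have hmax' : ∀ c d : Ω, d ≠ c → (cls XX c d).ncard ≤ (cls XX a₁ b₁).ncard := fun c d hdc =>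
    hmax (c, d) (Finset.mem_filter.2 ⟨Finset.mem_univ _, hdc⟩)
  set Y := cls XX a₁ b₁ with hY
  have hbY : b₁ ∈ Y := Relation.ReflTransGen.refl
  have haY : a₁ ∉ Y := by
    intro h
    have h1 : Relation.ReflTransGen (Rel XX a₁) b₁ a₁ := h
    rcases Relation.ReflTransGen.cases_tail h1 with h2 | ⟨z, _, x, _, h3, _, h4⟩
    · exact hb1 h2.symm
    · exact h4 h3
  -- a second class
  obtain ⟨b₂, hb2, hb2Y⟩ : ∃ b₂, b₂ ≠ a₁ ∧ b₂ ∉ Y := by
    obtain ⟨h, hh⟩ := MulAction.exists_smul_eq H a₁ a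
    have h1 : (h : Perm Ω) a₁ = a := hh
    by_contra hne
    push Not at hne
    have e1 : (h : Perm Ω) ((h : Perm Ω)⁻¹ b) = b := self_inv' _ _
    have e2 : (h : Perm Ω) ((h : Perm Ω)⁻¹ b') = b' := self_inv' _ _
    have h2 : (h : Perm Ω)⁻¹ b ∈ Y := by
      apply hne
      rintro h3
      rw [h3, h1] at e1
      exact hb e1.symm
    have h3 : (h : Perm Ω)⁻¹ b' ∈ Y := by
      apply hne
      rintro h3
      rw [h3, h1] at e2
      exact hb' e2.symm
    have h4 : Relation.ReflTransGen (Rel XX a₁) ((h : Perm Ω)⁻¹ b) ((h : Perm Ω)⁻¹ b') :=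
      (rtg_symm h2).trans h3
    have h5 := lift_rel hX h.2 h4
    rw [h1, e1, e2] at h5
    exact hcon h5
  -- `Y` is a class for all `c` outside `Y`
  have hall : ∀ c, c ∉ Y → cls XX c b₁ = Y := by
    intro c hc
    have h1 : Y ⊆ cls XX c b₁ := by
      intro y hy
      have h2 : Relation.ReflTransGen (Rel XX a₁) b₁ y := hy
      show Relation.ReflTransGen (Rel XX c) b₁ y
      induction h2 with
      | refl => exact Relation.ReflTransGen.refl
      | @tail y z h3 h4 ih =>
        refine (ih h3).tail ?_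
        obtain ⟨x, x1, x2, x3, x4⟩ := h4
        refine ⟨x, x1, ?_, x3, x4⟩
        by_contra h5
        exact hc (Relation.ReflTransGen.tail h3 ⟨x, x1, x2, x3, h5⟩)
    exact (Set.eq_of_subset_of_ncard_le h1 (hmax' c b₁ (fun h => hc (h ▸ hbY))) (Set.toFinite _)).symm
  have hsupp : ∀ x ∈ XX, ∀ y ∈ Y, x y ≠ y → ∀ c, c ∉ Y → x c = c → ∀ z, x z ≠ z → z ∈ Y := by
    intro x hx y hy hxy c hc hxc z hz
    have h1 := hall c hc
    rw [← h1] at hy ⊢
    exact Relation.ReflTransGen.tail hy ⟨x, hx, hxc, hxy, hz⟩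
  -- the complement of `Y` is large
  have hbig : s + 1 ≤ Yᶜ.ncard := by
    obtain ⟨x, hx, hxa, hxb⟩ := exists_fix_move H hprim XX s hX a₁ b₂ hb2.symm
    have h1 : insert a₁ (x.support : Set Ω) ⊆ Yᶜ := by
      rw [Set.insert_subset_iff]
      refine ⟨haY, ?_⟩
      intro z hz hzY
      have h2 : x z ≠ z := Perm.mem_support.1 hz
      exact hb2Y (Relation.ReflTransGen.tail hzY ⟨x, hx, hxa, h2, hxb⟩)
    have h2 := Set.ncard_le_ncard h1 (Set.toFinite _)
    rw [Set.ncard_insert_of_notMem, Set.ncard_coe_finset, hX.card x hx] at h2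
    · exact h2
    · intro h3
      exact Perm.mem_support.1 h3 hxa
  have hin : ∀ x ∈ XX, ∀ y ∈ Y, x y ≠ y → ∀ z, x z ≠ z → z ∈ Y := by
    intro x hx y hy hxy
    by_contra hne
    have h1 : ∀ c, c ∉ Y → x c ≠ c := by
      intro c hc hxc
      exact hne (hsupp x hx y hy hxy c hc hxc)
    have h2 : Yᶜ ⊆ (x.support : Set Ω) := fun c hc => Perm.mem_support.2 (h1 c hc)
    have h3 := Set.ncard_le_ncard h2 (Set.toFinite _)
    rw [Set.ncard_coe_finset, hX.card x hx] at h3
    omega
  have hpres : ∀ x ∈ XX, ∀ y ∈ Y, x y ∈ Y := by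
    intro x hx y hy
    by_cases h1 : x y = y
    · rw [h1]; exact hy
    · exact hin x hx y hy h1 _ (fun h2 => h1 (x.injective h2))
  -- the normal subgroup generated by the members
  let T : Set H := {h | (h : Perm Ω) ∈ XX}
  have hN : Subgroup.normalClosure T ≤ stabilizer H Y := by
    rw [Subgroup.normalClosure, Subgroup.closure_le]
    intro g hg
    rw [Group.mem_conjugatesOfSet_iff] at hg
    obtain ⟨t, ht, hgt⟩ := hg
    obtain ⟨c, hc⟩ := isConj_iff.1 hgt
    have h1 : (g : Perm Ω) ∈ XX := by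
      rw [← hc]
      exact hX.conj c c.2 t ht
    rw [SetLike.mem_coe, mem_stabilizer_iff]
    apply Set.eq_of_subset_of_ncard_le
    · rintro _ ⟨d, hd, rfl⟩
      exact hpres g h1 d hd
    · exact (Set.ncard_image_of_injective Y (MulAction.injective g)).ge
    · exact Set.toFinite _
  have hq : IsPretransitive (Subgroup.normalClosure T) Ω := by
    have hqp : IsQuasiPreprimitive H Ω := inferInstance
    apply hqp.isPretransitive_of_normal
    intro h1
    obtain ⟨x, hx⟩ := hX.nonempty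
    have h2 : x = 1 := by
      ext c
      have h3 : c ∈ fixedPoints (Subgroup.normalClosure T) Ω := by rw [h1]; trivial
      have h4 : (⟨x, hX.mem x hx⟩ : H) ∈ Subgroup.normalClosure T := Subgroup.subset_normalClosure hx
      exact h3 ⟨_, h4⟩
    have h3 := hX.card x hx
    rw [h2, Perm.support_one, Finset.card_empty] at h3
    have := hX.two_le
    omega
  obtain ⟨g, hg⟩ := MulAction.exists_smul_eq (Subgroup.normalClosure T) b₁ a₁
  have h1 := mem_stabilizer_iff.1 (hN g.2)
  apply haY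
  rw [← h1, ← hg]
  exact Set.smul_mem_smul_set hbY

end Cfsg.Agent.H273.FC
end
end

-- part: H29/PrA/Cliq_mg
section
prune_inst 0x100000000000000000400000000000000000000000000002000000000000000000000000000000000a000000000000000002000080080000000000000000000000000000000000000000000000000000000000000
set_option linter.all false
open scoped Cfsg.Agent.FastGrp

-- part: H29/PrA/Flat
section
/-!
# Flats of the structure `Geo` (S3618, part A, section 7; helper29)

* `Fl g a T`, `mem_fl`, `ncard_fl`, `key` (change of the base point);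
* `cl`, `cl_comm`, `cl_eq`, `Geo.Near` : `near_symm`, lines, `one` (rank 2), `coh` (rank 3, `B = 2`, `ε = 1`).
-/

set_option autoImplicit false
set_option linter.unusedSectionVars false

open Equiv Equiv.Perm

namespace Cfsg.Agent.H29.PrA

open Cfsg.Agent.H411.PrA

universe u

variable {Ω : Type u} {p m B ε : ℕ} {XX : Set (Perm Ω)}

theorem nf_symm {a b : Ω} (h : NF XX a b) : NF XX b a := by
  obtain ⟨x, hx, h1, h2⟩ := h
  exact ⟨x, hx, h2, h1⟩

/-- the flat of base `a` and type `T` -/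
def Fl (g : Geo p m B ε XX) (a : Ω) (T : Finset (Fin m)) : Set Ω :=
  {y | ∀ x ∈ XX, x a = a → _root_.Disjoint (g.P a x) T → x y = y}

variable (g : Geo p m B ε XX)

theorem exists_x {a : Ω} {T : Finset (Fin m)} (hT : T.card + p ≤ m) (hp : 1 ≤ p) {i : Fin m} (hi : i ∉ T) :
    ∃ x ∈ XX, x a = a ∧ _root_.Disjoint (g.P a x) T ∧ i ∈ g.P a x := by
  obtain ⟨U, h1, h2, h3⟩ := Finset.exists_subsuperset_card_eq (s := {i}) (t := Tᶜ) (n := p)
    (by simpa using hi) (by simpa using hp) (by rw [Finset.card_compl, Fintype.card_fin]; omega)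
  obtain ⟨x, hx, hxa, hP⟩ := g.surj_P a U h3
  refine ⟨x, hx, hxa, ?_, ?_⟩
  · rw [hP, Finset.disjoint_left]
    intro j hj hjT
    exact (Finset.mem_compl.1 (h2 hj)) hjT
  · rw [hP]
    exact h1 (Finset.mem_singleton_self i)

theorem exists_x' {a : Ω} {T : Finset (Fin m)} (hT : T.card + p ≤ m) :
    ∃ x ∈ XX, x a = a ∧ _root_.Disjoint (g.P a x) T := by
  obtain ⟨U, h1, h3⟩ := Finset.exists_subset_card_eq (s := Tᶜ) (n := p)
    (by rw [Finset.card_compl, Fintype.card_fin]; omega)
  obtain ⟨x, hx, hxa, hP⟩ := g.surj_P a U h3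
  refine ⟨x, hx, hxa, ?_⟩
  rw [hP, Finset.disjoint_left]
  intro j hj hjT
  exact (Finset.mem_compl.1 (h1 hj)) hjT

theorem mem_fl {a : Ω} {T : Finset (Fin m)} (hT : T.card + p ≤ m) (hp : 1 ≤ p) {y : Ω} :
    y ∈ Fl g a T ↔ y = a ∨ (a ≠ y ∧ NF XX a y ∧ g.S a y ⊆ T) := by
  constructor
  · intro hy
    by_cases hya : y = a
    · exact Or.inl hya
    · right
      have hay : a ≠ y := fun h => hya h.symm
      obtain ⟨x, hx, hxa, hxT⟩ := exists_x' g (a := a) hT
      have hnf : NF XX a y := ⟨x, hx, hxa, hy x hx hxa hxT⟩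
      refine ⟨hay, hnf, ?_⟩
      intro i hi
      by_contra hiT
      obtain ⟨x', hx', hxa', hxT', hi'⟩ := exists_x g (a := a) hT hp hiT
      have h1 := (g.fix_iff a y hay hnf x' hx' hxa').1 (hy x' hx' hxa' hxT')
      exact Finset.disjoint_left.1 h1 hi' hi
  · rintro (rfl | ⟨hay, hnf, hS⟩)
    · intro x _ hxa _
      exact hxa
    · intro x hx hxa hxT
      exact (g.fix_iff a y hay hnf x hx hxa).2 (hxT.mono_right hS)

/-- **number of points of a flat** -/
theorem ncard_fl [Finite Ω] {a : Ω} {T : Finset (Fin m)} (hT : T.card + p ≤ m) (hp : 1 ≤ p) :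
    (Fl g a T).ncard = 1 + B * T.card + ε * T.card.choose 2 := by
  classical
  have := Fintype.ofFinite Ω
  set! U : Finset Ω := Finset.univ.filter fun y => a ≠ y ∧ NF XX a y ∧ g.S a y ⊆ T with hU
  have h1 : Fl g a T = ↑(insert a U) := by
    ext y
    rw [mem_fl g hT hp, Finset.coe_insert, Set.mem_insert_iff, Finset.mem_coe, hU, Finset.mem_filter]
    simp only [_root_.ne_eq, _root_.Finset.mem_univ, _root_.true_and]
  have haU : a ∉ U := by rw [hU, Finset.mem_filter]; simp only [_root_.Finset.mem_univ, _root_.ne_eq, _root_.not_true_eq_false, _root_.false_and, _root_.and_false, _root_.not_false_eq_true]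
  rw [h1, Set.ncard_coe_finset, Finset.card_insert_of_notMem haU]
  have h2 : U.card = ∑ s ∈ Finset.powersetCard 1 T ∪ Finset.powersetCard 2 T, (U.filter fun y => g.S a y = s).card := by
    refine Finset.card_eq_sum_card_fiberwise ?_
    intro y hy
    rw [Finset.mem_coe, hU, Finset.mem_filter] at hy
    obtain ⟨-, h3, h4, h5⟩ := hy
    obtain ⟨h6, h7⟩ := g.card_S a y h3 h4
    rw [Finset.coe_union, Set.mem_union, Finset.mem_coe, Finset.mem_coe, Finset.mem_powersetCard,
      Finset.mem_powersetCard]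
    rcases Nat.lt_or_ge (g.S a y).card 2 with h8 | h8
    · exact Or.inl ⟨h5, by omega⟩
    · exact Or.inr ⟨h5, by omega⟩
  have hd : _root_.Disjoint (Finset.powersetCard 1 T) (Finset.powersetCard 2 T) := by
    rw [Finset.disjoint_left]
    intro s h3 h4
    have h5 := (Finset.mem_powersetCard.1 h3).2
    have h6 := (Finset.mem_powersetCard.1 h4).2
    omega
  have h3 : ∀ s ∈ Finset.powersetCard 1 T, (U.filter fun y => g.S a y = s).card = B := by
    intro s hs
    obtain ⟨h4, h5⟩ := Finset.mem_powersetCard.1 hs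
    obtain ⟨i, rfl⟩ := Finset.card_eq_one.1 h5
    refine Eq.trans ?_ (g.card_B a i)
    rw [← Set.ncard_coe_finset]
    congr 1
    ext y
    rw [Finset.mem_coe, Finset.mem_filter, hU, Finset.mem_filter, Set.mem_ofPred_eq]
    constructor
    · rintro ⟨⟨-, h6, h7, -⟩, h8⟩
      exact ⟨h6, h7, h8⟩
    · rintro ⟨h6, h7, h8⟩
      exact ⟨⟨Finset.mem_univ _, h6, h7, by rw [h8]; exact h4⟩, h8⟩
  have h4 : ∀ s ∈ Finset.powersetCard 2 T, (U.filter fun y => g.S a y = s).card = ε := by
    intro s hs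
    obtain ⟨h4, h5⟩ := Finset.mem_powersetCard.1 hs
    obtain ⟨i, j, hij, rfl⟩ := Finset.card_eq_two.1 h5
    refine Eq.trans ?_ (g.card_ε a i j hij)
    rw [← Set.ncard_coe_finset]
    congr 1
    ext y
    rw [Finset.mem_coe, Finset.mem_filter, hU, Finset.mem_filter, Set.mem_ofPred_eq]
    constructor
    · rintro ⟨⟨-, h6, h7, -⟩, h8⟩
      exact ⟨h6, h7, h8⟩
    · rintro ⟨h6, h7, h8⟩
      exact ⟨⟨Finset.mem_univ _, h6, h7, by rw [h8]; exact h4⟩, h8⟩
  rw [h2, Finset.sum_union hd, Finset.sum_congr rfl h3, Finset.sum_congr rfl h4, Finset.sum_const, Finset.sum_const,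
    Finset.card_powersetCard, Finset.card_powersetCard, Nat.choose_one_right, smul_eq_mul, smul_eq_mul]
  ring

theorem size_inj (hB : 1 ≤ B) {r s : ℕ} (h : 1 + B * r + ε * r.choose 2 = 1 + B * s + ε * s.choose 2) : r = s := by
  rcases lt_trichotomy r s with h1 | h1 | h1
  · exfalso
    have h2 : B * r < B * s := Nat.mul_lt_mul_of_pos_left h1 hB
    have h3 : ε * r.choose 2 ≤ ε * s.choose 2 := Nat.mul_le_mul_left _ (Nat.choose_le_choose 2 h1.le)
    omega
  · exact h1
  · exfalso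
    have h2 : B * s < B * r := Nat.mul_lt_mul_of_pos_left h1 hB
    have h3 : ε * s.choose 2 ≤ ε * r.choose 2 := Nat.mul_le_mul_left _ (Nat.choose_le_choose 2 h1.le)
    omega

theorem base_mem_fl (a : Ω) (T : Finset (Fin m)) : a ∈ Fl g a T := fun _ _ h _ => h

theorem exists_single [Finite Ω] (hB : 1 ≤ B) (a : Ω) (i : Fin m) : ∃ b, a ≠ b ∧ NF XX a b ∧ g.S a b = {i} := by
  have h1 := g.card_B a i
  have h2 : {b | a ≠ b ∧ NF XX a b ∧ g.S a b = {i}}.Nonempty := by
    rw [← Set.ncard_pos (Set.toFinite _), h1]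
    exact hB
  exact h2

/-- the elements fixing a flat pointwise -/
theorem fix_fl_iff [Finite Ω] (hB : 1 ≤ B) {a : Ω} {T : Finset (Fin m)} (hT : T.card + p ≤ m) (hp : 1 ≤ p) {x : Perm Ω}
    (hx : x ∈ XX) : (∀ y ∈ Fl g a T, x y = y) ↔ (x a = a ∧ _root_.Disjoint (g.P a x) T) := by
  constructor
  · intro h
    have hxa := h a (base_mem_fl g a T)
    refine ⟨hxa, ?_⟩
    rw [Finset.disjoint_right]
    intro i hi
    obtain ⟨b, hab, hnf, hS⟩ := exists_single g hB a i
    have hb : b ∈ Fl g a T := (mem_fl g hT hp).2 (Or.inr ⟨hab, hnf, by rw [hS]; simpa using hi⟩)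
    have h1 := (g.fix_iff a b hab hnf x hx hxa).1 (h b hb)
    rw [hS, Finset.disjoint_singleton_right] at h1
    exact h1
  · rintro ⟨h1, h2⟩ y hy
    exact hy x hx h1 h2

/-- **KEY: change of the base point of a flat** -/
theorem key [Finite Ω] (hB : 1 ≤ B) (hp : 1 ≤ p) {a c : Ω} {T : Finset (Fin m)} (hT : T.card + p ≤ m)
    (hc : c ∈ Fl g a T) : ∃ T' : Finset (Fin m), T'.card = T.card ∧ Fl g c T' = Fl g a T := by
  classical
  obtain ⟨x0, hx0, hx0a, hx0T⟩ := exists_x' g (a := a) hT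
  have hfix0 : ∀ y ∈ Fl g a T, x0 y = y := fun y hy => hy x0 hx0 hx0a hx0T
  have hnf : ∀ y ∈ Fl g a T, NF XX c y := fun y hy => ⟨x0, hx0, hfix0 c hc, hfix0 y hy⟩
  set! T' : Finset (Fin m) := Finset.univ.filter fun i => ∃ y ∈ Fl g a T, c ≠ y ∧ i ∈ g.S c y with hT'
  have h1 : ∀ x ∈ XX, (∀ y ∈ Fl g a T, x y = y) ↔ (x c = c ∧ _root_.Disjoint (g.P c x) T') := by
    intro x hx
    constructor
    · intro h
      refine ⟨h c hc, ?_⟩
      rw [Finset.disjoint_right]
      intro i hi
      rw [hT', Finset.mem_filter] at hi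
      obtain ⟨-, y, hy, hcy, hi⟩ := hi
      have h2 := (g.fix_iff c y hcy (hnf y hy) x hx (h c hc)).1 (h y hy)
      exact Finset.disjoint_right.1 h2 hi
    · rintro ⟨h2, h3⟩ y hy
      by_cases hcy : c = y
      · rw [← hcy]; exact h2
      · refine (g.fix_iff c y hcy (hnf y hy) x hx h2).2 ?_
        refine h3.mono_right ?_
        intro i hi
        rw [hT', Finset.mem_filter]
        exact ⟨Finset.mem_univ _, y, hy, hcy, hi⟩
  have hT'm : T'.card + p ≤ m := by
    obtain ⟨h2, h3⟩ := (h1 x0 hx0).1 hfix0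
    have h4 := g.card_P c x0 hx0 h2
    have h5 : (g.P c x0 ∪ T').card = (g.P c x0).card + T'.card := Finset.card_union_of_disjoint h3
    have h6 : (g.P c x0 ∪ T').card ≤ m := by
      have := Finset.card_le_univ (g.P c x0 ∪ T')
      rwa [Fintype.card_fin] at this
    omega
  have h2 : Fl g c T' = Fl g a T := by
    ext y
    constructor
    · intro hy x hx hxa hxT
      obtain ⟨h3, h4⟩ := (h1 x hx).1 ((fix_fl_iff g hB hT hp hx).2 ⟨hxa, hxT⟩)
      exact hy x hx h3 h4
    · intro hy x hx hxc hxT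
      exact (h1 x hx).2 ⟨hxc, hxT⟩ y hy
  refine ⟨T', ?_, h2⟩
  have h3 := ncard_fl g (a := c) hT'm hp
  rw [h2, ncard_fl g hT hp] at h3
  exact (size_inj hB h3).symm

/-- the closure of two points -/
def cl (XX : Set (Perm Ω)) (a b : Ω) : Set Ω := {y | ∀ x ∈ XX, x a = a → x b = b → x y = y}

theorem cl_comm (a b : Ω) : cl XX a b = cl XX b a := by
  ext y
  exact ⟨fun h x hx h1 h2 => h x hx h2 h1, fun h x hx h1 h2 => h x hx h2 h1⟩

theorem cl_eq {a b : Ω} (hab : a ≠ b) (hnf : NF XX a b) : cl XX a b = Fl g a (g.S a b) := by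
  ext y
  constructor
  · intro h x hx hxa hd
    exact h x hx hxa ((g.fix_iff a b hab hnf x hx hxa).2 hd)
  · intro h x hx hxa hxb
    exact h x hx hxa ((g.fix_iff a b hab hnf x hx hxa).1 hxb)

theorem left_mem_cl (a b : Ω) : a ∈ cl XX a b := fun _ _ h _ => h

theorem right_mem_cl (a b : Ω) : b ∈ cl XX a b := fun _ _ _ h => h

/-- a flat is closed -/
theorem cl_subset_fl {a : Ω} {T : Finset (Fin m)} {b c : Ω}
    (hb : b ∈ Fl g a T) (hc : c ∈ Fl g a T) : cl XX b c ⊆ Fl g a T := by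
  intro y hy x hx hxa hxT
  exact hy x hx (hb x hx hxa hxT) (hc x hx hxa hxT)

section Lines

variable (hm : p + 3 ≤ m) (hp : 1 ≤ p) (hB : 1 ≤ B)
include hm hp hB

theorem card_S_le {a b : Ω} (hab : a ≠ b) (hnf : NF XX a b) : (g.S a b).card + p ≤ m := by
  have := (g.card_S a b hab hnf).2
  omega

theorem card_symm [Finite Ω] {a b : Ω} (hab : a ≠ b) (hnf : NF XX a b) : (g.S a b).card = (g.S b a).card := by
  have h1 := cl_eq g hab hnf
  have h2 := cl_eq g hab.symm (nf_symm hnf)
  rw [cl_comm, h2] at h1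
  have h3 := ncard_fl g (a := a) (card_S_le g hm hp hB hab hnf) hp
  have h4 := ncard_fl g (a := b) (card_S_le g hm hp hB hab.symm (nf_symm hnf)) hp
  rw [← h1, h4] at h3
  exact (size_inj hB h3).symm

theorem near_symm [Finite Ω] {a b : Ω} (h : g.Near a b) : g.Near b a := by
  obtain ⟨h1, h2, h3⟩ := h
  exact ⟨h1.symm, nf_symm h2, by rw [← card_symm g hm hp hB h1 h2, h3]⟩

/-- points of the line through `a`, `b` -/
theorem mem_cl_iff [Finite Ω] {a b y : Ω} (h : g.Near a b) :
    y ∈ cl XX a b ↔ y = a ∨ (g.Near a y ∧ g.S a y = g.S a b) := by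
  rw [cl_eq g h.1 h.2.1, mem_fl g (card_S_le g hm hp hB h.1 h.2.1) hp]
  constructor
  · rintro (h1 | ⟨h1, h2, h3⟩)
    · exact Or.inl h1
    · right
      have h4 : g.S a y = g.S a b := by
        refine Finset.eq_of_subset_of_card_le h3 ?_
        rw [h.2.2]
        exact (g.card_S a y h1 h2).1
      exact ⟨⟨h1, h2, by rw [h4, h.2.2]⟩, h4⟩
  · rintro (h1 | ⟨h1, h2⟩)
    · exact Or.inl h1
    · exact Or.inr ⟨h1.1, h1.2.1, h2.subset⟩

/-- any two points of a line are near, and span the line -/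
theorem line_eq [Finite Ω] {a b y z : Ω} (h : g.Near a b) (hy : y ∈ cl XX a b) (hz : z ∈ cl XX a b) (hyz : y ≠ z) :
    g.Near y z ∧ cl XX y z = cl XX a b := by
  have key1 : ∀ {c d w : Ω}, g.Near c d → w ∈ cl XX c d → w ≠ c → g.Near c w ∧ cl XX c w = cl XX c d := by
    intro c d w hcd hw hwc
    rcases (mem_cl_iff g hm hp hB hcd).1 hw with h1 | ⟨h1, h2⟩
    · exact absurd h1 hwc
    · refine ⟨h1, ?_⟩
      rw [cl_eq g h1.1 h1.2.1, cl_eq g hcd.1 hcd.2.1, h2]
  by_cases hya : y = a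
  · subst hya
    exact key1 h hz hyz.symm
  · obtain ⟨h1, h2⟩ := key1 h hy hya
    have h3 := near_symm g hm hp hB h1
    rw [← h2, cl_comm] at hz
    obtain ⟨h4, h5⟩ := key1 h3 hz hyz.symm
    exact ⟨h4, by rw [h5, cl_comm, h2]⟩

end Lines

section TwoOne

variable {g : Geo p m 2 1 XX}

/-- the points near `b` of a flat with base point `b` -/
theorem near_fl_iff (hp : 1 ≤ p) {b : Ω} {T : Finset (Fin m)} (hT : T.card + p ≤ m) {y : Ω} (hy : y ∈ Fl g b T)
    (h : g.Near b y) : ∃ k ∈ T, g.S b y = {k} := by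
  obtain ⟨k, hk⟩ := Finset.card_eq_one.1 h.2.2
  refine ⟨k, ?_, hk⟩
  rcases (mem_fl g hT hp).1 hy with h1 | ⟨-, -, h1⟩
  · exact absurd h1.symm h.1
  · rw [hk] at h1
    exact h1 (Finset.mem_singleton_self k)

/-- in a flat of rank two all points but one are near to a given point -/
theorem exists_far [Finite Ω] (hm : p + 3 ≤ m) (hp : 1 ≤ p) {b : Ω} {T : Finset (Fin m)} (hT : T.card = 2) :
    ∃ f ∈ Fl g b T, f ≠ b ∧ ∀ y ∈ Fl g b T, y ≠ b → y ≠ f → g.Near b y := by
  have hTm : T.card + p ≤ m := by omega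
  obtain ⟨i, j, hij, rfl⟩ := Finset.card_eq_two.1 hT
  have h1 := g.card_ε b i j hij
  rw [Set.ncard_eq_one] at h1
  obtain ⟨f, hf⟩ := h1
  have hf' : f ∈ {y | b ≠ y ∧ NF XX b y ∧ g.S b y = {i, j}} := by rw [hf]; exact Set.mem_singleton f
  refine ⟨f, (mem_fl g hTm hp).2 (Or.inr ⟨hf'.1, hf'.2.1, hf'.2.2.subset⟩), hf'.1.symm, ?_⟩
  intro y hy hyb hyf
  rcases (mem_fl g hTm hp).1 hy with h2 | ⟨h2, h3, h4⟩
  · exact absurd h2 hyb
  · refine ⟨h2, h3, ?_⟩
    by_contra h5
    have h6 : (g.S b y).card = 2 := by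
      have := g.card_S b y h2 h3
      omega
    have h7 : g.S b y = {i, j} := Finset.eq_of_subset_of_card_le h4 (by rw [h6, hT])
    have h8 : y ∈ {y | b ≠ y ∧ NF XX b y ∧ g.S b y = {i, j}} := ⟨h2, h3, h7⟩
    rw [hf] at h8
    exact hyf h8

/-- the two points of type `{i}` -/
theorem exists_pair (g : Geo p m 2 1 XX) [Finite Ω] (a : Ω) (i : Fin m) :
    ∃ b b', b ≠ b' ∧ g.Near a b ∧ g.Near a b' ∧ g.S a b = {i} ∧ g.S a b' = {i} ∧
      ∀ y, g.Near a y → g.S a y = {i} → y = b ∨ y = b' := by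
  have h1 := g.card_B a i
  rw [Set.ncard_eq_two] at h1
  obtain ⟨b, b', hne, h⟩ := h1
  have hb : b ∈ {b | a ≠ b ∧ NF XX a b ∧ g.S a b = {i}} := by rw [h]; exact Set.mem_insert _ _
  have hb' : b' ∈ {b | a ≠ b ∧ NF XX a b ∧ g.S a b = {i}} := by rw [h]; exact Set.mem_insert_of_mem _ rfl
  refine ⟨b, b', hne, ⟨hb.1, hb.2.1, by rw [hb.2.2, Finset.card_singleton]⟩,
    ⟨hb'.1, hb'.2.1, by rw [hb'.2.2, Finset.card_singleton]⟩, hb.2.2, hb'.2.2, ?_⟩
  intro y hy hS
  have h2 : y ∈ {b | a ≠ b ∧ NF XX a b ∧ g.S a b = {i}} := ⟨hy.1, hy.2.1, hS⟩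
  rw [h] at h2
  exact h2

/-- **rank two**: a point of one line through `a` is near to exactly one point of another line -/
theorem one [Finite Ω] (hm : p + 3 ≤ m) (hp : 1 ≤ p) {a b : Ω} {j : Fin m} (hab : g.Near a b) (hj : g.S a b ≠ {j}) :
    ∃ c, (g.Near a c ∧ g.S a c = {j} ∧ g.Near b c) ∧ ∀ c', g.Near a c' → g.S a c' = {j} → g.Near b c' → c' = c := by
  obtain ⟨i, hi⟩ := Finset.card_eq_one.1 hab.2.2
  have hij : i ≠ j := by rintro rfl; exact hj hi
  obtain ⟨c, c', hcc, hc, hc', hSc, hSc', hall⟩ := exists_pair g a j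
  have hT : ({i, j} : Finset (Fin m)).card = 2 := Finset.card_pair hij
  have hTm : ({i, j} : Finset (Fin m)).card + p ≤ m := by omega
  have hbQ : b ∈ Fl g a {i, j} := (mem_fl g hTm hp).2 (Or.inr ⟨hab.1, hab.2.1, by rw [hi]; simp⟩)
  have hcQ : c ∈ Fl g a {i, j} := (mem_fl g hTm hp).2 (Or.inr ⟨hc.1, hc.2.1, by rw [hSc]; simp⟩)
  have hcQ' : c' ∈ Fl g a {i, j} := (mem_fl g hTm hp).2 (Or.inr ⟨hc'.1, hc'.2.1, by rw [hSc']; simp⟩)
  obtain ⟨T', hT', hFl⟩ := key g (by norm_num) hp hTm hbQ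
  rw [hT] at hT'
  have hT'm : T'.card + p ≤ m := by omega
  obtain ⟨f, hf, hfb, hfar⟩ := exists_far hm hp hT' (g := g) (b := b)
  -- not both are near
  have hnot : ¬ (g.Near b c ∧ g.Near b c') := by
    rintro ⟨h1, h2⟩
    have haQ : a ∈ Fl g b T' := by rw [hFl]; exact base_mem_fl g a _
    obtain ⟨k, hk, hSa⟩ := near_fl_iff hp hT'm haQ (near_symm g hm hp (by norm_num) hab)
    obtain ⟨l, hl, hSl⟩ := near_fl_iff hp hT'm (by rw [hFl]; exact hcQ) h1
    obtain ⟨l', hl', hSl'⟩ := near_fl_iff hp hT'm (by rw [hFl]; exact hcQ') h2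
    have hne : ∀ {d : Ω}, g.Near a d → g.S a d = {j} → g.Near b d → g.S b d ≠ g.S b a := by
      intro d h3 h4 h5 h6
      have h7 : d ∈ cl XX b a :=
        (mem_cl_iff g hm hp (by norm_num) (near_symm g hm hp (by norm_num) hab)).2 (Or.inr ⟨h5, h6⟩)
      rw [cl_comm] at h7
      rcases (mem_cl_iff g hm hp (by norm_num) hab).1 h7 with h8 | ⟨-, h8⟩
      · exact h3.1 h8.symm
      · rw [h4, hi] at h8
        exact hij (Finset.singleton_injective h8).symm
    have h3 : l ≠ k := by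
      rintro rfl
      exact hne hc hSc h1 (by rw [hSl, hSa])
    have h4 : l' ≠ k := by
      rintro rfl
      exact hne hc' hSc' h2 (by rw [hSl', hSa])
    have h5 : l = l' := by
      obtain ⟨s, t, hst, rfl⟩ := Finset.card_eq_two.1 hT'
      simp only [Finset.mem_insert, Finset.mem_singleton] at hk hl hl'
      rcases hk with rfl | rfl <;> rcases hl with rfl | rfl <;> rcases hl' with rfl | rfl <;> simp_all only [_root_.ne_eq, _root_.Finset.singleton_inj, _root_.not_false_eq_true, _root_.Finset.mem_singleton, _root_.Finset.card_insert_of_notMem, _root_.Finset.card_singleton, _root_.Nat.reduceAdd, _root_.not_true_eq_false]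
    subst h5
    have h6 : c' ∈ cl XX b c := (mem_cl_iff g hm hp (by norm_num) h1).2 (Or.inr ⟨h2, by rw [hSl, hSl']⟩)
    have h7 := (line_eq g hm hp (by norm_num) h1 (right_mem_cl b c) h6 hcc).2
    have h8 : c' ∈ cl XX a c := (mem_cl_iff g hm hp (by norm_num) hc).2 (Or.inr ⟨hc', by rw [hSc, hSc']⟩)
    have h9 := (line_eq g hm hp (by norm_num) hc (right_mem_cl a c) h8 hcc).2
    have h10 : b ∈ cl XX a c := by rw [← h9, h7]; exact left_mem_cl b c
    rcases (mem_cl_iff g hm hp (by norm_num) hc).1 h10 with h11 | ⟨-, h11⟩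
    · exact hab.1 h11.symm
    · rw [hi, hSc] at h11
      exact hij (Finset.singleton_injective h11)
  have hcb : c ≠ b := by
    rintro rfl
    rw [hi] at hSc
    exact hij (Finset.singleton_injective hSc)
  have hcb' : c' ≠ b := by
    rintro rfl
    rw [hi] at hSc'
    exact hij (Finset.singleton_injective hSc')
  by_cases hcf : c = f
  · have h1 : g.Near b c' := hfar c' (by rw [hFl]; exact hcQ') hcb' (by rw [← hcf]; exact hcc.symm)
    refine ⟨c', ⟨hc', hSc', h1⟩, ?_⟩
    intro d hd hSd hbd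
    rcases hall d hd hSd with rfl | rfl
    · exact absurd ⟨hbd, h1⟩ hnot
    · rfl
  · have h1 : g.Near b c := hfar c (by rw [hFl]; exact hcQ) hcb hcf
    refine ⟨c, ⟨hc, hSc, h1⟩, ?_⟩
    intro d hd hSd hbd
    rcases hall d hd hSd with rfl | rfl
    · rfl
    · exact absurd ⟨h1, hbd⟩ hnot

/-- **rank three: coherence** -/
theorem coh [Finite Ω] (hm : p + 3 ≤ m) (hp : 1 ≤ p) {a b₁ b₂ b₃ : Ω} (h1 : g.Near a b₁) (h2 : g.Near a b₂)
    (h3 : g.Near a b₃) (h12 : g.S a b₁ ≠ g.S a b₂) (h13 : g.S a b₁ ≠ g.S a b₃) (h23 : g.S a b₂ ≠ g.S a b₃)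
    (n12 : g.Near b₁ b₂) (n23 : g.Near b₂ b₃) : g.Near b₁ b₃ := by
  by_contra hn
  have hB : 1 ≤ 2 := by norm_num
  have sy : ∀ {x y : Ω}, g.Near x y → g.Near y x := fun h => near_symm g hm hp hB h
  have mc : ∀ {x y z : Ω}, g.Near x y → (z ∈ cl XX x y ↔ z = x ∨ (g.Near x z ∧ g.S x z = g.S x y)) :=
    fun h => mem_cl_iff g hm hp hB h
  obtain ⟨i₁, e1⟩ := Finset.card_eq_one.1 h1.2.2
  obtain ⟨i₂, e2⟩ := Finset.card_eq_one.1 h2.2.2
  obtain ⟨i₃, e3⟩ := Finset.card_eq_one.1 h3.2.2
  have i12 : i₁ ≠ i₂ := by rintro rfl; exact h12 (by rw [e1, e2])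
  have i13 : i₁ ≠ i₃ := by rintro rfl; exact h13 (by rw [e1, e3])
  have i23 : i₂ ≠ i₃ := by rintro rfl; exact h23 (by rw [e2, e3])
  -- `c` is the point of the third line near `b₁`
  obtain ⟨c, ⟨hc, hSc, n1c⟩, -⟩ := one hm hp h1 (j := i₃) (by rw [← e3]; exact h13)
  have hcb3 : c ≠ b₃ := by rintro rfl; exact hn n1c
  -- `b₂` is not near `c`
  have n2c : ¬ g.Near b₂ c := by
    intro h
    obtain ⟨d, -, hd⟩ := one hm hp h2 (j := i₃) (by rw [← e3]; exact h23)
    have f1 := hd b₃ h3 e3 n23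
    have f2 := hd c hc hSc h
    exact hcb3 (by rw [f1, f2])
  -- the lines `b₁ b₂` and `b₁ c` are different
  have hS1 : g.S b₁ b₂ ≠ g.S b₁ c := by
    intro h
    have h4 : c ∈ cl XX b₁ b₂ := (mc n12).2 (Or.inr ⟨n1c, h.symm⟩)
    have hb2c : b₂ ≠ c := by
      rintro rfl
      rw [e2] at hSc
      exact i23 (Finset.singleton_injective hSc)
    exact n2c (line_eq g hm hp hB n12 (right_mem_cl _ _) h4 hb2c).1
  -- `d` is the point of the line `b₁ c` near `b₂`
  obtain ⟨k, hk⟩ := Finset.card_eq_one.1 n1c.2.2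
  obtain ⟨d, ⟨n1d, hSd, n2d⟩, -⟩ := one hm hp n12 (j := k) (by rw [← hk]; exact hS1)
  have hdc : d ≠ c := by rintro rfl; exact n2c n2d
  have hdl : d ∈ cl XX b₁ c := (mc n1c).2 (Or.inr ⟨n1d, by rw [hSd, hk]⟩)
  -- `d` from `a`
  have hT13 : ({i₁, i₃} : Finset (Fin m)).card + p ≤ m := by
    rw [Finset.card_pair i13]; omega
  have hd13 : d ∈ Fl g a {i₁, i₃} := by
    refine cl_subset_fl g ?_ ?_ hdl
    · exact (mem_fl g hT13 hp).2 (Or.inr ⟨h1.1, h1.2.1, by rw [e1]; simp⟩)
    · exact (mem_fl g hT13 hp).2 (Or.inr ⟨hc.1, hc.2.1, by rw [hSc]; simp⟩)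
  have hda : d ≠ a := by
    rintro rfl
    have f1 := (line_eq g hm hp hB n1c (left_mem_cl _ _) hdl n1d.1).2
    have f2 : c ∈ cl XX b₁ d := by rw [f1]; exact right_mem_cl _ _
    rw [cl_comm] at f2
    rcases (mc h1).1 f2 with f3 | ⟨-, f3⟩
    · exact hc.1 f3.symm
    · rw [hSc, e1] at f3
      exact i13 (Finset.singleton_injective f3).symm
  obtain ⟨had, nfad, hSad⟩ : a ≠ d ∧ NF XX a d ∧ g.S a d ⊆ {i₁, i₃} := by
    rcases (mem_fl g hT13 hp).1 hd13 with h | h
    · exact absurd h hda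
    · exact h
  have hne : (g.S a d).Nonempty := Finset.card_pos.1 (g.card_S a d had nfad).1
  -- the rank three flat
  have hT3 : ({i₁, i₂, i₃} : Finset (Fin m)).card = 3 := by
    rw [Finset.card_insert_of_notMem (by simp [i12, i13]), Finset.card_pair i23]
  have hT3m : ({i₁, i₂, i₃} : Finset (Fin m)).card + p ≤ m := by omega
  have m1 : b₁ ∈ Fl g a {i₁, i₂, i₃} := (mem_fl g hT3m hp).2 (Or.inr ⟨h1.1, h1.2.1, by rw [e1]; simp⟩)
  have m2 : b₂ ∈ Fl g a {i₁, i₂, i₃} := (mem_fl g hT3m hp).2 (Or.inr ⟨h2.1, h2.2.1, by rw [e2]; simp⟩)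
  have m3 : b₃ ∈ Fl g a {i₁, i₂, i₃} := (mem_fl g hT3m hp).2 (Or.inr ⟨h3.1, h3.2.1, by rw [e3]; simp⟩)
  have md : d ∈ Fl g a {i₁, i₂, i₃} := by
    refine (mem_fl g hT3m hp).2 (Or.inr ⟨had, nfad, hSad.trans ?_⟩)
    intro x hx
    simp only [Finset.mem_insert, Finset.mem_singleton] at hx ⊢
    itauto
  obtain ⟨T', hT', hFl⟩ := key g hB hp hT3m m2
  rw [hT3] at hT'
  have hT'm : T'.card + p ≤ m := by omega
  obtain ⟨k1, hk1, s1⟩ := near_fl_iff (g := g) hp hT'm (by rw [hFl]; exact base_mem_fl g a _) (sy h2)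
  obtain ⟨k2, hk2, s2⟩ := near_fl_iff (g := g) hp hT'm (by rw [hFl]; exact m1) (sy n12)
  obtain ⟨k3, hk3, s3⟩ := near_fl_iff (g := g) hp hT'm (by rw [hFl]; exact m3) n23
  obtain ⟨k4, hk4, s4⟩ := near_fl_iff (g := g) hp hT'm (by rw [hFl]; exact md) n2d
  have q12 : k1 ≠ k2 := by
    rintro rfl
    have f1 : b₁ ∈ cl XX b₂ a := (mc (sy h2)).2 (Or.inr ⟨sy n12, by rw [s1, s2]⟩)
    rw [cl_comm] at f1
    rcases (mc h2).1 f1 with f2 | ⟨-, f2⟩
    · exact h1.1 f2.symm
    · exact h12 f2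
  have q13 : k1 ≠ k3 := by
    rintro rfl
    have f1 : b₃ ∈ cl XX b₂ a := (mc (sy h2)).2 (Or.inr ⟨n23, by rw [s1, s3]⟩)
    rw [cl_comm] at f1
    rcases (mc h2).1 f1 with f2 | ⟨-, f2⟩
    · exact h3.1 f2.symm
    · exact h23 f2.symm
  have q23 : k2 ≠ k3 := by
    rintro rfl
    have f1 : b₃ ∈ cl XX b₂ b₁ := (mc (sy n12)).2 (Or.inr ⟨n23, by rw [s2, s3]⟩)
    have f2 : b₁ ≠ b₃ := by rintro rfl; exact h13 rfl
    exact hn (line_eq g hm hp hB (sy n12) (right_mem_cl _ _) f1 f2).1
  have hT'eq : T' = {k1, k2, k3} := by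
    symm
    refine Finset.eq_of_subset_of_card_le ?_ ?_
    · intro x hx
      simp only [Finset.mem_insert, Finset.mem_singleton] at hx
      rcases hx with rfl | rfl | rfl
      · exact hk1
      · exact hk2
      · exact hk3
    · rw [hT', Finset.card_insert_of_notMem (by simp [q12, q13]), Finset.card_pair q23]
  rw [hT'eq] at hk4
  simp only [Finset.mem_insert, Finset.mem_singleton] at hk4
  rcases hk4 with rfl | rfl | rfl
  · -- `d` on the line `b₂ a`
    have f1 : d ∈ cl XX b₂ a := (mc (sy h2)).2 (Or.inr ⟨n2d, by rw [s1, s4]⟩)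
    rw [cl_comm] at f1
    rcases (mc h2).1 f1 with f2 | ⟨-, f2⟩
    · exact hda f2
    · rw [f2, e2] at hSad
      have f3 := hSad (Finset.mem_singleton_self i₂)
      simp only [Finset.mem_insert, Finset.mem_singleton] at f3
      rcases f3 with f3 | f3
      · exact i12 f3.symm
      · exact i23 f3
  · -- `d` on the line `b₂ b₁`
    have f1 : d ∈ cl XX b₂ b₁ := (mc (sy n12)).2 (Or.inr ⟨n2d, by rw [s2, s4]⟩)
    have f2 := (line_eq g hm hp hB (sy n12) (right_mem_cl _ _) f1 n1d.1).2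
    have f3 := (line_eq g hm hp hB n1c (left_mem_cl _ _) hdl n1d.1).2
    have f4 : c ∈ cl XX b₂ b₁ := by rw [← f2, f3]; exact right_mem_cl _ _
    have hb2c : b₂ ≠ c := by
      rintro rfl
      rw [e2] at hSc
      exact i23 (Finset.singleton_injective hSc)
    exact n2c (line_eq g hm hp hB (sy n12) (left_mem_cl _ _) f4 hb2c).1
  · -- `d` on the line `b₂ b₃`
    have f1 : d ∈ cl XX b₂ b₃ := (mc n23).2 (Or.inr ⟨n2d, by rw [s3, s4]⟩)
    have hT23 : ({i₂, i₃} : Finset (Fin m)).card + p ≤ m := by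
      rw [Finset.card_pair i23]; omega
    have f2 : d ∈ Fl g a {i₂, i₃} := by
      refine cl_subset_fl g ?_ ?_ f1
      · exact (mem_fl g hT23 hp).2 (Or.inr ⟨h2.1, h2.2.1, by rw [e2]; simp⟩)
      · exact (mem_fl g hT23 hp).2 (Or.inr ⟨h3.1, h3.2.1, by rw [e3]; simp⟩)
    have f3 : g.S a d ⊆ {i₂, i₃} := by
      rcases (mem_fl g hT23 hp).1 f2 with h | h
      · exact absurd h hda
      · exact h.2.2
    have f4 : g.S a d = {i₃} := by
      apply Finset.Subset.antisymm
      · intro x hx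
        have g1 := hSad hx
        have g2 := f3 hx
        simp only [Finset.mem_insert, Finset.mem_singleton] at g1 g2 ⊢
        rcases g1 with rfl | g1
        · rcases g2 with g2 | g2
          · exact absurd g2 i12
          · exact absurd g2 i13
        · exact g1
      · obtain ⟨x, hx⟩ := hne
        have g1 := hSad hx
        have g2 := f3 hx
        simp only [Finset.mem_insert, Finset.mem_singleton] at g1 g2
        rw [Finset.singleton_subset_iff]
        rcases g1 with rfl | rfl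
        · rcases g2 with g2 | g2
          · exact absurd g2 i12
          · exact absurd g2 i13
        · exact hx
    have nad : g.Near a d := ⟨had, nfad, by rw [f4, Finset.card_singleton]⟩
    obtain ⟨u, u', huu, -, -, -, -, hall⟩ := exists_pair g a i₃
    have g1 := hall b₃ h3 e3
    have g2 := hall c hc hSc
    have g3 := hall d nad f4
    have hdb3 : d ≠ b₃ := by rintro rfl; exact hn n1d
    rcases g1 with g1 | g1 <;> rcases g2 with g2 | g2 <;> rcases g3 with g3 | g3 <;> simp_all only [_root_.ne_eq, _root_.Finset.singleton_inj, _root_.not_false_eq_true, _root_.Nat.one_le_ofNat]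

end TwoOne

end Cfsg.Agent.H29.PrA
end

-- part: H29/PrA/Cliq
section
/-!
# The case `B = 2`, `ε = 1` (S3618, part A, section 8; helper29)

* `NG` : the abstract structure (triangular graph), `NG.CC` the big cliques;
* `case21`.
-/

set_option autoImplicit false
set_option linter.unusedSectionVars false

open Equiv Equiv.Perm

namespace Cfsg.Agent.H29.PrA

open Cfsg.Agent.H411.PrA

universe u

theorem inv_app {Ω : Type u} (k : Perm Ω) (a : Ω) : k⁻¹ (k a) = a := k.symm_apply_apply a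

theorem app_inv {Ω : Type u} (k : Perm Ω) (a : Ω) : k (k⁻¹ a) = a := k.apply_symm_apply a

/-- abstract structure: `m` lines through each point, two other points on each line -/
structure NG (Ω : Type u) (m : ℕ) where
  N : Ω → Ω → Prop
  ix : Ω → Ω → Fin m
  symm : ∀ {a b}, N a b → N b a
  ne : ∀ {a b}, N a b → a ≠ b
  tri : ∀ {a b y}, N a b → N a y → b ≠ y → ix a b = ix a y → N b y ∧ ix b a = ix b y
  pair : ∀ a i, ∃ b b', b ≠ b' ∧ N a b ∧ N a b' ∧ ix a b = i ∧ ix a b' = i ∧ ∀ y, N a y → ix a y = i → y = b ∨ y = b'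
  one : ∀ {a b j}, N a b → ix a b ≠ j → ∃ c, (N a c ∧ ix a c = j ∧ N b c) ∧ ∀ c', N a c' → ix a c' = j → N b c' → c' = c
  coh : ∀ {a b₁ b₂ b₃}, N a b₁ → N a b₂ → N a b₃ → ix a b₁ ≠ ix a b₂ → ix a b₁ ≠ ix a b₃ → ix a b₂ ≠ ix a b₃ →
    N b₁ b₂ → N b₂ b₃ → N b₁ b₃
  conn : ∀ a b, Relation.ReflTransGen N a b

namespace NG

variable {Ω : Type u} [Fintype Ω] [DecidableEq Ω] {m : ℕ} (G : NG Ω m)

open Classical in
/-- the big clique through two near points -/
noncomputable def C (a b : Ω) : Finset Ω :=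
  Finset.univ.filter fun y => y = a ∨ y = b ∨ (G.N a y ∧ G.N b y ∧ G.ix a y ≠ G.ix a b)

theorem mem_C {a b y : Ω} : y ∈ G.C a b ↔ y = a ∨ y = b ∨ (G.N a y ∧ G.N b y ∧ G.ix a y ≠ G.ix a b) := by
  simp only [C, _root_.ne_eq, _root_.Finset.mem_filter, _root_.Finset.mem_univ, _root_.true_and]

theorem left_mem (a b : Ω) : a ∈ G.C a b := G.mem_C.2 (Or.inl rfl)

theorem right_mem (a b : Ω) : b ∈ G.C a b := G.mem_C.2 (Or.inr (Or.inl rfl))

theorem C_comm {a b : Ω} (h : G.N a b) : G.C a b = G.C b a := by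
  have key : ∀ {a b : Ω}, G.N a b → G.C a b ⊆ G.C b a := by
    intro a b h y hy
    rw [mem_C] at hy ⊢
    rcases hy with rfl | rfl | ⟨h1, h2, h3⟩
    · exact Or.inr (Or.inl rfl)
    · exact Or.inl rfl
    · refine Or.inr (Or.inr ⟨h2, h1, fun h4 => h3 ?_⟩)
      exact (G.tri (G.symm h) h2 (G.ne h1) h4.symm).2.symm
  exact Finset.Subset.antisymm (key h) (key (G.symm h))

theorem C_sub {a b c : Ω} (hb : G.N a b) (hc : G.N a c) (hbc : G.N b c) (hix : G.ix a b ≠ G.ix a c) :
    G.C a b ⊆ G.C a c := by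
  intro y hy
  rw [mem_C] at hy ⊢
  rcases hy with rfl | rfl | ⟨h1, h2, h3⟩
  · exact Or.inl rfl
  · exact Or.inr (Or.inr ⟨hb, G.symm hbc, hix⟩)
  · by_cases hyc : y = c
    · exact Or.inr (Or.inl hyc)
    · have h4 : G.ix a y ≠ G.ix a c := by
        intro h5
        obtain ⟨d, -, hd⟩ := G.one hb hix
        exact hyc ((hd y h1 h5 h2).trans (hd c hc rfl hbc).symm)
      exact Or.inr (Or.inr ⟨h1, G.coh hc hb h1 hix.symm h4.symm h3.symm (G.symm hbc) h2, h4⟩)

theorem C_change {a b c : Ω} (hb : G.N a b) (hc : c ∈ G.C a b) (hca : c ≠ a) : G.N a c ∧ G.C a c = G.C a b := by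
  rcases G.mem_C.1 hc with h | rfl | ⟨h1, h2, h3⟩
  · exact absurd h hca
  · exact ⟨hb, rfl⟩
  · exact ⟨h1, Finset.Subset.antisymm (G.C_sub h1 hb (G.symm h2) h3) (G.C_sub hb h1 h2 h3.symm)⟩

theorem C_any {a b c d : Ω} (hb : G.N a b) (hc : c ∈ G.C a b) (hd : d ∈ G.C a b) (hcd : c ≠ d) :
    G.N c d ∧ G.C c d = G.C a b := by
  by_cases hca : c = a
  · subst hca
    exact G.C_change hb hd hcd.symm
  · obtain ⟨h1, h2⟩ := G.C_change hb hc hca
    rw [← h2, G.C_comm h1] at hd
    obtain ⟨h3, h4⟩ := G.C_change (G.symm h1) hd hcd.symm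
    exact ⟨h3, by rw [h4, ← G.C_comm h1, h2]⟩

/-- `ix a` is injective on the clique -/
theorem ix_inj {a b y z : Ω} (hb : G.N a b) (hy : y ∈ G.C a b) (hz : z ∈ G.C a b) (hya : y ≠ a) (hza : z ≠ a)
    (h : G.ix a y = G.ix a z) : y = z := by
  by_contra hyz
  obtain ⟨h1, h2⟩ := G.C_change hb hy hya
  rw [← h2] at hz
  rcases G.mem_C.1 hz with h3 | h3 | ⟨-, -, h3⟩
  · exact hza h3
  · exact hyz h3.symm
  · exact h3 h.symm

theorem ix_surj {a b : Ω} (hb : G.N a b) (j : Fin m) : ∃ y ∈ G.C a b, y ≠ a ∧ G.ix a y = j := by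
  by_cases hj : G.ix a b = j
  · exact ⟨b, G.right_mem a b, (G.ne hb).symm, hj⟩
  · obtain ⟨c, ⟨h1, h2, h3⟩, -⟩ := G.one hb hj
    exact ⟨c, G.mem_C.2 (Or.inr (Or.inr ⟨h1, h3, by rw [h2]; exact Ne.symm hj⟩)), (G.ne h1).symm, h2⟩

theorem card_filter {a b : Ω} (hb : G.N a b) (P : Finset (Fin m)) :
    (((G.C a b).erase a).filter fun y => G.ix a y ∈ P).card = P.card := by
  refine Finset.card_nbij (G.ix a) ?_ ?_ ?_
  · intro y hy
    exact (Finset.mem_filter.1 hy).2
  · intro y hy z hz h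
    rw [Finset.mem_coe, Finset.mem_filter, Finset.mem_erase] at hy hz
    exact G.ix_inj hb hy.1.2 hz.1.2 hy.1.1 hz.1.1 h
  · intro j hj
    obtain ⟨y, h1, h2, h3⟩ := G.ix_surj hb j
    exact ⟨y, Finset.mem_coe.2 (Finset.mem_filter.2 ⟨Finset.mem_erase.2 ⟨h2, h1⟩, by rw [h3]; exact hj⟩), h3⟩

theorem card_C {a b : Ω} (hb : G.N a b) : (G.C a b).card = m + 1 := by
  have h1 := G.card_filter hb Finset.univ
  rw [Finset.filter_true_of_mem (fun _ _ => Finset.mem_univ _), Finset.card_univ, Fintype.card_fin] at h1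
  have h2 := Finset.card_erase_add_one (G.left_mem a b)
  omega

open Classical in
/-- the big cliques -/
noncomputable def CC : Finset (Finset Ω) := Finset.univ.filter fun D => ∃ a b, G.N a b ∧ D = G.C a b

theorem mem_CC {D : Finset Ω} : D ∈ G.CC ↔ ∃ a b, G.N a b ∧ D = G.C a b := by
  simp only [CC, _root_.Finset.mem_filter, _root_.Finset.mem_univ, _root_.true_and]

theorem C_mem {a b : Ω} (h : G.N a b) : G.C a b ∈ G.CC := G.mem_CC.2 ⟨a, b, h, rfl⟩

theorem eq_C {D : Finset Ω} (hD : D ∈ G.CC) {a : Ω} (ha : a ∈ D) : ∃ b, G.N a b ∧ D = G.C a b := by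
  obtain ⟨c, d, h, rfl⟩ := G.mem_CC.1 hD
  by_cases hac : a = c
  · subst hac
    exact ⟨d, h, rfl⟩
  · obtain ⟨h1, h2⟩ := G.C_change h ha hac
    exact ⟨c, G.symm h1, by rw [G.C_comm (G.symm h1), h2]⟩

theorem eq_C' {D : Finset Ω} (hD : D ∈ G.CC) {a b : Ω} (ha : a ∈ D) (hb : b ∈ D) (hab : a ≠ b) :
    G.N a b ∧ D = G.C a b := by
  obtain ⟨c, h, rfl⟩ := G.eq_C hD ha
  obtain ⟨h1, h2⟩ := G.C_any h ha hb hab
  exact ⟨h1, h2.symm⟩

theorem eq_of_two {D E : Finset Ω} (hD : D ∈ G.CC) (hE : E ∈ G.CC) {a b : Ω} (hab : a ≠ b) (h1 : a ∈ D) (h2 : b ∈ D)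
    (h3 : a ∈ E) (h4 : b ∈ E) : D = E :=
  (G.eq_C' hD h1 h2 hab).2.trans (G.eq_C' hE h3 h4 hab).2.symm

/-- the other point of the line -/
theorem exists_other {a b : Ω} (h : G.N a b) :
    ∃ b', G.N a b' ∧ b' ≠ b ∧ G.ix a b' = G.ix a b ∧ b' ∉ G.C a b ∧ G.N b b' := by
  obtain ⟨c, c', hne, h1, h2, h3, h4, h5⟩ := G.pair a (G.ix a b)
  have key : ∀ d, G.N a d → d ≠ b → G.ix a d = G.ix a b → G.N a d ∧ d ≠ b ∧ G.ix a d = G.ix a b ∧ d ∉ G.C a b ∧ G.N b d := by
    intro d f1 f2 f3
    refine ⟨f1, f2, f3, ?_, (G.tri h f1 f2.symm f3.symm).1⟩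
    rw [mem_C]
    rintro (f4 | f4 | ⟨-, -, f4⟩)
    · exact G.ne f1 f4.symm
    · exact f2 f4
    · exact f4 f3
  rcases h5 b h rfl with rfl | rfl
  · exact ⟨c', key c' h2 hne.symm h4⟩
  · exact ⟨c, key c h1 hne h3⟩

/-- **two cliques through each point** -/
theorem two_cliques (hm : 1 ≤ m) (a : Ω) : ∃ D ∈ G.CC, ∃ E ∈ G.CC, D ≠ E ∧ a ∈ D ∧ a ∈ E ∧
    ∀ X ∈ G.CC, a ∈ X → X = D ∨ X = E := by
  obtain ⟨b, b', hne, h1, h2, h3, h4, h5⟩ := G.pair a ⟨0, hm⟩
  have hb' : b' ∉ G.C a b := by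
    rw [mem_C]
    rintro (f4 | f4 | ⟨-, -, f4⟩)
    · exact G.ne h2 f4.symm
    · exact hne f4.symm
    · exact f4 (h4.trans h3.symm)
  have hDE : G.C a b ≠ G.C a b' := by
    intro h
    rw [h] at hb'
    exact hb' (G.right_mem a b')
  refine ⟨G.C a b, G.C_mem h1, G.C a b', G.C_mem h2, hDE, G.left_mem _ _, G.left_mem _ _, ?_⟩
  intro X hX haX
  obtain ⟨y, hy, rfl⟩ := G.eq_C hX haX
  have key : y ∈ G.C a b ∨ y ∈ G.C a b' := by
    by_cases hj : G.ix a y = ⟨0, hm⟩
    · rcases h5 y hy hj with rfl | rfl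
      · exact Or.inl (G.right_mem _ _)
      · exact Or.inr (G.right_mem _ _)
    · obtain ⟨c, ⟨c1, c2, c3⟩, -⟩ := G.one (j := G.ix a y) h1 (by rw [h3]; exact Ne.symm hj)
      obtain ⟨c', ⟨d1, d2, d3⟩, -⟩ := G.one (j := G.ix a y) h2 (by rw [h4]; exact Ne.symm hj)
      have hc : c ∈ G.C a b := G.mem_C.2 (Or.inr (Or.inr ⟨c1, c3, by rw [c2, h3]; exact hj⟩))
      have hc' : c' ∈ G.C a b' := G.mem_C.2 (Or.inr (Or.inr ⟨d1, d3, by rw [d2, h4]; exact hj⟩))
      by_cases hyc : y = c
      · rw [hyc]; exact Or.inl hc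
      · by_cases hyc' : y = c'
        · rw [hyc']; exact Or.inr hc'
        · exfalso
          have hcc : c = c' := by
            obtain ⟨u, u', -, -, -, -, -, hall⟩ := G.pair a (G.ix a y)
            have g1 := hall y hy rfl
            have g2 := hall c c1 c2
            have g3 := hall c' d1 d2
            rcases g1 with g1 | g1 <;> rcases g2 with g2 | g2 <;> rcases g3 with g3 | g3 <;> simp_all only [_root_.ne_eq, _root_.not_true_eq_false, _root_.not_false_eq_true]
          subst hcc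
          exact hDE ((G.C_change h1 hc (G.ne c1).symm).2.symm.trans (G.C_change h2 hc' (G.ne c1).symm).2)
  rcases key with h | h
  · exact Or.inl (G.C_change h1 h (G.ne hy).symm).2
  · exact Or.inr (G.C_change h2 h (G.ne hy).symm).2

theorem second_unique (hm : 1 ≤ m) {a : Ω} {D E X : Finset Ω} (hD : D ∈ G.CC) (hE : E ∈ G.CC) (hX : X ∈ G.CC)
    (haD : a ∈ D) (haE : a ∈ E) (haX : a ∈ X) (h1 : E ≠ D) (h2 : X ≠ D) : E = X := by
  obtain ⟨P, -, Q, -, -, -, -, hall⟩ := G.two_cliques hm a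
  have g1 := hall D hD haD
  have g2 := hall E hE haE
  have g3 := hall X hX haX
  rcases g1 with g1 | g1 <;> rcases g2 with g2 | g2 <;> rcases g3 with g3 | g3 <;> simp_all only [_root_.ne_eq, _root_.not_true_eq_false, _root_.not_false_eq_true]

/-- **the second cliques through two points of a clique meet** -/
theorem meet_of_base (hm : 1 ≤ m) {D E X : Finset Ω} (hD : D ∈ G.CC) (hE : E ∈ G.CC) (hX : X ∈ G.CC) {a b : Ω}
    (ha : a ∈ D) (hb : b ∈ D) (hab : a ≠ b) (haE : a ∈ E) (hbX : b ∈ X) (h1 : E ≠ D) (h2 : X ≠ D) :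
    (E ∩ X).Nonempty := by
  obtain ⟨hN, hDC⟩ := G.eq_C' hD ha hb hab
  obtain ⟨b', f1, f2, f3, f4, f5⟩ := G.exists_other hN
  rw [← hDC] at f4
  have e1 : G.C a b' ≠ D := fun h => f4 (by rw [← h]; exact G.right_mem _ _)
  have e2 : G.C b b' ≠ D := fun h => f4 (by rw [← h]; exact G.right_mem _ _)
  have e3 := G.second_unique hm hD hE (G.C_mem f1) ha haE (G.left_mem _ _) h1 e1
  have e4 := G.second_unique hm hD hX (G.C_mem f5) hb hbX (G.left_mem _ _) h2 e2
  exact ⟨b', Finset.mem_inter.2 ⟨by rw [e3]; exact G.right_mem _ _, by rw [e4]; exact G.right_mem _ _⟩⟩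

/-- **any two cliques meet** -/
theorem meet (hm : 1 ≤ m) {D E : Finset Ω} (hD : D ∈ G.CC) (hE : E ∈ G.CC) : (E ∩ D).Nonempty := by
  -- the cliques meeting `D` are closed under neighbours
  have step : ∀ X ∈ G.CC, (X ∩ D).Nonempty → ∀ c ∈ X, ∀ Y ∈ G.CC, c ∈ Y → (Y ∩ D).Nonempty := by
    intro X hX hXD c hcX Y hY hcY
    by_cases hcD : c ∈ D
    · exact ⟨c, Finset.mem_inter.2 ⟨hcY, hcD⟩⟩
    · obtain ⟨a, ha⟩ := hXD
      obtain ⟨haX, haD⟩ := Finset.mem_inter.1 ha
      by_cases hYX : Y = X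
      · rw [hYX]
        exact ⟨a, ha⟩
      · have hDX : D ≠ X := by rintro rfl; exact hcD hcX
        have hca : c ≠ a := by rintro rfl; exact hcD haD
        exact G.meet_of_base hm hX hY hD hcX haX hca hcY haD hYX hDX
  obtain ⟨a, b, hab, hDC⟩ := G.mem_CC.1 hD
  have haD : a ∈ D := by rw [hDC]; exact G.left_mem _ _
  obtain ⟨c, d, hcd, hEC⟩ := G.mem_CC.1 hE
  have hcE : c ∈ E := by rw [hEC]; exact G.left_mem _ _
  have key : ∀ y, Relation.ReflTransGen G.N a y → ∃ X ∈ G.CC, (X ∩ D).Nonempty ∧ y ∈ X := by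
    intro y hy
    induction hy with
    | refl => exact ⟨D, hD, ⟨a, Finset.mem_inter.2 ⟨haD, haD⟩⟩, haD⟩
    | tail _ hyz ih =>
      obtain ⟨X, hX, hXD, hyX⟩ := ih
      exact ⟨G.C _ _, G.C_mem hyz, step X hX hXD _ hyX _ (G.C_mem hyz) (G.left_mem _ _), G.right_mem _ _⟩
  obtain ⟨X, hX, hXD, hcX⟩ := key c (G.conn a c)
  exact step X hX hXD c hcX E hE hcE

theorem card_inter (hm : 1 ≤ m) {D E : Finset Ω} (hD : D ∈ G.CC) (hE : E ∈ G.CC) (hne : D ≠ E) :
    (D ∩ E).card = 1 := by
  obtain ⟨a, ha⟩ := G.meet hm hE hD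
  rw [Finset.card_eq_one]
  refine ⟨a, ?_⟩
  ext b
  rw [Finset.mem_singleton]
  constructor
  · intro hb
    by_contra hba
    obtain ⟨h1, h2⟩ := Finset.mem_inter.1 ha
    obtain ⟨h3, h4⟩ := Finset.mem_inter.1 hb
    exact hne (G.eq_of_two hD hE hba h3 h1 h4 h2)
  · rintro rfl
    exact ha

theorem card_through (hm : 1 ≤ m) (a : Ω) : (G.CC.filter fun D => a ∈ D).card = 2 := by
  obtain ⟨D, hD, E, hE, hne, haD, haE, hall⟩ := G.two_cliques hm a
  rw [Finset.card_eq_two]
  refine ⟨D, E, hne, ?_⟩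
  ext X
  rw [Finset.mem_filter, Finset.mem_insert, Finset.mem_singleton]
  constructor
  · rintro ⟨h1, h2⟩
    exact hall X h1 h2
  · rintro (rfl | rfl)
    · exact ⟨hD, haD⟩
    · exact ⟨hE, haE⟩

theorem card_CC [Nonempty Ω] (hm : 1 ≤ m) : G.CC.card = m + 2 := by
  obtain ⟨a⟩ := (inferInstance : Nonempty Ω)
  obtain ⟨D, hD, -, -, -, -, -, -⟩ := G.two_cliques hm a
  have h1 := Finset.sum_card_inter (s := D) (B := G.CC) (n := 2) (fun a _ => G.card_through hm a)
  rw [← Finset.add_sum_erase G.CC _ hD, Finset.inter_self] at h1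
  have h2 : ∑ x ∈ G.CC.erase D, (D ∩ x).card = (G.CC.erase D).card := by
    rw [Finset.card_eq_sum_ones]
    refine Finset.sum_congr rfl fun X hX => ?_
    obtain ⟨h3, h4⟩ := Finset.mem_erase.1 hX
    exact G.card_inter hm hD h4 h3.symm
  obtain ⟨b, c, hbc, hDC⟩ := G.mem_CC.1 hD
  have h3 : D.card = m + 1 := by rw [hDC]; exact G.card_C hbc
  have h4 := Finset.card_erase_add_one hD
  rw [h2, h3] at h1
  omega

end NG

section Final

variable {Ω : Type u} {p m : ℕ} {XX : Set (Perm Ω)}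

/-- the index of the line -/
noncomputable def ixg (g : Geo p m 2 1 XX) (hm : 1 ≤ m) (a b : Ω) : Fin m :=
  open Classical in if h : ∃ i, g.S a b = {i} then h.choose else ⟨0, hm⟩

theorem ixg_spec {g : Geo p m 2 1 XX} (hm : 1 ≤ m) {a b : Ω} (h : g.Near a b) : g.S a b = {ixg g hm a b} := by
  have h1 : ∃ i, g.S a b = {i} := Finset.card_eq_one.1 h.2.2
  rw [ixg, dif_pos h1]
  exact h1.choose_spec

theorem ixg_eq {g : Geo p m 2 1 XX} (hm : 1 ≤ m) {a b : Ω} (h : g.Near a b) {i : Fin m} :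
    ixg g hm a b = i ↔ g.S a b = {i} := by
  rw [ixg_spec hm h]
  exact ⟨fun h => by rw [h], fun h => Finset.singleton_injective h⟩

/-- the abstract structure of `g` -/
noncomputable def toNG [Finite Ω] (g : Geo p m 2 1 XX) (hm : p + 3 ≤ m) (hp : 1 ≤ p) (hc : g.Conn) : NG Ω m where
  N := g.Near
  ix := ixg g (by omega)
  symm h := near_symm g hm hp (by norm_num) h
  ne h := h.1
  tri := by
    intro a b y h1 h2 h3 h4
    rw [ixg_eq _ h1, ← ixg_spec _ h2] at h4
    have h5 : y ∈ cl XX a b := (mem_cl_iff g hm hp (by norm_num) h1).2 (Or.inr ⟨h2, h4.symm⟩)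
    obtain ⟨h6, h7⟩ := line_eq g hm hp (by norm_num) h1 (right_mem_cl _ _) h5 h3
    refine ⟨h6, ?_⟩
    have h8 := near_symm g hm hp (by norm_num) h1
    rw [ixg_eq _ h8, ← ixg_spec _ h6]
    have h9 : a ∈ cl XX b y := by rw [h7]; exact left_mem_cl _ _
    rcases (mem_cl_iff g hm hp (by norm_num) h6).1 h9 with h10 | ⟨-, h10⟩
    · exact absurd h10 h1.1
    · exact h10
  pair := by
    intro a i
    obtain ⟨b, b', h1, h2, h3, h4, h5, h6⟩ := exists_pair g a i
    exact ⟨b, b', h1, h2, h3, (ixg_eq _ h2).2 h4, (ixg_eq _ h3).2 h5, fun y hy hi => h6 y hy ((ixg_eq _ hy).1 hi)⟩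
  one := by
    intro a b j h1 h2
    obtain ⟨c, ⟨c1, c2, c3⟩, hc'⟩ := PrA.one hm hp h1 (j := j) (fun h => h2 ((ixg_eq _ h1).2 h))
    exact ⟨c, ⟨c1, (ixg_eq _ c1).2 c2, c3⟩, fun c' g1 g2 g3 => hc' c' g1 ((ixg_eq _ g1).1 g2) g3⟩
  coh := by
    intro a b₁ b₂ b₃ h1 h2 h3 h12 h13 h23 n12 n23
    refine PrA.coh hm hp h1 h2 h3 ?_ ?_ ?_ n12 n23
    · exact fun h => h12 ((ixg_eq _ h1).2 (by rw [h, ← ixg_spec _ h2]))
    · exact fun h => h13 ((ixg_eq _ h1).2 (by rw [h, ← ixg_spec _ h3]))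
    · exact fun h => h23 ((ixg_eq _ h2).2 (by rw [h, ← ixg_spec _ h3]))
  conn := hc

theorem near_conj [Finite Ω] (g : Geo p m 2 1 XX) (hm : p + 3 ≤ m) (hp : 1 ≤ p) {k : Perm Ω}
    (hk : ∀ x, x ∈ XX ↔ k * x * k⁻¹ ∈ XX) :
    (∀ a b y, y ∈ cl XX a b → k y ∈ cl XX (k a) (k b)) ∧ ∀ a b, g.Near a b → g.Near (k a) (k b) := by
  have hback : ∀ x ∈ XX, k⁻¹ * x * k ∈ XX := by
    intro x hx
    rw [hk]
    have e : k * (k⁻¹ * x * k) * k⁻¹ = x := by group
    rwa [e]
  have hcl : ∀ a b y, y ∈ cl XX a b → k y ∈ cl XX (k a) (k b) := by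
    intro a b y hy x hx hxa hxb
    have h1 := hy _ (hback x hx) (by
      rw [Perm.mul_apply, Perm.mul_apply, hxa, inv_app]) (by
      rw [Perm.mul_apply, Perm.mul_apply, hxb, inv_app])
    rw [Perm.mul_apply, Perm.mul_apply] at h1
    have h2 := congrArg k h1
    rwa [app_inv] at h2
  refine ⟨hcl, ?_⟩
  intro a b h
  obtain ⟨h1, ⟨x, hx, hxa, hxb⟩, h3⟩ := h
  have hne : k a ≠ k b := fun h => h1 (k.injective h)
  have hnf : NF XX (k a) (k b) := by
    refine ⟨k * x * k⁻¹, (hk x).1 hx, ?_, ?_⟩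
    · rw [Perm.mul_apply, Perm.mul_apply, inv_app, hxa]
    · rw [Perm.mul_apply, Perm.mul_apply, inv_app, hxb]
  refine ⟨hne, hnf, ?_⟩
  have h4 := ncard_fl g (a := a) (card_S_le g hm hp (by norm_num) h1 ⟨x, hx, hxa, hxb⟩) hp
  have h5 := ncard_fl g (a := k a) (card_S_le g hm hp (by norm_num) hne hnf) hp
  rw [← cl_eq g h1 ⟨x, hx, hxa, hxb⟩] at h4
  rw [← cl_eq g hne hnf] at h5
  -- the closures have the same cardinality
  have hk' : ∀ x, x ∈ XX ↔ k⁻¹ * x * k⁻¹⁻¹ ∈ XX := by
    intro x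
    rw [inv_inv]
    refine ⟨hback x, fun h => ?_⟩
    have h6 := (hk _).1 h
    have e : k * (k⁻¹ * x * k) * k⁻¹ = x := by group
    rwa [e] at h6
  have hle : (cl XX (k a) (k b)).ncard ≤ (cl XX a b).ncard := by
    refine Set.ncard_le_ncard_of_injOn (k⁻¹ : Perm Ω) ?_ (k⁻¹ : Perm Ω).injective.injOn (Set.toFinite _)
    intro y hy z hz hza hzb
    have h6 := hy (k * z * k⁻¹) ((hk z).1 hz) (by
      rw [Perm.mul_apply, Perm.mul_apply, inv_app, hza]) (by
      rw [Perm.mul_apply, Perm.mul_apply, inv_app, hzb])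
    rw [Perm.mul_apply, Perm.mul_apply] at h6
    have h7 := congrArg (k⁻¹ : Perm Ω) h6
    rwa [inv_app] at h7
  have hge : (cl XX a b).ncard ≤ (cl XX (k a) (k b)).ncard :=
    Set.ncard_le_ncard_of_injOn k (fun y hy => hcl a b y hy) k.injective.injOn (Set.toFinite _)
  have h6 := le_antisymm hge hle
  rw [h4, h5] at h6
  rw [← size_inj (by norm_num) h6, h3]

/-- **CLIQUES (plan section 8)** -/
theorem case21 [Fintype Ω] [DecidableEq Ω] [Nonempty Ω] (g : Geo p m 2 1 XX) (hm : p + 3 ≤ m) (hp : 3 ≤ p)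
    (hc : g.Conn) :
    ∃ CC : Finset (Finset Ω), CC.card = m + 2 ∧ (∀ C ∈ CC, C.card = m + 1) ∧
      (∀ a : Ω, (CC.filter (fun C => a ∈ C)).card = 2) ∧
      (∀ C ∈ CC, ∀ C' ∈ CC, C ≠ C' → (C ∩ C').card = 1) ∧
      (∀ k : Perm Ω, (∀ x, x ∈ XX ↔ k * x * k⁻¹ ∈ XX) → ∀ C ∈ CC, C.map k.toEmbedding ∈ CC) ∧
      (∀ x ∈ XX, ∀ a, x a = a → ∀ C ∈ CC, a ∈ C → (C.filter (fun b => x b ≠ b)).card = p) := by
  have hp1 : 1 ≤ p := by omega
  have hm1 : 1 ≤ m := by omega
  set! G := toNG g hm hp1 hc with hG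
  refine ⟨G.CC, G.card_CC hm1, ?_, G.card_through hm1, fun C hC D hD h => G.card_inter hm1 hC hD h, ?_, ?_⟩
  · intro C hC
    obtain ⟨a, b, hab, rfl⟩ := G.mem_CC.1 hC
    exact G.card_C hab
  · intro k hk C hC
    obtain ⟨a, b, hab, rfl⟩ := G.mem_CC.1 hC
    obtain ⟨hcl, hnear⟩ := near_conj g hm hp1 hk
    have hk' : ∀ x, x ∈ XX ↔ k⁻¹ * x * k⁻¹⁻¹ ∈ XX := by
      intro x
      rw [hk (k⁻¹ * x * k⁻¹⁻¹)]
      have e : k * (k⁻¹ * x * k⁻¹⁻¹) * k⁻¹ = x := by group
      rw [e]
    obtain ⟨hcl', hnear'⟩ := near_conj g hm hp1 hk'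
    have hcl2 : ∀ a b y, k y ∈ cl XX (k a) (k b) ↔ y ∈ cl XX a b := by
      intro a b y
      refine ⟨fun h => ?_, hcl a b y⟩
      have := hcl' _ _ _ h
      rwa [inv_app, inv_app, inv_app] at this
    have hn2 : ∀ a b, g.Near (k a) (k b) ↔ g.Near a b := by
      intro a b
      refine ⟨fun h => ?_, hnear a b⟩
      have := hnear' _ _ h
      rwa [inv_app, inv_app] at this
    -- description of the cliques by `Near` and `cl`
    have hdesc : ∀ a b, g.Near a b → ∀ y, (y ∈ G.C a b ↔ y = a ∨ y = b ∨ (g.Near a y ∧ g.Near b y ∧ y ∉ cl XX a b)) := by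
      intro a b hab y
      rw [G.mem_C]
      refine or_congr Iff.rfl (or_congr Iff.rfl ?_)
      refine and_congr_right fun h1 => and_congr_right fun _ => ?_
      rw [mem_cl_iff g hm hp1 (by norm_num) hab]
      have e1 : G.ix a y = G.ix a b ↔ g.S a y = g.S a b := by
        change ixg g _ a y = ixg g _ a b ↔ _
        rw [ixg_eq _ h1, ← ixg_spec _ hab]
      rw [Ne, e1]
      constructor
      · rintro h2 (h3 | ⟨-, h3⟩)
        · exact h1.1 h3.symm
        · exact h2 h3
      · intro h2 h3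
        exact h2 (Or.inr ⟨h1, h3⟩)
    have he : (G.C a b).map k.toEmbedding = G.C (k a) (k b) := by
      ext z
      obtain ⟨y, rfl⟩ := k.surjective z
      rw [hdesc (k a) (k b) (hnear a b hab), hcl2, hn2, hn2, k.injective.eq_iff, k.injective.eq_iff, ← hdesc a b hab]
      rw [Finset.mem_map]
      constructor
      · rintro ⟨w, hw, h⟩
        have : w = y := k.injective h
        rwa [← this]
      · intro hy
        exact ⟨y, hy, rfl⟩
    rw [he]
    exact G.C_mem (hnear a b hab)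
  · intro x hx a hxa C hC haC
    obtain ⟨b, hab, rfl⟩ := G.eq_C hC haC
    rw [← g.card_P a x hx hxa, ← G.card_filter hab (g.P a x)]
    congr 1
    ext y
    rw [Finset.mem_filter, Finset.mem_filter, Finset.mem_erase]
    constructor
    · rintro ⟨h1, h2⟩
      have hya : y ≠ a := by rintro rfl; exact h2 hxa
      obtain ⟨h3, -⟩ := G.C_change hab h1 hya
      refine ⟨⟨hya, h1⟩, ?_⟩
      by_contra h4
      apply h2
      refine (g.fix_iff a y h3.1 h3.2.1 x hx hxa).2 ?_
      rw [ixg_spec hm1 h3, Finset.disjoint_singleton_right]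
      exact h4
    · rintro ⟨⟨h1, h2⟩, h3⟩
      refine ⟨h2, fun h4 => ?_⟩
      obtain ⟨h5, -⟩ := G.C_change hab h2 h1
      have h6 := (g.fix_iff a y h5.1 h5.2.1 x hx hxa).1 h4
      rw [ixg_spec hm1 h5, Finset.disjoint_singleton_right] at h6
      exact h6 h3

end Final

end Cfsg.Agent.H29.PrA
end

-- part: H976/PrA/ExistsS
section
/-!
# S3618, case A, section 4 (helper976): the sets `S`
-/

set_option autoImplicit false

open Equiv Equiv.Perm MulAction Cfsg.Agent.H411.PrA
open scoped Pointwise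

namespace Cfsg.Agent.H976.PrA

universe u

/-! ## numbers -/

theorem choose_two_ge (n : ℕ) : 2 * n + 1 ≤ (n + 3).choose 2 := by
  rw [Nat.choose_two_right]
  have h : (n + 3) * (n + 3 - 1) = (n + 3) * (n + 2) := by congr 1
  rw [h, Nat.le_div_iff_mul_le (by norm_num)]
  nlinarith only []

theorem choose_ge (n k u : ℕ) (hk : 2 ≤ k) (hku : k + 1 ≤ u) : 2 * n + 1 ≤ (n + u).choose k := by
  have h1 : (n + (k + 1)).choose k ≤ (n + u).choose k := Nat.choose_le_choose k (by omega)
  have h2 : (n + (k + 1)).choose k = (n + (k + 1)).choose (n + 1) :=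
    Nat.choose_symm_of_eq_add (by omega)
  have h3 : (n + 3).choose (n + 1) ≤ (n + (k + 1)).choose (n + 1) := Nat.choose_le_choose _ (by omega)
  have h4 : (n + 3).choose (n + 1) = (n + 3).choose 2 := Nat.choose_symm_of_eq_add (by omega)
  have h5 := choose_two_ge n
  omega

theorem choose_add_sq (h u : ℕ) (hh : 3 ≤ h) (hu : h ≤ u) : ∀ p : ℕ, u.choose h + p * p ≤ (p + u).choose h
  | 0 => by simp
  | n + 1 => by
    obtain ⟨k, rfl⟩ : ∃ k, h = k + 1 := ⟨h - 1, by omega⟩
    have ih := choose_add_sq (k + 1) u hh hu n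
    have h1 : (n + 1 + u).choose (k + 1) = (n + u).choose k + (n + u).choose (k + 1) := by
      rw [show n + 1 + u = (n + u) + 1 by ring, Nat.choose_succ_succ]
    have h2 := choose_ge n k u (by omega) (by omega)
    rw [h1]
    linarith only [ih, h2]

/-! ## transitivity of the alternating group on subsets -/

theorem exists_alt {m : ℕ} (S T : Finset (Fin m)) (hc : S.card = T.card) (hm : S.card + 2 ≤ m) :
    ∃ s : alternatingGroup (Fin m), (s : Perm (Fin m)) • S = T := by
  classical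
  have e : {x // x ∈ S} ≃ {x // x ∈ T} := Finset.equivOfCardEq hc
  have hσ : ∀ x, x ∈ S → e.extendSubtype x ∈ T := fun x hx => e.extendSubtype_mem x hx
  set σ : Perm (Fin m) := e.extendSubtype with hσd
  have h1 : σ • S = T := by
    apply Finset.eq_of_subset_of_card_le
    · intro x hx
      obtain ⟨y, hy, rfl⟩ := Finset.mem_smul_finset.1 hx
      exact hσ y hy
    · rw [Finset.card_smul_finset, hc]
  have h2 : 1 < (Tᶜ : Finset (Fin m)).card := by
    rw [Finset.card_compl, Fintype.card_fin]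
    omega
  obtain ⟨i, hi, j, hj, hij⟩ := Finset.one_lt_card.1 h2
  rw [Finset.mem_compl] at hi hj
  rcases Int.units_eq_one_or (sign σ) with h | h
  · exact ⟨⟨σ, h⟩, h1⟩
  · refine ⟨⟨swap i j * σ, ?_⟩, ?_⟩
    · rw [mem_alternatingGroup, Perm.sign_mul, sign_swap hij, h]; rfl
    · show (swap i j * σ) • S = T
      rw [mul_smul, h1]
      apply Finset.eq_of_subset_of_card_le
      · intro x hx
        obtain ⟨y, hy, rfl⟩ := Finset.mem_smul_finset.1 hx
        have : swap i j y = y := swap_apply_of_ne_of_ne (fun e => hi (e ▸ hy)) (fun e => hj (e ▸ hy))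
        rw [Perm.smul_def, this]
        exact hy
      · rw [Finset.card_smul_finset]

/-! ## elements of prime order -/

theorem inj_of_ne {G X : Type*} [Group G] [MulAction G X] {p : ℕ} (hp : p.Prime) (g : G) (hg : g ^ p = 1) (t : X)
    (ht : g • t ≠ t) : ∀ i < p, ∀ j < p, g ^ i • t = g ^ j • t → i = j := by
  intro i hi j hj hij
  have hper : Function.minimalPeriod (g • ·) t = p := by
    have h1 : Function.IsPeriodicPt (g • ·) p t := by
      show (g • ·)^[p] t = t
      rw [smul_iterate, hg]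
      exact one_smul G t
    rcases (Nat.dvd_prime hp).1 h1.minimalPeriod_dvd with h | h
    · exact absurd (Function.minimalPeriod_eq_one_iff_isFixedPt.1 h) ht
    · exact h
  have h2 := Function.iterate_injOn_Iio_minimalPeriod (f := (g • ·)) (x := t)
  rw [hper] at h2
  apply h2 (Set.mem_Iio.2 hi) (Set.mem_Iio.2 hj)
  show (g • ·)^[i] t = (g • ·)^[j] t
  rw [smul_iterate, smul_iterate]
  exact hij

/-- a `p`-cycle does not fix a small set which meets its support -/
theorem smul_ne {m p : ℕ} {c : Perm (Fin m)} (hc : c.IsCycle) (hcp : c.support.card = p) {T : Finset (Fin m)}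
    (hT : T.card < p) (hd : ¬ _root_.Disjoint c.support T) : c • T ≠ T := by
  intro h
  apply hd
  rw [Finset.disjoint_left]
  intro i hi hiT
  have h1 : ∀ n : ℕ, (c ^ n) i ∈ T := by
    intro n
    have h2 : c ^ n • T = T := by
      induction n with
      | zero => simp
      | succ k ih => rw [pow_succ, mul_smul, h, ih]
    have h3 : c ^ n • i ∈ c ^ n • T := Finset.smul_mem_smul_finset hiT
    rw [h2] at h3
    exact h3
  have h4 : c.support ⊆ T := by
    intro j hj
    obtain ⟨n, hn⟩ := hc.exists_pow_eq (mem_support.1 hi) (mem_support.1 hj)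
    rw [← hn]
    exact h1 n
  have := Finset.card_le_card h4
  omega

/-! ## primitivity -/

theorem primitive_of_cycles {m p : ℕ} (hp : p.Prime) (hm : m < 2 * p) (W : Subgroup (Perm (Fin m)))
    (hW : ∀ i : Fin m, ∃ c ∈ W, orderOf c = p ∧ c i ≠ i) (_hm0 : 0 < m) : IsPreprimitive W (Fin m) := by
  classical
  have hcyc : ∀ c : Perm (Fin m), orderOf c = p → c.IsCycle ∧ c.support.card = p := by
    intro c hc
    have h1 : c.IsCycle := isCycle_of_prime_order' (by rw [hc]; exact hp) (by rw [Fintype.card_fin, hc]; exact hm)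
    exact ⟨h1, by rw [← h1.orderOf, hc]⟩
  have hmeet : ∀ c d : Perm (Fin m), orderOf c = p → orderOf d = p → ∃ k, c k ≠ k ∧ d k ≠ k := by
    intro c d hc hd
    by_contra hcon
    push Not at hcon
    have h1 : _root_.Disjoint c.support d.support := by
      rw [Finset.disjoint_left]
      intro k hk hk'
      exact mem_support.1 hk' (hcon k (mem_support.1 hk))
    have h2 := Finset.card_union_of_disjoint h1
    have h3 := Finset.card_le_univ (c.support ∪ d.support)
    rw [Fintype.card_fin, h2, (hcyc c hc).2, (hcyc d hd).2] at h3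
    omega
  have hne : Nonempty (Fin m) := ⟨⟨0, _hm0⟩⟩
  have htr : IsPretransitive W (Fin m) := by
    refine ⟨fun i j => ?_⟩
    obtain ⟨c, hc, hcp, hci⟩ := hW i
    obtain ⟨d, hd, hdp, hdj⟩ := hW j
    obtain ⟨k, hk1, hk2⟩ := hmeet c d hcp hdp
    obtain ⟨n1, hn1⟩ := (hcyc c hcp).1.exists_pow_eq hci hk1
    obtain ⟨n2, hn2⟩ := (hcyc d hdp).1.exists_pow_eq hk2 hdj
    refine ⟨⟨d ^ n2 * c ^ n1, W.mul_mem (W.pow_mem hd _) (W.pow_mem hc _)⟩, ?_⟩
    show (d ^ n2 * c ^ n1) i = j
    rw [Perm.mul_apply, hn1, hn2]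
  refine { toIsPretransitive := htr, isTrivialBlock_of_isBlock := ?_ }
  intro B hB
  by_cases hBe : B = ∅
  · left; rw [hBe]; exact Set.subsingleton_empty
  obtain ⟨i, hi⟩ := Set.nonempty_iff_ne_empty.2 hBe
  obtain ⟨c, hc, hcp, hci⟩ := hW i
  obtain ⟨hc1, hc2⟩ := hcyc c hcp
  by_cases hcB : (⟨c, hc⟩ : W) • B = B
  · right
    apply hB.eq_univ_of_card_lt
    have h1 : ∀ n : ℕ, (c ^ n) i ∈ B := by
      intro n
      have h2 : (⟨c, hc⟩ : W) ^ n • B = B := by
        induction n with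
        | zero => simp
        | succ k ih => rw [pow_succ, mul_smul, hcB, ih]
      have h3 : (⟨c, hc⟩ : W) ^ n • i ∈ (⟨c, hc⟩ : W) ^ n • B := Set.smul_mem_smul_set hi
      rw [h2] at h3
      exact h3
    have h4 : (c.support : Set (Fin m)) ⊆ B := by
      intro j hj
      obtain ⟨n, hn⟩ := hc1.exists_pow_eq hci (mem_support.1 hj)
      rw [← hn]
      exact h1 n
    have h5 := Set.ncard_le_ncard h4 (Set.toFinite B)
    rw [Set.ncard_coe_finset, hc2] at h5
    rw [Nat.card_eq_fintype_card, Fintype.card_fin]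
    omega
  · left
    have hdis : _root_.Disjoint ((⟨c, hc⟩ : W) • B) B := by
      rcases MulAction.isBlock_iff_smul_eq_or_disjoint.1 hB ⟨c, hc⟩ with h | h
      · exact absurd h hcB
      · exact h
    have hmv : ∀ j ∈ B, c j ≠ j := by
      intro j hj h
      have h0 : j ∈ (⟨c, hc⟩ : W) • B := ⟨j, hj, h⟩
      exact Set.disjoint_left.1 hdis h0 hj
    intro j hj k hk
    by_contra hjk
    obtain ⟨n, hn⟩ := hc1.exists_pow_eq (hmv j hj) (hmv k hk)
    have h1 : (⟨c, hc⟩ : W) ^ n • B = B := by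
      rcases MulAction.isBlock_iff_smul_eq_or_disjoint.1 hB ((⟨c, hc⟩ : W) ^ n) with h | h
      · exact h
      · have h0 : k ∈ (⟨c, hc⟩ : W) ^ n • B := ⟨j, hj, hn⟩
        exact absurd hk (Set.disjoint_left.1 h h0)
    have h2 : Nat.Coprime n p := by
      rw [Nat.coprime_comm, Nat.Prime.coprime_iff_not_dvd hp]
      rintro ⟨l, rfl⟩
      apply hjk
      rw [← hn, pow_mul, ← hcp, pow_orderOf_eq_one, one_pow, Perm.one_apply]
    apply hcB
    have hs : (⟨c, hc⟩ : W) ^ n ∈ stabilizer W B := h1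
    have hs2 : (⟨c, hc⟩ : W) ∈ stabilizer W B := by
      have h3 : (⟨c, hc⟩ : W) ^ p = 1 := by
        apply Subtype.ext
        show c ^ p = 1
        rw [← hcp, pow_orderOf_eq_one]
      have h4 : orderOf (⟨c, hc⟩ : W) ∣ p := orderOf_dvd_of_pow_eq_one h3
      obtain ⟨l, hl⟩ := exists_pow_eq_self_of_coprime (x := (⟨c, hc⟩ : W)) (n := n)
        (Nat.Coprime.coprime_dvd_right h4 h2)
      rw [← hl]
      exact (stabilizer W B).pow_mem hs l
    exact hs2

/-! ## the theorem -/

variable {Ω : Type u} {p q : ℕ} {K : Subgroup (Perm Ω)}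

theorem mem_M {a : Ω} {x : Perm Ω} (hx : x ∈ K) (hxp : orderOf x = p) (hxa : x a = a) : x ∈ M p K a :=
  Subgroup.subset_closure ⟨hx, hxp, hxa⟩

theorem M_le {a : Ω} : M p K a ≤ K := (Subgroup.closure_le _).2 (fun _ h => h.1)

variable [Fintype Ω] [DecidableEq Ω]

theorem order_phi (h : Setup p q K) (a : Ω) {u : ℕ} (φ : M p K a →* alternatingGroup (Fin (p + u)))
    (hφ : Function.Surjective φ) (x : M p K a) (hx : orderOf x = p) : orderOf (φ x : Perm (Fin (p + u))) = p := by
  classical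
  have hp := h.prime
  have hp2 : p ≠ 2 := by have := h.two_le; have := h.lt; omega
  rw [Subgroup.orderOf_coe]
  have h1 : orderOf (φ x) ∣ p := by
    have := orderOf_map_dvd φ x
    rwa [hx] at this
  rcases (Nat.dvd_prime hp).1 h1 with h2 | h2
  · exfalso
    rw [orderOf_eq_one_iff] at h2
    have hk : p ∣ Nat.card φ.ker := by
      have : orderOf (⟨x, h2⟩ : φ.ker) ∣ Nat.card φ.ker := orderOf_dvd_natCard _
      rwa [← Subgroup.orderOf_coe, hx] at this
    have hA : p ∣ Nat.card (alternatingGroup (Fin (p + u))) := by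
      have : Nontrivial (Fin (p + u)) := by
        rw [Fin.nontrivial_iff_two_le]
        have := hp.two_le; omega
      have h3 := two_mul_nat_card_alternatingGroup (α := Fin (p + u))
      have h4 : p ∣ 2 * Nat.card (alternatingGroup (Fin (p + u))) := by
        rw [h3, Nat.card_perm, Nat.card_eq_fintype_card, Fintype.card_fin]
        exact Nat.dvd_factorial hp.pos (by omega)
      rcases hp.dvd_mul.1 h4 with h5 | h5
      · exact absurd ((Nat.prime_dvd_prime_iff_eq hp Nat.prime_two).1 h5) hp2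
      · exact h5
    have hM : p ^ 2 ∣ Nat.card (M p K a) := by
      have h3 := Subgroup.card_mul_index φ.ker
      rw [Subgroup.index_ker, MonoidHom.range_eq_top.2 hφ, Subgroup.card_top] at h3
      rw [← h3, pow_two]
      exact mul_dvd_mul hk hA
    exact h.sylow (hM.trans (Subgroup.card_dvd_of_le M_le))
  · exact h2

theorem exists_S (h : Setup p q K) (a : Ω) {u : ℕ} (hu : 3 ≤ u) (hup : u < p)
    (φ : M p K a →* alternatingGroup (Fin (p + u))) (hφ : Function.Surjective φ) (b : Ω) (hab : b ≠ a)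
    (hb : ∃ y ∈ K, orderOf y = p ∧ y a = a ∧ y b = b) :
    Bad φ b ∨ ∃ S : Finset (Fin (p + u)), 1 ≤ S.card ∧ S.card ≤ 2 ∧
      ∀ x : M p K a, orderOf x = p → ((x : Perm Ω) b = b ↔ _root_.Disjoint (φ x : Perm (Fin (p + u))).support S) := by
  classical
  have hp := h.prime
  have hord := order_phi h a φ hφ
  obtain ⟨y0, hy0K, hy0p, hy0a, hy0b⟩ := hb
  set! Y : M p K a := ⟨y0, mem_M hy0K hy0p hy0a⟩ with hY
  have hYp : orderOf Y = p := by rw [← Subgroup.orderOf_coe]; exact hy0p
  set! S : Finset (Fin (p + u)) := Finset.univ.filter (fun i => ∀ y : M p K a, (y : Perm Ω) b = b →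
    orderOf (φ y : Perm (Fin (p + u))) = p → (φ y : Perm (Fin (p + u))) i = i) with hS
  have hcyc : ∀ c : Perm (Fin (p + u)), orderOf c = p → c.IsCycle ∧ c.support.card = p := by
    intro c hc
    have h1 : c.IsCycle := isCycle_of_prime_order' (by rw [hc]; exact hp)
      (by rw [Fintype.card_fin, hc]; omega)
    exact ⟨h1, by rw [← h1.orderOf, hc]⟩
  -- the supports are disjoint from `S`
  have hdis : ∀ y : M p K a, (y : Perm Ω) b = b → orderOf (φ y : Perm (Fin (p + u))) = p →
      _root_.Disjoint (φ y : Perm (Fin (p + u))).support S := by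
    intro y hy hyp
    rw [Finset.disjoint_left]
    intro i hi hiS
    exact mem_support.1 hi ((Finset.mem_filter.1 hiS).2 y hy hyp)
  have hScard : S.card ≤ u := by
    have h1 := hdis Y hy0b (hord Y hYp)
    have h2 := Finset.card_union_of_disjoint h1
    have h3 := Finset.card_le_univ ((φ Y : Perm (Fin (p + u))).support ∪ S)
    rw [Fintype.card_fin, h2, (hcyc _ (hord Y hYp)).2] at h3
    omega
  rcases Finset.eq_empty_or_nonempty S with hSe | hSn
  · -- the transitive case
    left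
    set! W : Subgroup (Perm (Fin (p + u))) :=
      (stabilizer (M p K a) b).map ((alternatingGroup (Fin (p + u))).subtype.comp φ) with hW
    have hprim : IsPreprimitive W (Fin (p + u)) := by
      apply primitive_of_cycles hp (by omega) W _ (by omega)
      intro i
      have hi : i ∉ S := by rw [hSe]; exact Finset.notMem_empty i
      rw [hS, Finset.mem_filter] at hi
      push Not at hi
      obtain ⟨y, hy, hyp, hyi⟩ := hi (Finset.mem_univ i)
      exact ⟨_, Subgroup.mem_map.2 ⟨y, hy, rfl⟩, hyp, hyi⟩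
    have hmem : (φ Y : Perm (Fin (p + u))) ∈ W := Subgroup.mem_map.2 ⟨Y, hy0b, rfl⟩
    have hA := Cfsg.Agent.S0713.result W hprim hp (by rw [Fintype.card_fin]; have := hp.two_le; omega)
      (by rw [Fintype.card_fin]; omega) (hcyc _ (hord Y hYp)).1 (hcyc _ (hord Y hYp)).2 hmem
    intro s
    obtain ⟨y, hy, hys⟩ := Subgroup.mem_map.1 (hA s.2)
    exact ⟨y, hy, Subtype.ext hys⟩
  · right
    -- `S` is invariant
    have hinv : ∀ w : M p K a, (w : Perm Ω) b = b → (φ w : Perm (Fin (p + u))) • S = S := by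
      intro w hw
      apply Finset.eq_of_subset_of_card_le _ (by rw [Finset.card_smul_finset])
      intro j hj
      obtain ⟨i, hi, rfl⟩ := Finset.mem_smul_finset.1 hj
      rw [hS, Finset.mem_filter]
      refine ⟨Finset.mem_univ _, fun y hy hyp => ?_⟩
      have h1 := (Finset.mem_filter.1 hi).2 (w⁻¹ * y * w) ?_ ?_
      · rw [map_mul, map_mul, map_inv] at h1
        simp only [Subgroup.coe_mul, Subgroup.coe_inv, Perm.mul_apply] at h1
        rw [Perm.inv_eq_iff_eq] at h1
        exact h1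
      · simp only [Subgroup.coe_mul, Subgroup.coe_inv, Perm.mul_apply]
        rw [hw, hy, Perm.inv_eq_iff_eq, hw]
      · rw [map_mul, map_mul, map_inv]
        simp only [Subgroup.coe_mul, Subgroup.coe_inv]
        have h2 : ((φ w : Perm (Fin (p + u)))⁻¹ * (φ y : Perm (Fin (p + u))) * (φ w : Perm (Fin (p + u)))) ^ p = 1 := by
          have h3 := conj_pow (i := p) (a := (φ w : Perm (Fin (p + u)))⁻¹) (b := (φ y : Perm (Fin (p + u))))
          rw [inv_inv] at h3
          rw [h3, orderOf_dvd_iff_pow_eq_one.1 (dvd_of_eq hyp), mul_one, inv_mul_cancel]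
        rcases (Nat.dvd_prime hp).1 (orderOf_dvd_of_pow_eq_one h2) with h3 | h3
        · exfalso
          rw [orderOf_eq_one_iff] at h3
          have h4 : (φ y : Perm (Fin (p + u))) = 1 := by
            have h5 : (φ w : Perm (Fin (p + u))) * ((φ w : Perm (Fin (p + u)))⁻¹ * (φ y : Perm (Fin (p + u))) *
              (φ w : Perm (Fin (p + u)))) * (φ w : Perm (Fin (p + u)))⁻¹ = (φ y : Perm (Fin (p + u))) := by group
            rw [← h5, h3]; group
          rw [h4, orderOf_one] at hyp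
          exact hp.one_lt.ne hyp
        · exact h3
    have hwd : ∀ y y' : M p K a, (y : Perm Ω) b = (y' : Perm Ω) b →
        (φ y : Perm (Fin (p + u))) • S = (φ y' : Perm (Fin (p + u))) • S := by
      intro y y' hyy
      have h1 := hinv (y'⁻¹ * y) (by
        simp only [Subgroup.coe_mul, Subgroup.coe_inv, Perm.mul_apply]
        rw [hyy]; exact Equiv.symm_apply_apply _ _)
      rw [map_mul, map_inv, Subgroup.coe_mul, Subgroup.coe_inv, mul_smul, inv_smul_eq_iff] at h1
      exact h1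
    have htr : ∀ T : Finset (Fin (p + u)), T.card = S.card → ∃ y : M p K a, (φ y : Perm (Fin (p + u))) • S = T := by
      intro T hT
      obtain ⟨s, hs⟩ := exists_alt S T hT.symm (by omega)
      obtain ⟨y, hy⟩ := hφ s
      exact ⟨y, by rw [hy, hs]⟩
    have hsupp : ∀ x : M p K a, orderOf x = p → (x : Perm Ω).support.card = q * p := fun x hx =>
      h.supp x (M_le x.2) (by rw [Subgroup.orderOf_coe, hx])
    have hqp : q * p < p * p := Nat.mul_lt_mul_of_pos_right h.lt hp.pos
    -- size at most two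
    have hS2 : S.card ≤ 2 := by
      by_contra hcon
      push Not at hcon
      choose yy hyy using htr
      set! c : Perm (Fin (p + u)) := (φ Y : Perm (Fin (p + u))) with hc
      obtain ⟨hc1, hc2⟩ := hcyc c (hord Y hYp)
      set! TT : Finset (Finset (Fin (p + u))) :=
        (Finset.univ.powersetCard S.card) \ ((c.supportᶜ).powersetCard S.card) with hTT
      have hTTc : p * p ≤ TT.card := by
        rw [hTT, Finset.card_sdiff_of_subset (Finset.powersetCard_mono (Finset.subset_univ _)),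
          Finset.card_powersetCard, Finset.card_powersetCard, Finset.card_compl, Finset.card_univ,
          Fintype.card_fin, hc2]
        have h1 := choose_add_sq S.card u hcon hScard p
        rw [show p + u - p = u by omega]
        omega
      have hmem : ∀ T ∈ TT, T.card = S.card ∧ ¬ _root_.Disjoint c.support T := by
        intro T hT
        rw [hTT, Finset.mem_sdiff, Finset.mem_powersetCard, Finset.mem_powersetCard] at hT
        refine ⟨hT.1.2, fun hd => hT.2 ⟨?_, hT.1.2⟩⟩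
        intro i hi
        rw [Finset.mem_compl]
        exact fun hi' => Finset.disjoint_left.1 hd hi' hi
      have hle : TT.card ≤ (Y : Perm Ω).support.card := by
        apply Finset.card_le_card_of_injOn (fun T => if hT : T.card = S.card then (yy T hT : Perm Ω) b else b)
        · intro T hT
          have hT := hmem T hT
          simp only [hT.1, dif_pos, Finset.mem_coe, mem_support]
          intro hfix
          apply smul_ne hc1 hc2 (by omega : T.card < p) hT.2
          have h1 := hwd (Y * yy T hT.1) (yy T hT.1) (by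
            rw [Subgroup.coe_mul, Perm.mul_apply]; exact hfix)
          rw [map_mul, Subgroup.coe_mul, mul_smul, hyy T hT.1] at h1
          exact h1
        · intro T hT T' hT' he
          have hT := hmem T hT
          have hT' := hmem T' hT'
          simp only [hT.1, hT'.1, dif_pos] at he
          have h1 := hwd _ _ he
          rw [hyy T hT.1, hyy T' hT'.1] at h1
          exact h1
      rw [hsupp Y hYp] at hle
      omega
    refine ⟨S, Finset.card_pos.2 hSn, hS2, fun x hx => ⟨fun hxb => hdis x hxb (hord x hx), fun hd => ?_⟩⟩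
    -- the converse
    by_contra hxb
    set! c : Perm (Fin (p + u)) := (φ x : Perm (Fin (p + u))) with hc; rewrite [← hc] at hd
    obtain ⟨hc1, hc2⟩ := hcyc c (hord x hx)
    have hcS : ∀ n : ℕ, c ^ n • S = S := by
      intro n
      have h1 : c • S = S := by
        apply Finset.eq_of_subset_of_card_le _ (by rw [Finset.card_smul_finset])
        intro j hj
        obtain ⟨i, hi, rfl⟩ := Finset.mem_smul_finset.1 hj
        have : c i = i := by
          by_contra hne
          exact Finset.disjoint_left.1 hd (mem_support.2 hne) hi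
        rw [Perm.smul_def, this]
        exact hi
      induction n with
      | zero => simp
      | succ k ih => rw [pow_succ, mul_smul, h1, ih]
    obtain ⟨i0, hi0⟩ := hSn
    obtain ⟨j0, hj0⟩ : c.support.Nonempty := Finset.card_pos.1 (by rw [hc2]; exact hp.pos)
    have hj0S : j0 ∉ S := fun h1 => Finset.disjoint_left.1 hd hj0 h1
    obtain ⟨y, hy⟩ := htr (insert j0 (S.erase i0)) (by
      rw [Finset.card_insert_of_notMem (fun h1 => hj0S (Finset.mem_of_mem_erase h1)),
        Finset.card_erase_add_one hi0])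
    set! T := (φ y : Perm (Fin (p + u))) • S with hT; rewrite [← hT] at hy
    have hTc : T.card = S.card := by rw [hT, Finset.card_smul_finset]
    have hTne : c • T ≠ T := by
      apply smul_ne hc1 hc2 (by omega)
      intro h1
      apply Finset.disjoint_left.1 h1 hj0
      rw [hy]
      exact Finset.mem_insert_self _ _
    have hcp : c ^ p = 1 := orderOf_dvd_iff_pow_eq_one.1 (dvd_of_eq (hord x hx))
    have hxp : (x : Perm Ω) ^ p = 1 :=
      orderOf_dvd_iff_pow_eq_one.1 (dvd_of_eq (by rw [Subgroup.orderOf_coe]; exact hx))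
    have hval : ∀ j i : ℕ, (φ (x ^ j * (y * x ^ i)) : Perm (Fin (p + u))) • S = c ^ j • T := by
      intro j i
      rw [map_mul, map_mul, map_pow, map_pow, Subgroup.coe_mul, Subgroup.coe_mul, Subgroup.coe_pow,
        Subgroup.coe_pow, mul_smul, mul_smul, ← hc, hcS]
    have hle : (Finset.range p ×ˢ Finset.range p).card ≤ (x : Perm Ω).support.card := by
      apply Finset.card_le_card_of_injOn (fun ji => ((x ^ ji.1 * (y * x ^ ji.2) : M p K a) : Perm Ω) b)
      · rintro ⟨j, i⟩ hji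
        simp only [Finset.mem_coe, mem_support]
        intro hfix
        apply hTne
        have h1 := hwd (x * (x ^ j * (y * x ^ i))) (x ^ j * (y * x ^ i)) (by
          rw [Subgroup.coe_mul, Perm.mul_apply]; exact hfix)
        rw [← mul_assoc, ← pow_succ', hval, hval, pow_succ, mul_smul] at h1
        exact smul_left_cancel _ h1
      · rintro ⟨j, i⟩ hji ⟨j', i'⟩ hji' he
        simp only [Finset.coe_product, Finset.coe_range, Set.mem_prod, Set.mem_Iio] at hji hji'
        simp only at he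
        have h1 := hwd _ _ he
        rw [hval, hval] at h1
        have h2 : j = j' := inj_of_ne hp c hcp T hTne j hji.1 j' hji'.1 h1
        subst h2
        simp only [Subgroup.coe_mul, Subgroup.coe_pow, Perm.mul_apply] at he
        have h3 := (y : Perm Ω).injective (((x : Perm Ω) ^ j).injective he)
        have h4 : i = i' := inj_of_ne hp (x : Perm Ω) hxp b hxb i hji.2 i' hji'.2 h3
        rw [h4]
    rw [Finset.card_product, Finset.card_range, hsupp x hx] at hle
    omega

end Cfsg.Agent.H976.PrA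
end

-- part: H426/FC/Local
section
/-!
# S3618, part B: the structure of `M_a`
-/

set_option autoImplicit false
set_option linter.unusedSectionVars false

open Equiv Equiv.Perm MulAction

namespace Cfsg.Agent.H426.FC

universe u

variable {Ω : Type u} [Fintype Ω] [DecidableEq Ω]

/-- the family of minimal elements -/
theorem fam {p : ℕ} [hp : Fact p.Prime] {H : Subgroup (Perm Ω)} {s : ℕ} {x0 : Perm Ω} (hx0 : x0 ∈ XX p H s)
    (hn : 2 * s ≤ Fintype.card Ω) : Fam H (XX p H s) s where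
  mem := fun x hx => hx.1
  conj := by
    intro h hh x hx
    refine ⟨H.mul_mem (H.mul_mem hh hx.1) (H.inv_mem hh), ?_, ?_⟩
    · rw [← MulAut.conj_apply, MulEquiv.orderOf_eq]
      exact hx.2.1
    · rw [Perm.card_support_conj]
      exact hx.2.2
  nonempty := ⟨x0, hx0⟩
  card := fun x hx => hx.2.2
  two_le := by
    rw [← hx0.2.2]
    exact Perm.two_le_card_support_of_ne_one (ne_one hp.out hx0.2.1)
  lt := by
    have h : 2 ≤ s := by
      rw [← hx0.2.2]
      exact Perm.two_le_card_support_of_ne_one (ne_one hp.out hx0.2.1)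
    omega

/-- the group generated by the minimal elements fixing `a` -/
def Ma (p : ℕ) (H : Subgroup (Perm Ω)) (s : ℕ) (a : Ω) : Subgroup (Perm Ω) :=
  Subgroup.closure {x | x ∈ XX p H s ∧ x a = a}

section

variable {p : ℕ} [hp : Fact p.Prime] {H : Subgroup (Perm Ω)} {s : ℕ} (D : MinData p H s)

theorem mem_Ma {a : Ω} {x : Perm Ω} (hx : x ∈ XX p H s) (hxa : x a = a) : x ∈ Ma p H s a :=
  Subgroup.subset_closure ⟨hx, hxa⟩

theorem Ma_le (a : Ω) : Ma p H s a ≤ H := by
  rw [Ma, Subgroup.closure_le]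
  exact fun x hx => hx.1.1

theorem Ma_fix {a : Ω} {m : Perm Ω} (hm : m ∈ Ma p H s a) : m a = a := by
  have h : Ma p H s a ≤ stabilizer (Perm Ω) a := by
    rw [Ma, Subgroup.closure_le]
    exact fun x hx => hx.2
  exact h hm

include D

/-- (G1): the groups generated by minimal elements fixing `a` are conjugate -/
theorem exists_conj_Ma (hprim : IsPreprimitive H Ω) (hn : 2 * s ≤ Fintype.card Ω) {a : Ω} {x y : Perm Ω}
    (hx : x ∈ XX p H s) (hxa : x a = a) (hy : y ∈ XX p H s) (hya : y a = a) :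
    ∃ m ∈ Ma p H s a, ∃ i : ℤ, m * y * m⁻¹ = x ^ i := by
  have hF := fam hx hn
  -- chains
  have chain : ∀ b c : Ω, Relation.ReflTransGen (Rel (XX p H s) a) b c → x b ≠ b → ∀ z ∈ XX p H s, z a = a → z c ≠ c →
      ∃ m ∈ Ma p H s a, ∃ i : ℤ, m * z * m⁻¹ = x ^ i := by
    intro b c hbc hxb
    have base : ∀ u v : Perm Ω, u ∈ XX p H s → u a = a → v ∈ XX p H s → v a = a → ∀ c, u c ≠ c → v c ≠ c →
        ∃ m ∈ Ma p H s a, ∃ i : ℤ, m * v * m⁻¹ = u ^ i := by
      intro u v hu hua hv hva c huc hvc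
      obtain ⟨l, hl, i, hi⟩ := D.exists_conj hu hv huc hvc
      refine ⟨l, ?_, i, hi⟩
      refine (Subgroup.closure_le _).2 ?_ hl
      rintro w (rfl | rfl)
      · exact mem_Ma hu hua
      · exact mem_Ma hv hva
    induction hbc with
    | refl =>
      intro z hz hza hzb
      exact base x z hx hxa hz hza b hxb hzb
    | @tail c d _ hcd ih =>
      intro z hz hza hzd
      obtain ⟨w, hw, hwa, hwc, hwd⟩ := hcd
      obtain ⟨m, hm, i, hi⟩ := ih w hw hwa hwc
      obtain ⟨l, hl, j, hj⟩ := base w z hw hwa hz hza d hwd hzd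
      refine ⟨m * l, mul_mem hm hl, i * j, ?_⟩
      have h1 : m * l * z * (m * l)⁻¹ = m * (l * z * l⁻¹) * m⁻¹ := by group
      have h2 : m * w ^ j * m⁻¹ = (m * w * m⁻¹) ^ j := by
        rw [conj_zpow]
      rw [h1, hj, h2, hi, zpow_mul]
  obtain ⟨b, hb⟩ : ∃ b, x b ≠ b := by
    by_contra h
    push Not at h
    exact ne_one hp.out hx.2.1 (Equiv.ext h)
  obtain ⟨c, hc⟩ : ∃ c, y c ≠ c := by
    by_contra h
    push Not at h
    exact ne_one hp.out hy.2.1 (Equiv.ext h)
  refine chain b c (H273.FC.connected H hprim _ s hF a b c ?_ ?_) hb y hy hya hc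
  · rintro rfl
    exact hb hxa
  · rintro rfl
    exact hc hya

/-- every minimal element fixing `a` moves a point in every orbit of `M_a` on the other points -/
theorem exists_move (hprim : IsPreprimitive H Ω) (hn : 2 * s ≤ Fintype.card Ω) {a b : Ω} (hab : b ≠ a) {x : Perm Ω}
    (hx : x ∈ XX p H s) (hxa : x a = a) : ∃ m ∈ Ma p H s a, x (m b) ≠ m b := by
  obtain ⟨y, hy, hya, hyb⟩ := H273.FC.exists_fix_move H hprim _ s (fam hx hn) a b hab.symm
  obtain ⟨m, hm, i, hi⟩ := exists_conj_Ma D hprim hn hx hxa hy hya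
  refine ⟨m, hm, ?_⟩
  intro h
  have h1 : (x ^ i) (m b) = m b := Perm.zpow_apply_eq_self_of_apply_eq_self h i
  rw [← hi, Perm.mul_apply, Perm.mul_apply] at h1
  have h2 : m⁻¹ (m b) = b := m.symm_apply_apply b
  rw [h2] at h1
  exact hyb (m.injective h1)

end

/-- if `M_a` is transitive on the other points then `H` is 2-transitive -/
theorem two_of_trans {H : Subgroup (Perm Ω)} (hH : IsPretransitive H Ω) (a : Ω)
    (h : ∀ b c : Ω, b ≠ a → c ≠ a → ∃ m ∈ H, m a = a ∧ m b = c) : IsMultiplyPretransitive H Ω 2 := by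
  rw [is_two_pretransitive_iff]
  intro c d c' d' hcd hcd'
  obtain ⟨h1, hh1⟩ := exists_smul_eq H c a
  obtain ⟨h2, hh2⟩ := exists_smul_eq H c' a
  obtain ⟨m, hm, hma, hmd⟩ := h (h1 • d) (h2 • d') (by rw [← hh1]; exact fun h => hcd (h1.1.injective h).symm)
    (by rw [← hh2]; exact fun h => hcd' (h2.1.injective h).symm)
  refine ⟨h2⁻¹ * (⟨m, hm⟩ : H) * h1, ?_, ?_⟩
  · rw [mul_smul, mul_smul, hh1, inv_smul_eq_iff, hh2]
    exact hma
  · rw [mul_smul, mul_smul, inv_smul_eq_iff]
    exact hmd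

end Cfsg.Agent.H426.FC
end

-- part: H426/FC/Count
section
/-!
# S3618, part B: counting over the orbits of `M_a`, and quotients
-/

set_option autoImplicit false
set_option linter.unusedSectionVars false

open Equiv Equiv.Perm MulAction

namespace Cfsg.Agent.H426.FC

universe u

/-- some orbit of `M` other than `{a}` has at least twice as many points as `S` has on it -/
theorem exists_orbit {Ω : Type u} [Fintype Ω] [DecidableEq Ω] (M : Subgroup (Perm Ω)) (a : Ω) (hM : ∀ m ∈ M, m a = a)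
    (S : Finset Ω) (ha : a ∉ S) (hS : ∀ b, b ≠ a → ∃ m ∈ M, m b ∈ S) (hn : 2 * S.card ≤ Fintype.card Ω)
    (h2 : ∃ b c, b ≠ a ∧ c ≠ a ∧ ∀ m ∈ M, m b ≠ c) :
    ∃ b, b ≠ a ∧ 2 * Nat.card {c // c ∈ S ∧ c ∈ orbit M b} ≤ Nat.card (orbit M b) ∧
      Nat.card {c // c ∈ S ∧ c ∈ orbit M b} < S.card := by
  classical
  let Q := Quotient (orbitRel M Ω)
  let π : Ω → Q := Quotient.mk _
  have hfin : Fintype Q := Fintype.ofFinite _
  let N : Q → ℕ := fun q => (Finset.univ.filter fun c => π c = q).card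
  let T : Q → ℕ := fun q => (S.filter fun c => π c = q).card
  have hπ : ∀ b c, π c = π b ↔ c ∈ orbit M b := by
    intro b c
    exact Quotient.eq''
  have hN : ∑ q, N q = Fintype.card Ω := by
    rw [← Finset.card_univ]
    exact (Finset.card_eq_sum_card_fiberwise (f := π) (fun c _ => Finset.mem_univ _)).symm
  have hT : ∑ q, T q = S.card := (Finset.card_eq_sum_card_fiberwise (f := π) (fun c _ => Finset.mem_univ _)).symm
  have hNb : ∀ b, N (π b) = Nat.card (orbit M b) := by
    intro b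
    rw [Nat.card_eq_fintype_card, Fintype.card_of_subtype (Finset.univ.filter fun c => π c = π b)]
    intro c
    rw [Finset.mem_filter]
    exact ⟨fun h => (hπ b c).1 h.2, fun h => ⟨Finset.mem_univ _, (hπ b c).2 h⟩⟩
  have hTb : ∀ b, T (π b) = Nat.card {c // c ∈ S ∧ c ∈ orbit M b} := by
    intro b
    rw [Nat.card_eq_fintype_card, Fintype.card_of_subtype (S.filter fun c => π c = π b)]
    intro c
    rw [Finset.mem_filter]
    exact ⟨fun h => ⟨h.1, (hπ b c).1 h.2⟩, fun h => ⟨h.1, (hπ b c).2 h.2⟩⟩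
  have hTpos : ∀ b, b ≠ a → 0 < T (π b) := by
    intro b hb
    obtain ⟨m, hm, hmb⟩ := hS b hb
    refine Finset.card_pos.2 ⟨m b, Finset.mem_filter.2 ⟨hmb, ?_⟩⟩
    rw [hπ]
    exact ⟨⟨m, hm⟩, rfl⟩
  have horb : ∀ b, π b = π a → b = a := by
    intro b hb
    obtain ⟨m, hm⟩ := (hπ a b).1 hb
    change (m : Perm Ω) a = b at hm
    rw [← hm]
    exact hM m m.2
  have hTa : T (π a) = 0 := by
    rw [Finset.card_eq_zero, Finset.filter_eq_empty_iff]
    intro c hc h
    rw [horb c h] at hc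
    exact ha hc
  have hNa : N (π a) = 1 := by
    rw [Finset.card_eq_one]
    refine ⟨a, ?_⟩
    ext c
    rw [Finset.mem_filter, Finset.mem_singleton]
    exact ⟨fun h => horb c h.2, fun h => ⟨Finset.mem_univ _, by rw [h]⟩⟩
  obtain ⟨b, c, hb, hc, hbc⟩ := h2
  have hπbc : π b ≠ π c := by
    intro h
    obtain ⟨m, hm⟩ := (hπ c b).1 h
    refine hbc m⁻¹ (M.inv_mem m.2) ?_
    rw [← hm]
    exact (m : Perm Ω).symm_apply_apply c
  have hab : π b ≠ π a := fun h => hb (horb b h)
  have hac : π c ≠ π a := fun h => hc (horb c h)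
  -- an orbit with many points
  have hex : ∃ q, q ≠ π a ∧ 2 * T q ≤ N q := by
    by_contra hno
    push Not at hno
    have h1 : ∑ q ∈ Finset.univ.erase (π a), (N q + 1) ≤ ∑ q ∈ Finset.univ.erase (π a), 2 * T q :=
      Finset.sum_le_sum fun q hq => hno q (Finset.ne_of_mem_erase hq)
    rw [Finset.sum_add_distrib, ← Finset.mul_sum, Finset.sum_const, smul_eq_mul, mul_one] at h1
    have h2 := Finset.add_sum_erase Finset.univ N (Finset.mem_univ (π a))
    have h3 := Finset.add_sum_erase Finset.univ T (Finset.mem_univ (π a))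
    rw [hN, hNa] at h2
    rw [hT, hTa, zero_add] at h3
    rw [h3] at h1
    have h4 : 2 ≤ (Finset.univ.erase (π a)).card := by
      refine Finset.one_lt_card.2 ⟨π b, ?_, π c, ?_, hπbc⟩
      · exact Finset.mem_erase.2 ⟨hab, Finset.mem_univ _⟩
      · exact Finset.mem_erase.2 ⟨hac, Finset.mem_univ _⟩
    omega
  obtain ⟨q, hqa, hq⟩ := hex
  obtain ⟨d, rfl⟩ : ∃ d, π d = q := Quotient.exists_rep q
  have hda : d ≠ a := fun h => hqa (by rw [h])
  refine ⟨d, hda, ?_, ?_⟩
  · rw [← hNb, ← hTb]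
    exact hq
  · rw [← hTb, ← hT]
    -- another orbit
    obtain ⟨e, hea, hed⟩ : ∃ e, e ≠ a ∧ π e ≠ π d := by
      by_cases h : π b = π d
      · exact ⟨c, hc, fun h' => hπbc (h.trans h'.symm)⟩
      · exact ⟨b, hb, h⟩
    rw [← Finset.add_sum_erase Finset.univ T (Finset.mem_univ (π d))]
    have h5 : T (π e) ≤ ∑ q ∈ Finset.univ.erase (π d), T q :=
      Finset.single_le_sum (f := T) (fun _ _ => Nat.zero_le _) (Finset.mem_erase.2 ⟨hed, Finset.mem_univ _⟩)
    have h6 := hTpos e hea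
    omega

/-- the points over a set under an equivariant map onto a transitive action -/
theorem card_over {G : Type*} [Group G] {Y B : Type*} [Fintype Y] [Fintype B] [DecidableEq B] [MulAction G Y]
    [MulAction G B] [IsPretransitive G B] (f : Y → B) (hf : ∀ (g : G) y, f (g • y) = g • f y) (β : B) :
    ∀ T : Finset B, Nat.card {y // f y ∈ T} = T.card * Nat.card {y // f y = β} := by
  classical
  have h1 : ∀ γ : B, Nat.card {y // f y = γ} = Nat.card {y // f y = β} := by
    intro γ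
    obtain ⟨g, hg⟩ := exists_smul_eq G γ β
    refine Nat.card_congr ⟨fun y => ⟨g • y.1, by rw [hf, y.2, hg]⟩, fun y => ⟨g⁻¹ • y.1, by
      rw [hf, y.2, ← hg, inv_smul_smul]⟩, ?_, ?_⟩
    · intro y
      exact Subtype.ext (inv_smul_smul _ _)
    · intro y
      exact Subtype.ext (smul_inv_smul _ _)
  intro T
  have h2 : Nat.card {y // f y ∈ T} = (Finset.univ.filter fun y => f y ∈ T).card := by
    rw [Nat.card_eq_fintype_card, Fintype.card_of_subtype (Finset.univ.filter fun y => f y ∈ T)]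
    intro y
    rw [Finset.mem_filter]
    exact ⟨fun h => h.2, fun h => ⟨Finset.mem_univ _, h⟩⟩
  have h3 := Finset.card_eq_sum_card_fiberwise (s := Finset.univ.filter fun y => f y ∈ T) (f := f) (t := T)
    (fun y hy => (Finset.mem_filter.1 (Finset.mem_coe.1 hy)).2)
  rw [h2, h3, ← smul_eq_mul, ← Finset.sum_const]
  refine Finset.sum_congr rfl fun γ hγ => ?_
  rw [← h1 γ, Nat.card_eq_fintype_card, Fintype.card_of_subtype]
  intro y
  rw [Finset.mem_filter, Finset.mem_filter]
  exact ⟨fun h => h.2, fun h => ⟨⟨Finset.mem_univ _, by rw [h]; exact hγ⟩, h⟩⟩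

end Cfsg.Agent.H426.FC
end

-- part: H355/FC/Alt
section
/-!
# S3618, part B: the alternating group lemmas (helper355)

* `c3 a b c` : the 3-cycle `a → b → c → a`;
* `A3.insert`, `A3.union`, `A3.alternating_le`, `A3_closure`, `exists_support`.
-/

set_option autoImplicit false
set_option linter.unusedSectionVars false
set_option linter.unusedFintypeInType false

open Equiv Equiv.Perm MulAction Cfsg.Agent.H426.FC

namespace Cfsg.Agent.H355.FC

universe v

variable {B : Type v} [Fintype B] [DecidableEq B]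

/-- the 3-cycle `a → b → c → a` -/
def c3 (a b c : B) : Perm B := swap a b * swap b c

theorem c3_conj (g : Perm B) (a b c : B) : g * c3 a b c * g⁻¹ = c3 (g a) (g b) (g c) := by
  unfold c3
  have h1 : g * swap a b = swap (g a) (g b) * g := mul_swap_eq_swap_mul g a b
  have h2 : g * swap b c = swap (g b) (g c) * g := mul_swap_eq_swap_mul g b c
  calc g * (swap a b * swap b c) * g⁻¹ = (g * swap a b) * swap b c * g⁻¹ := by group
    _ = swap (g a) (g b) * (g * swap b c) * g⁻¹ := by rw [h1]; group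
    _ = swap (g a) (g b) * swap (g b) (g c) := by rw [h2]; group

theorem c3_isThreeCycle {a b c : B} (ab : a ≠ b) (ac : a ≠ c) (bc : b ≠ c) : (c3 a b c).IsThreeCycle := by
  unfold c3
  rw [swap_comm a b]
  exact isThreeCycle_swap_mul_swap_same ab.symm bc ac

theorem c3_apply_one {a b c : B} (ab : a ≠ b) (ac : a ≠ c) : c3 a b c a = b := by
  unfold c3
  rw [mul_apply, swap_apply_of_ne_of_ne ab ac, swap_apply_left]

theorem c3_apply_two {a b c : B} (ac : a ≠ c) (bc : b ≠ c) : c3 a b c b = c := by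
  unfold c3
  rw [mul_apply, swap_apply_left, swap_apply_of_ne_of_ne ac.symm bc.symm]

theorem c3_apply_three {a b c : B} : c3 a b c c = a := by
  unfold c3
  rw [mul_apply, swap_apply_right, swap_apply_right]

theorem c3_apply_ne {a b c x : B} (ha : x ≠ a) (hb : x ≠ b) (hc : x ≠ c) : c3 a b c x = x := by
  unfold c3
  rw [mul_apply, swap_apply_of_ne_of_ne hb hc, swap_apply_of_ne_of_ne ha hb]

theorem eq_c3 {σ : Perm B} (h : σ.IsThreeCycle) {a : B} (ha : σ a ≠ a) : σ = c3 a (σ a) (σ (σ a)) :=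
  h.eq_swap_mul_swap_iff_mem_support.2 (mem_support.2 ha)

theorem ne_of_isThreeCycle {σ : Perm B} (h : σ.IsThreeCycle) {a : B} (ha : σ a ≠ a) :
    σ (σ a) ≠ a ∧ σ (σ a) ≠ σ a := by
  have h1 := h.nodup_iff_mem_support.2 (mem_support.2 ha)
  simp only [List.nodup_cons, List.mem_cons, List.not_mem_nil, or_false, not_or] at h1
  exact ⟨fun h2 => h1.1.2 h2.symm, fun h2 => h1.2.1 h2.symm⟩

theorem c3_rot {a b c : B} (ab : a ≠ b) (ac : a ≠ c) (bc : b ≠ c) : c3 a b c = c3 b c a := by
  have h1 := eq_c3 (c3_isThreeCycle ab ac bc) (a := b) (by rw [c3_apply_two ac bc]; exact bc.symm)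
  rw [c3_apply_two ac bc, c3_apply_three] at h1
  exact h1

theorem c3_inv (a b c : B) : (c3 a b c)⁻¹ = c3 c b a := by
  unfold c3
  rw [mul_inv_rev, swap_inv, swap_inv, swap_comm b c, swap_comm a b]

theorem c3_support {a b c : B} (ab : a ≠ b) (ac : a ≠ c) (bc : b ≠ c) : (c3 a b c).support = {a, b, c} := by
  have h1 := (c3_isThreeCycle ab ac bc).support_eq_iff_mem_support.2
    (mem_support.2 (by rw [c3_apply_one ab ac]; exact ab.symm) : a ∈ (c3 a b c).support)
  rw [c3_apply_one ab ac, c3_apply_two ac bc] at h1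
  exact h1

theorem A3.c3_mem {W : Subgroup (Perm B)} {S : Finset B} (h : A3 W S) {a b c : B} (ab : a ≠ b) (ac : a ≠ c)
    (bc : b ≠ c) (ha : a ∈ S) (hb : b ∈ S) (hc : c ∈ S) : c3 a b c ∈ W := by
  refine h _ (c3_isThreeCycle ab ac bc) ?_
  rw [c3_support ab ac bc]
  intro x hx
  simp only [Finset.mem_insert, Finset.mem_singleton] at hx
  rcases hx with rfl | rfl | rfl <;> assumption

/-- symmetry of the pairs -/
theorem c3_symm {W : Subgroup (Perm B)} {u a b : B} (ua : u ≠ a) (ub : u ≠ b) (ab : a ≠ b) (h : c3 u a b ∈ W) :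
    c3 u b a ∈ W := by
  have h1 := W.inv_mem h
  rw [c3_inv, c3_rot ab.symm ub.symm ua.symm, c3_rot ua.symm ab ub] at h1
  exact h1

theorem c3_move {W : Subgroup (Perm B)} {S : Finset B} (hS : A3 W S) {u a b c : B} (hu : u ∉ S) (ha : a ∈ S)
    (hb : b ∈ S) (hc : c ∈ S) (ab : a ≠ b) (ac : a ≠ c) (bc : b ≠ c) (h : c3 u a b ∈ W) : c3 u b c ∈ W := by
  have hg := A3.c3_mem hS ab ac bc ha hb hc
  have h1 := W.mul_mem (W.mul_mem hg h) (W.inv_mem hg)
  rw [c3_conj, c3_apply_one ab ac, c3_apply_two ac bc, c3_apply_ne] at h1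
  · exact h1
  · rintro rfl; exact hu ha
  · rintro rfl; exact hu hb
  · rintro rfl; exact hu hc

/-- `A3` for `insert u S` from one 3-cycle containing `u` and two points of `S` -/
theorem A3.insert_of {W : Subgroup (Perm B)} {S : Finset B} (h : A3 W S) {u o x : B} (hu : u ∉ S) (ho : o ∈ S)
    (hx : x ∈ S) (ox : o ≠ x) (hT : c3 u o x ∈ W) : A3 W (insert u S) := by
  have hne : ∀ a ∈ S, u ≠ a := fun a ha hua => hu (hua ▸ ha)
  have K1 : ∀ c ∈ S, c ≠ x → c3 u x c ∈ W := by
    intro c hc hcx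
    by_cases hco : c = o
    · subst hco
      exact c3_symm (hne _ ho) (hne _ hx) ox hT
    · exact c3_move h hu ho hx hc ox (Ne.symm hco) (Ne.symm hcx) hT
  have K2 : ∀ a ∈ S, ∀ b ∈ S, a ≠ b → c3 u a b ∈ W := by
    intro a ha b hb hab
    by_cases hax : a = x
    · subst hax
      exact K1 b hb (Ne.symm hab)
    · have h1 := K1 a ha hax
      by_cases hbx : b = x
      · subst hbx
        exact c3_symm (hne _ hx) (hne _ ha) (Ne.symm hax) h1
      · exact c3_move h hu hx ha hb (Ne.symm hax) (Ne.symm hbx) hab h1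
  intro σ hσ hsupp
  by_cases hus : σ u = u
  · refine h σ hσ fun y hy => ?_
    have h1 := hsupp hy
    rw [Finset.mem_insert] at h1
    rcases h1 with rfl | h1
    · exact absurd hus (mem_support.1 hy)
    · exact h1
  · obtain ⟨h1, h2⟩ := ne_of_isThreeCycle hσ hus
    have m1 : σ u ∈ σ.support := by rwa [apply_mem_support, mem_support]
    have m2 : σ (σ u) ∈ σ.support := by rwa [apply_mem_support]
    rw [eq_c3 hσ hus]
    refine K2 _ ?_ _ ?_ (Ne.symm h2)
    · exact (Finset.mem_insert.1 (hsupp m1)).resolve_left hus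
    · exact (Finset.mem_insert.1 (hsupp m2)).resolve_left h1

/-- ALT1: adding one point (three points are enough) -/
theorem A3.insert' {W : Subgroup (Perm B)} {S : Finset B} (h : A3 W S) (h3 : 3 ≤ S.card) {τ : Perm B}
    (hτ : τ.IsThreeCycle) (hτW : τ ∈ W) (o u : B) (ho : o ∈ S) (hτo : τ o = u) (hu : u ∉ S) : A3 W (insert u S) := by
  have hou : o ≠ u := fun h1 => hu (h1 ▸ ho)
  have hτo' : τ o ≠ o := by rw [hτo]; exact hou.symm
  obtain ⟨h1, h2⟩ := ne_of_isThreeCycle hτ hτo'
  have h0 := eq_c3 hτ hτo'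
  rw [hτo] at h0 h1 h2
  set v := τ u with hv
  by_cases hvS : v ∈ S
  · -- `c3 o u v = c3 u v o`
    refine A3.insert_of h hu hvS ho h1 ?_
    rw [← c3_rot hou h1.symm h2.symm, ← h0]
    exact hτW
  · obtain ⟨x, hx, hxo⟩ : ∃ x ∈ S, x ≠ o := Finset.exists_mem_ne (by omega) o
    obtain ⟨y, hy, hyn⟩ : ∃ y ∈ S, y ∉ ({o, x} : Finset B) := by
      by_contra hcon
      push Not at hcon
      have h5 : S ⊆ {o, x} := hcon
      have h6 := Finset.card_le_card h5
      have h7 : ({o, x} : Finset B).card ≤ 2 := Finset.card_le_two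
      omega
    simp only [Finset.mem_insert, Finset.mem_singleton, not_or] at hyn
    have hne : ∀ a ∈ S, u ≠ a := fun a ha hua => hu (hua ▸ ha)
    have hne' : ∀ a ∈ S, v ≠ a := fun a ha hua => hvS (hua ▸ ha)
    have hg := A3.c3_mem h hxo.symm (Ne.symm hyn.1) (Ne.symm hyn.2) ho hx hy
    have h8 := W.mul_mem (W.mul_mem (W.mul_mem hg hτW) (W.inv_mem hg)) (W.inv_mem hτW)
    rw [h0, c3_conj, c3_apply_one hxo.symm (Ne.symm hyn.1), c3_apply_ne (hne o ho) (hne x hx) (hne y hy),
      c3_apply_ne (hne' o ho) (hne' x hx) (hne' y hy), c3_inv] at h8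
    have h9 : c3 x u v * c3 v u o = c3 x u o := by
      unfold c3
      rw [swap_comm u v, mul_assoc, swap_mul_self_mul]
    rw [h9, c3_rot (hne x hx).symm hxo (hne o ho)] at h8
    exact A3.insert_of h hu ho hx hxo.symm h8

/-- ALT1: adding one point -/
theorem A3.insert {W : Subgroup (Perm B)} {S : Finset B} (h : A3 W S) (h4 : 4 ≤ S.card) {τ : Perm B}
    (hτ : τ.IsThreeCycle) (hτW : τ ∈ W) (o u : B) (ho : o ∈ S) (hτo : τ o = u) (hu : u ∉ S) : A3 W (insert u S) :=
  A3.insert' h (by omega) hτ hτW o u ho hτo hu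

/-- ALT2: overlapping sets -/
theorem A3.union {W : Subgroup (Perm B)} {S S' : Finset B} (h : A3 W S) (h' : A3 W S') (h3 : 3 ≤ S.card)
    (h3' : 3 ≤ S'.card) (ho : (S ∩ S').Nonempty) : A3 W (S ∪ S') := by
  classical
  obtain ⟨o, ho⟩ := ho
  rw [Finset.mem_inter] at ho
  -- a maximal set
  have key : ∀ k : ℕ, ∀ R : Finset B, S ⊆ R → R ⊆ S ∪ S' → A3 W R → (S ∪ S').card = R.card + k → A3 W (S ∪ S') := by
    intro k
    induction k with
    | zero =>
      intro R _ hR hA hc
      rwa [← Finset.eq_of_subset_of_card_le hR (by omega)]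
    | succ k ih =>
      intro R hSR hR hA hc
      have h1 : ¬ (S ∪ S') ⊆ R := fun h2 => by
        have := Finset.card_le_card h2
        omega
      rw [Finset.not_subset] at h1
      obtain ⟨u, hu, huR⟩ := h1
      have huS' : u ∈ S' := by
        rw [Finset.mem_union] at hu
        exact hu.resolve_left fun h2 => huR (hSR h2)
      have hou : o ≠ u := fun h2 => huR (h2 ▸ hSR ho.1)
      obtain ⟨v, hv, hvn⟩ : ∃ v ∈ S', v ∉ ({o, u} : Finset B) := by
        by_contra hcon
        push Not at hcon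
        have h5 : S' ⊆ {o, u} := hcon
        have h6 := Finset.card_le_card h5
        have h7 : ({o, u} : Finset B).card ≤ 2 := Finset.card_le_two
        omega
      simp only [Finset.mem_insert, Finset.mem_singleton, not_or] at hvn
      have hτ := c3_isThreeCycle hou (Ne.symm hvn.1) (Ne.symm hvn.2)
      have hτW := A3.c3_mem h' hou (Ne.symm hvn.1) (Ne.symm hvn.2) ho.2 huS' hv
      refine ih (Insert.insert u R) (hSR.trans (Finset.subset_insert _ _)) ?_ ?_ ?_
      · exact Finset.insert_subset hu hR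
      · exact A3.insert' hA (h3.trans (Finset.card_le_card hSR)) hτ hτW o u (hSR ho.1)
          (c3_apply_one hou (Ne.symm hvn.1)) huR
      · rw [Finset.card_insert_of_notMem huR]
        omega
  obtain ⟨k, hk⟩ : ∃ k, (S ∪ S').card = S.card + k :=
    ⟨_, (Nat.add_sub_cancel' (Finset.card_le_card Finset.subset_union_left)).symm⟩
  exact key k S (Finset.Subset.refl _) Finset.subset_union_left h hk

/-- ALT3: `Alt` from all 3-cycles -/
theorem A3.alternating_le {W : Subgroup (Perm B)} (h : A3 W Finset.univ) : alternatingGroup B ≤ W := by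
  rw [← closure_three_cycles_eq_alternating, Subgroup.closure_le]
  intro σ hσ
  exact h σ hσ (Finset.subset_univ _)

/-- ALT5: homogeneity -/
theorem exists_support {d : ℕ} (XB : Set (Perm B)) (hne : XB.Nonempty)
    (hconj : ∀ τ ∈ alternatingGroup B, ∀ x ∈ XB, τ * x * τ⁻¹ ∈ XB) (hcard : ∀ x ∈ XB, x.support.card = d)
    (h2 : d + 2 ≤ Fintype.card B) (D : Finset B) (hD : D.card = d) : ∃ x ∈ XB, x.support = D := by
  classical
  obtain ⟨x₀, hx₀⟩ := hne
  have hc : x₀.support.card = D.card := by rw [hcard x₀ hx₀, hD]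
  let e : {x // x ∈ x₀.support} ≃ {x // x ∈ D} := Finset.equivOfCardEq hc
  let τ : Perm B := e.extendSubtype
  have hτ : ∀ x ∈ x₀.support, τ x ∈ D := fun x hx => e.extendSubtype_mem x hx
  -- two points outside `D`
  obtain ⟨a, ha, b, hb, hab⟩ : ∃ a ∈ Dᶜ, ∃ b ∈ Dᶜ, a ≠ b := by
    have h3 : 1 < (Dᶜ : Finset B).card := by
      rw [Finset.card_compl, hD]
      omega
    exact Finset.one_lt_card.1 h3
  rw [Finset.mem_compl] at ha hb
  obtain ⟨τ', hτ', hτD⟩ : ∃ τ' ∈ alternatingGroup B, ∀ x ∈ x₀.support, τ' x ∈ D := by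
    rcases Int.units_eq_one_or (sign τ) with hs | hs
    · exact ⟨τ, mem_alternatingGroup.2 hs, hτ⟩
    · refine ⟨swap a b * τ, ?_, fun x hx => ?_⟩
      · rw [mem_alternatingGroup, Equiv.Perm.sign_mul, sign_swap hab, hs]
        rfl
      · have h4 := hτ x hx
        rw [mul_apply, swap_apply_of_ne_of_ne]
        · exact h4
        · rintro h5; exact ha (h5 ▸ h4)
        · rintro h5; exact hb (h5 ▸ h4)
  refine ⟨τ' * x₀ * τ'⁻¹, hconj τ' hτ' x₀ hx₀, ?_⟩
  rw [support_conj]
  refine Finset.eq_of_subset_of_card_le ?_ ?_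
  · intro y hy
    rw [Finset.mem_map] at hy
    obtain ⟨x, hx, rfl⟩ := hy
    exact hτD x hx
  · rw [Finset.card_map, hc]

/-- two 3-cycles with the same support generate the same group -/
theorem eq_or_eq_inv {σ x : Perm B} (hσ : σ.IsThreeCycle) (hx : x.IsThreeCycle) (h : σ.support = x.support) :
    σ = x ∨ σ = x⁻¹ := by
  obtain ⟨a, ha⟩ : σ.support.Nonempty := by
    rw [← Finset.card_pos, hσ.card_support]
    norm_num
  have haσ : σ a ≠ a := mem_support.1 ha
  have hax : x a ≠ a := mem_support.1 (h ▸ ha)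
  obtain ⟨s1, s2⟩ := ne_of_isThreeCycle hσ haσ
  obtain ⟨x1, x2⟩ := ne_of_isThreeCycle hx hax
  have hσs : σ.support = {a, σ a, σ (σ a)} := hσ.support_eq_iff_mem_support.2 ha
  have hxs : x.support = {a, x a, x (x a)} := hx.support_eq_iff_mem_support.2 (h ▸ ha)
  have m1 : σ a ∈ x.support := by rw [← h, apply_mem_support]; exact ha
  have m2 : σ (σ a) ∈ x.support := by rw [← h, apply_mem_support, apply_mem_support]; exact ha
  rw [hxs] at m1 m2
  simp only [Finset.mem_insert, Finset.mem_singleton] at m1 m2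
  have e1 := eq_c3 hσ haσ
  have e2 := eq_c3 hx hax
  rcases m1 with m1 | m1 | m1
  · exact absurd m1 haσ
  · left
    rcases m2 with m2 | m2 | m2
    · exact absurd m2 s1
    · exact absurd (m2.trans m1.symm) s2
    · rw [e1, e2, m2, m1]
  · right
    rcases m2 with m2 | m2 | m2
    · exact absurd m2 s1
    · have e3 : x⁻¹ = c3 a (x (x a)) (x a) := by
        have e4 : x⁻¹ = (c3 a (x a) (x (x a)))⁻¹ := congrArg (·⁻¹) e2
        rw [e4, c3_inv, ← c3_rot x1.symm hax.symm x2]
      rw [e3, e1, m2, m1]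
    · exact absurd (m2.trans m1.symm) s2

/-- `A3 W S` from the even permutations of `S` -/
theorem A3.of_alternating {W : Subgroup (Perm B)} {S : Finset B}
    (h : ∀ σ : Perm {x // x ∈ S}, σ ∈ alternatingGroup {x // x ∈ S} → ofSubtype σ ∈ W) : A3 W S := by
  intro σ hσ hs
  have h1 : ∀ x, σ x ∈ S ↔ x ∈ S := by
    intro x
    by_cases hx : σ x = x
    · rw [hx]
    · have h2 : x ∈ σ.support := mem_support.2 hx
      exact ⟨fun _ => hs h2, fun _ => hs (apply_mem_support.2 h2)⟩
  have h2 : ofSubtype (subtypePerm σ h1) = σ := ofSubtype_subtypePerm h1 fun x hx => hs (mem_support.2 hx)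
  rw [← h2]
  refine h _ ?_
  rw [mem_alternatingGroup, ← sign_ofSubtype, h2]
  exact hσ.sign

/-- ALT4 -/
theorem A3_closure {p d : ℕ} [Fact p.Prime] (hp : p ≠ 2) (XB : Set (Perm B)) (hne : XB.Nonempty)
    (hconj : ∀ τ ∈ alternatingGroup B, ∀ x ∈ XB, τ * x * τ⁻¹ ∈ XB) (hcard : ∀ x ∈ XB, x.support.card = d)
    (hord : ∀ x ∈ XB, orderOf x = p) (h2 : 2 * d ≤ Fintype.card B) (S : Finset B) (hS : d ≤ S.card) :
    A3 (Subgroup.closure {x ∈ XB | x.support ⊆ S}) S := by
  classical
  have hpp : p.Prime := Fact.out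
  have hpodd : Odd p := hpp.odd_of_ne_two hp
  -- `p ∣ d`, `3 ≤ d`
  obtain ⟨x₀, hx₀⟩ := hne
  have hpd : p ∣ d := by
    rw [← hcard x₀ hx₀, ← sum_cycleType]
    refine Multiset.dvd_sum fun n hn => ?_
    have h3 : n ∣ orderOf x₀ := by
      rw [← lcm_cycleType]
      exact Multiset.dvd_lcm hn
    rw [hord x₀ hx₀] at h3
    rcases (Nat.dvd_prime hpp).1 h3 with h4 | h4
    · have := two_le_of_mem_cycleType hn
      omega
    · rw [h4]
  have hd0 : 0 < d := by
    rw [← hcard x₀ hx₀, Finset.card_pos]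
    rw [Finset.nonempty_iff_ne_empty]
    intro h3
    have h4 := support_eq_empty_iff.1 h3
    have h5 := hord x₀ hx₀
    rw [h4, orderOf_one] at h5
    exact hpp.one_lt.ne h5
  have hp3 : 3 ≤ p := by
    have := hpp.two_le
    omega
  have hd3 : 3 ≤ d := hp3.trans (Nat.le_of_dvd hd0 hpd)
  have hhom : ∀ D : Finset B, D.card = d → ∃ x ∈ XB, x.support = D := fun D hD =>
    exists_support XB ⟨x₀, hx₀⟩ hconj hcard (by omega) D hD
  rcases Nat.lt_or_ge d 5 with hd5 | hd5
  · -- `d = 3`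
    have hd : d = 3 := by
      have h3 : d = 3 ∨ d = 4 := by omega
      rcases h3 with h3 | h3
      · exact h3
      · exfalso
        rw [h3] at hpd
        have h4 : p ∣ 2 ^ 2 := hpd
        have h5 := (Nat.prime_dvd_prime_iff_eq hpp Nat.prime_two).1 (hpp.dvd_of_dvd_pow h4)
        exact hp h5
    intro σ hσ hs
    obtain ⟨x, hx, hxs⟩ := hhom σ.support (by rw [hσ.card_support, hd])
    have hx3 : x.IsThreeCycle := card_support_eq_three_iff.1 (by rw [hxs, hσ.card_support])
    have hxW : x ∈ Subgroup.closure {x ∈ XB | x.support ⊆ S} :=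
      Subgroup.subset_closure ⟨hx, by rw [hxs]; exact hs⟩
    rcases eq_or_eq_inv hσ hx3 hxs.symm with h3 | h3
    · rw [h3]; exact hxW
    · rw [h3]; exact inv_mem hxW
  · -- `d ≥ 5`
    set W := Subgroup.closure {x ∈ XB | x.support ⊆ S} with hW
    have hS5 : 5 ≤ Nat.card {x // x ∈ S} := by
      rw [Nat.card_eq_fintype_card, Fintype.card_coe]
      omega
    -- conjugation with even permutations of `S`
    have hconjW : ∀ g : Perm {x // x ∈ S}, g ∈ alternatingGroup {x // x ∈ S} → ∀ w ∈ W,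
        ofSubtype g * w * (ofSubtype g)⁻¹ ∈ W := by
      intro g hg w hw
      have hgB : ofSubtype g ∈ alternatingGroup B := by
        rw [mem_alternatingGroup, sign_ofSubtype]
        exact hg
      have hgS : ∀ x ∈ S, ofSubtype g x ∈ S := by
        intro x hx
        rw [ofSubtype_apply_of_mem g hx]
        exact (g ⟨x, hx⟩).2
      induction hw using Subgroup.closure_induction with
      | mem x hx =>
        refine Subgroup.subset_closure ⟨hconj _ hgB x hx.1, ?_⟩
        rw [support_conj]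
        intro y hy
        rw [Finset.mem_map] at hy
        obtain ⟨z, hz, rfl⟩ := hy
        exact hgS z (hx.2 hz)
      | one => simp
      | mul x y _ _ hx hy =>
        have : ofSubtype g * (x * y) * (ofSubtype g)⁻¹ =
            (ofSubtype g * x * (ofSubtype g)⁻¹) * (ofSubtype g * y * (ofSubtype g)⁻¹) := by group
        rw [this]; exact mul_mem hx hy
      | inv x _ hx =>
        have : ofSubtype g * x⁻¹ * (ofSubtype g)⁻¹ = (ofSubtype g * x * (ofSubtype g)⁻¹)⁻¹ := by group
        rw [this]; exact inv_mem hx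
    let N : Subgroup (alternatingGroup {x // x ∈ S}) :=
      W.comap ((ofSubtype : Perm {x // x ∈ S} →* Perm B).comp (alternatingGroup {x // x ∈ S}).subtype)
    have hN : N.Normal := by
      constructor
      intro n hn g
      change ofSubtype ((g * n * g⁻¹ : alternatingGroup {x // x ∈ S}) : Perm {x // x ∈ S}) ∈ W
      rw [Subgroup.coe_mul, Subgroup.coe_mul, Subgroup.coe_inv, map_mul, map_mul, map_inv]
      exact hconjW g g.2 _ hn
    have hNtop : N = ⊤ := by
      rcases alternatingGroup.normal_subgroup_eq_bot_or_eq_top hS5 (N := N) with h3 | h3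
      · exfalso
        obtain ⟨D, hDS, hD⟩ := Finset.exists_subset_card_eq hS
        obtain ⟨x, hx, hxs⟩ := hhom D hD
        have h1 : ∀ y, x y ∈ S ↔ y ∈ S := by
          intro y
          by_cases hy : x y = y
          · rw [hy]
          · have h2 : y ∈ x.support := mem_support.2 hy
            exact ⟨fun _ => hDS (hxs ▸ h2), fun _ => hDS (hxs ▸ apply_mem_support.2 h2)⟩
        have h4 : ofSubtype (subtypePerm x h1) = x := ofSubtype_subtypePerm h1 fun y hy => hDS (hxs ▸ mem_support.2 hy)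
        have hsx : sign x = 1 := by
          rcases Int.units_eq_one_or (sign x) with h5 | h5
          · exact h5
          · exfalso
            have h6 : sign (x ^ p) = 1 := by rw [← hord x hx, pow_orderOf_eq_one, Equiv.Perm.sign_one]
            rw [map_pow, h5, hpodd.neg_one_pow] at h6
            exact absurd h6 (by decide)
        have h5 : (⟨subtypePerm x h1, by rw [mem_alternatingGroup, ← sign_ofSubtype, h4]; exact hsx⟩ :
            alternatingGroup {x // x ∈ S}) ∈ N := by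
          change ofSubtype (subtypePerm x h1) ∈ W
          rw [h4]
          exact Subgroup.subset_closure ⟨hx, by rw [hxs]; exact hDS⟩
        rw [h3, Subgroup.mem_bot] at h5
        have h6 : subtypePerm x h1 = 1 := congrArg Subtype.val h5
        rw [h6, map_one] at h4
        have h7 := hord x hx
        rw [← h4, orderOf_one] at h7
        exact hpp.one_lt.ne h7
      · exact h3
    refine A3.of_alternating fun σ hσ => ?_
    have h3 : (⟨σ, hσ⟩ : alternatingGroup {x // x ∈ S}) ∈ N := by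
      rw [hNtop]
      trivial
    exact h3

end Cfsg.Agent.H355.FC
end

-- part: H426/FC/Kappa
section
/-!
# S3618, part B: KAPPA
-/

set_option autoImplicit false

open Equiv Equiv.Perm MulAction

namespace Cfsg.Agent.H426.FC

universe u v

theorem A3.mono {B : Type v} [Fintype B] [DecidableEq B] {W W' : Subgroup (Perm B)} {S : Finset B} (h : A3 W S)
    (hW : W ≤ W') : A3 W' S := fun σ h1 h2 => hW (h σ h1 h2)

theorem three_le_support {B : Type v} [Fintype B] [DecidableEq B] {p : ℕ} (hp : p.Prime) (hp2 : p ≠ 2) {x : Perm B}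
    (hx : orderOf x = p) : 3 ≤ x.support.card := by
  have h0 : x ≠ 1 := by
    intro h
    rw [h, orderOf_one] at hx
    exact hp.one_lt.ne hx
  have h1 : 2 ≤ x.support.card := Perm.two_le_card_support_of_ne_one h0
  by_contra h
  have h3 : x.support.card = 2 := by omega
  have h4 : x.IsSwap := Perm.card_support_eq_two.1 h3
  have h5 : x ^ 2 = 1 := by
    obtain ⟨u, v, -, huv⟩ := h4
    rw [huv, pow_two, Equiv.swap_mul_self]
  have h6 : p ∣ 2 := by rw [← hx]; exact orderOf_dvd_of_pow_eq_one h5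
  exact hp2 ((Nat.prime_dvd_prime_iff_eq hp Nat.prime_two).1 h6)

/-- KAPPA (section 3 (c) of the plan) -/
theorem exists_kappa {M : Type u} [Group M] {Ω : Type v} {B : Type v} [Fintype B] [DecidableEq B] [MulAction M Ω]
    [MulAction M B] {p d : ℕ} [hp' : Fact p.Prime] (hp : p ≠ 2) (XX : Set M)
    (hconj : ∀ m : M, ∀ x ∈ XX, m * x * m⁻¹ ∈ XX) (hd : ∀ x ∈ XX, (toPermHom M B x).support.card = d)
    (hord : ∀ x ∈ XX, orderOf (toPermHom M B x) = p) (h2 : 2 * d ≤ Fintype.card B)
    (halt : alternatingGroup B ≤ (toPermHom M B).range)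
    (hdis : ∀ x ∈ XX, ∀ y ∈ XX, (∀ β : B, x • β = β ∨ y • β = β) → ∀ b : Ω, x • b = b ∨ y • b = b)
    (b : Ω) (hb : ∃ x ∈ XX, x • b ≠ b) : ∃! κ : B, ∀ x ∈ XX, x • b ≠ b ↔ x • κ ≠ κ := by
  classical
  let φ : M →* Perm B := toPermHom M B
  have hφ : ∀ (m : M) (β : B), φ m β = m • β := fun m β => rfl
  obtain ⟨x0, hx0, hx0b⟩ := hb
  have hd3 : 3 ≤ d := by
    rw [← hd x0 hx0]
    exact three_le_support hp'.out hp (hord x0 hx0)
  let XB : Set (Perm B) := φ '' XX
  have hne : XB.Nonempty := ⟨_, x0, hx0, rfl⟩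
  have hconjB : ∀ τ ∈ alternatingGroup B, ∀ x ∈ XB, τ * x * τ⁻¹ ∈ XB := by
    rintro τ hτ _ ⟨y, hy, rfl⟩
    obtain ⟨m, rfl⟩ := halt hτ
    refine ⟨m * y * m⁻¹, hconj m y hy, ?_⟩
    rw [map_mul, map_mul, map_inv]
  have hcardB : ∀ x ∈ XB, x.support.card = d := by
    rintro _ ⟨y, hy, rfl⟩
    exact hd y hy
  have hordB : ∀ x ∈ XB, orderOf x = p := by
    rintro _ ⟨y, hy, rfl⟩
    exact hord y hy
  -- the image of the stabilizer
  let W : Subgroup (Perm B) := (stabilizer M b).map φ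
  have hdisj : ∀ x ∈ XX, ∀ y ∈ XX, _root_.Disjoint (φ x).support (φ y).support → x • b ≠ b → y • b = b := by
    intro x hx y hy h hxb
    refine (hdis x hx y hy (fun β => ?_) b).resolve_left hxb
    by_contra hno
    push Not at hno
    exact (Finset.disjoint_left.1 h) (mem_support.2 hno.1) (mem_support.2 hno.2)
  -- elements fixing `b` generate large subgroups of `W`
  have hgen : ∀ S : Finset B, d ≤ S.card → (∀ x ∈ XX, (φ x).support ⊆ S → x • b = b) → A3 W S := by
    intro S hS h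
    refine (H355.FC.A3_closure hp XB hne hconjB hcardB hordB h2 S hS).mono ?_
    rw [Subgroup.closure_le]
    rintro _ ⟨⟨y, hy, rfl⟩, hyS⟩
    exact ⟨y, h y hy hyS, rfl⟩
  -- `W` does not contain the alternating group
  have hnot : ¬ alternatingGroup B ≤ W := by
    intro h
    obtain ⟨D', hD', hD'c⟩ := Finset.exists_subset_card_eq (s := ((φ x0).support)ᶜ) (n := d) (by
      rw [Finset.card_compl, hd x0 hx0]; omega)
    obtain ⟨z, ⟨y, hy, rfl⟩, hz⟩ := H355.FC.exists_support XB hne hconjB hcardB (by omega) D' hD'c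
    -- a permutation in `Alt` moving `supp x0` onto `D'`
    obtain ⟨τ, hτ, hτS⟩ : ∃ τ ∈ alternatingGroup B, (τ * φ x0 * τ⁻¹).support = D' := by
      obtain ⟨z, ⟨τ, hτ, rfl⟩, hz⟩ := H355.FC.exists_support (d := d) ((fun τ => τ * φ x0 * τ⁻¹) '' (alternatingGroup B : Set (Perm B)))
        ⟨_, 1, one_mem _, rfl⟩ (by
          rintro σ hσ _ ⟨τ, hτ, rfl⟩
          refine ⟨σ * τ, mul_mem hσ hτ, ?_⟩
          simp only
          group) (by
          rintro _ ⟨τ, hτ, rfl⟩
          simp only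
          rw [Perm.card_support_conj]
          exact hd x0 hx0) (by omega) D' hD'c
      exact ⟨τ, hτ, hz⟩
    obtain ⟨m, hm, hmτ⟩ := h hτ
    have h1 : (m * x0 * m⁻¹) • b = b := by
      refine hdisj x0 hx0 _ (hconj m x0 hx0) ?_ hx0b
      rw [map_mul, map_mul, map_inv, hmτ, hτS, Finset.disjoint_left]
      intro β hβ hβ'
      exact Finset.mem_compl.1 (hD' hβ') hβ
    have hmb : m • b = b := hm
    rw [mul_smul, mul_smul, inv_smul_eq_iff.2 hmb.symm, smul_eq_iff_eq_inv_smul, inv_smul_eq_iff.2 hmb.symm] at h1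
    exact hx0b h1
  -- a maximal `S`
  obtain ⟨S, hSmem, hSmax⟩ : ∃ S : Finset B, (((φ x0).support)ᶜ ⊆ S ∧ A3 W S) ∧
      ∀ S' : Finset B, ((φ x0).support)ᶜ ⊆ S' → A3 W S' → S'.card ≤ S.card := by
    obtain ⟨S, hS, hmax⟩ := Finset.exists_max_image
      (Finset.univ.filter fun S : Finset B => ((φ x0).support)ᶜ ⊆ S ∧ A3 W S) Finset.card
      ⟨((φ x0).support)ᶜ, Finset.mem_filter.2 ⟨Finset.mem_univ _, subset_rfl,
        hgen _ (by rw [Finset.card_compl, hd x0 hx0]; omega) (by
          intro y hy hyS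
          refine hdisj x0 hx0 y hy ?_ hx0b
          rw [Finset.disjoint_left]
          intro β hβ hβ'
          exact Finset.mem_compl.1 (hyS hβ') hβ)⟩⟩
    refine ⟨S, (Finset.mem_filter.1 hS).2, fun S' h1 h3 => ?_⟩
    exact hmax S' (Finset.mem_filter.2 ⟨Finset.mem_univ _, h1, h3⟩)
  have hS3 : 3 ≤ S.card := by
    have := Finset.card_le_card hSmem.1
    rw [Finset.card_compl, hd x0 hx0] at this
    omega
  have hadd : ∀ S' : Finset B, A3 W S' → 3 ≤ S'.card → (S ∩ S').Nonempty → S' ⊆ S := by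
    intro S' h h3 h4
    have h5 := H355.FC.A3.union hSmem.2 h hS3 h3 h4
    have h6 := hSmax (S ∪ S') (hSmem.1.trans Finset.subset_union_left) h5
    have h7 : S = S ∪ S' := Finset.eq_of_subset_of_card_le Finset.subset_union_left h6
    rw [h7]
    exact Finset.subset_union_right
  -- members of `XX` moving `b` have support containing the complement of `S`
  have hcontain : ∀ x ∈ XX, x • b ≠ b → Sᶜ ⊆ (φ x).support := by
    intro x hx hxb
    have h1 : A3 W ((φ x).support)ᶜ := hgen _ (by rw [Finset.card_compl, hd x hx]; omega) (by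
      intro y hy hyS
      refine hdisj x hx y hy ?_ hxb
      rw [Finset.disjoint_left]
      intro β hβ hβ'
      exact Finset.mem_compl.1 (hyS hβ') hβ)
    have h3 : (S ∩ ((φ x).support)ᶜ).Nonempty := by
      -- the supports of `x` and `x0` meet
      obtain ⟨β, hβ, hβ'⟩ : ∃ β, β ∈ (φ x0).support ∧ β ∈ (φ x).support := by
        by_contra hno
        push Not at hno
        exact hxb (hdisj x0 hx0 x hx (Finset.disjoint_left.2 hno) hx0b)
      have h4 : ((φ x0).support ∪ (φ x).support).card < Fintype.card B := by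
        have h5 := Finset.card_union_add_card_inter (φ x0).support (φ x).support
        rw [hd x hx, hd x0 hx0] at h5
        have h6 : 0 < ((φ x0).support ∩ (φ x).support).card :=
          Finset.card_pos.2 ⟨β, Finset.mem_inter.2 ⟨hβ, hβ'⟩⟩
        omega
      obtain ⟨γ, hγ⟩ : ∃ γ, γ ∉ (φ x0).support ∪ (φ x).support := by
        by_contra hno
        push Not at hno
        rw [(Finset.eq_univ_iff_forall.2 hno), Finset.card_univ] at h4
        exact lt_irrefl _ h4
      rw [Finset.mem_union, not_or] at hγ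
      exact ⟨γ, Finset.mem_inter.2 ⟨hSmem.1 (Finset.mem_compl.2 hγ.1), Finset.mem_compl.2 hγ.2⟩⟩
    have h4 := hadd _ h1 (by rw [Finset.card_compl, hd x hx]; omega) h3
    intro β hβ
    by_contra h5
    exact Finset.mem_compl.1 hβ (h4 (Finset.mem_compl.2 h5))
  have hSne : Sᶜ.Nonempty := by
    rw [Finset.nonempty_iff_ne_empty]
    intro h
    rw [Finset.compl_eq_empty_iff] at h
    apply hnot
    have := hSmem.2
    rw [h] at this
    exact H355.FC.A3.alternating_le this
  obtain ⟨κ, hκ⟩ := hSne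
  -- the complement of `S` is `{κ}`
  have hpt : ∀ β : B, d ≤ (Finset.univ.erase β).card := by
    intro β
    rw [Finset.card_erase_of_mem (Finset.mem_univ _), Finset.card_univ]
    omega
  have hScompl : Sᶜ = {κ} := by
    apply Finset.eq_singleton_iff_unique_mem.2 ⟨hκ, ?_⟩
    intro β hβ
    by_contra hne
    -- elements missing `κ` or missing `β` fix `b`
    have h1 : ∀ γ ∈ Sᶜ, A3 W (Finset.univ.erase γ) := by
      intro γ hγ
      refine hgen _ (hpt γ) fun x hx hxS => ?_
      by_contra hxb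
      have h3 := hxS (hcontain x hx hxb hγ)
      exact Finset.notMem_erase γ _ h3
    have h3 := H355.FC.A3.union (h1 κ hκ) (h1 β hβ) (by have := hpt κ; omega) (by have := hpt β; omega) (by
      obtain ⟨γ, hγ, hγ1, hγ2⟩ : ∃ γ ∈ (Finset.univ : Finset B), γ ≠ κ ∧ γ ≠ β := by
        have h4 : 2 < (Finset.univ : Finset B).card := by rw [Finset.card_univ]; omega
        obtain ⟨γ, hγ, h5⟩ := Finset.exists_mem_notMem_of_card_lt_card (s := {κ, β}) (t := (Finset.univ : Finset B))
          (lt_of_le_of_lt Finset.card_le_two h4)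
        rw [Finset.mem_insert, Finset.mem_singleton, not_or] at h5
        exact ⟨γ, hγ, h5.1, h5.2⟩
      exact ⟨γ, Finset.mem_inter.2 ⟨Finset.mem_erase.2 ⟨hγ1, hγ⟩, Finset.mem_erase.2 ⟨hγ2, hγ⟩⟩⟩)
    have h4 : Finset.univ.erase κ ∪ Finset.univ.erase β = (Finset.univ : Finset B) := by
      rw [Finset.eq_univ_iff_forall]
      intro γ
      rw [Finset.mem_union, Finset.mem_erase, Finset.mem_erase]
      by_cases h5 : γ = κ
      · exact Or.inr ⟨fun h6 => hne (h6.symm.trans h5), Finset.mem_univ _⟩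
      · exact Or.inl ⟨h5, Finset.mem_univ _⟩
    rw [h4] at h3
    exact hnot (H355.FC.A3.alternating_le h3)
  -- elements missing `κ` fix `b`
  have hmiss : ∀ x ∈ XX, x • b ≠ b → x • κ ≠ κ := by
    intro x hx hxb
    exact mem_support.1 (hcontain x hx hxb hκ)
  -- the stabilizer of `b` fixes `κ`
  have hstab : ∀ m : M, m • b = b → m • κ = κ := by
    intro m hm
    by_contra hne
    -- all members moving `b` also move `m⁻¹ κ`
    have hm' : m⁻¹ • κ ≠ κ := by
      intro h
      rw [inv_smul_eq_iff] at h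
      exact hne h.symm
    -- an element with support containing `κ`, missing `m⁻¹ κ`, moves `b`? consider elements missing `m⁻¹ κ`
    have h1 : A3 W (Finset.univ.erase (m⁻¹ • κ)) := by
      refine hgen _ (hpt _) fun x hx hxS => ?_
      by_contra hxb
      have h3 : (m * x * m⁻¹) • b ≠ b := by
        intro h4
        rw [mul_smul, mul_smul, inv_smul_eq_iff.2 hm.symm, smul_eq_iff_eq_inv_smul, inv_smul_eq_iff.2 hm.symm] at h4
        exact hxb h4
      have h4 := hmiss _ (hconj m x hx) h3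
      have h5 : x • (m⁻¹ • κ) ≠ m⁻¹ • κ := by
        intro h6
        apply h4
        rw [mul_smul, mul_smul, h6, smul_inv_smul]
      exact Finset.notMem_erase _ _ (hxS (mem_support.2 h5))
    have h3 : (S ∩ Finset.univ.erase (m⁻¹ • κ)).Nonempty := by
      obtain ⟨γ, hγ, hγ'⟩ := Finset.exists_mem_notMem_of_card_lt_card (s := {m⁻¹ • κ}) (t := S)
        (by rw [Finset.card_singleton]; omega)
      rw [Finset.mem_singleton] at hγ'
      exact ⟨γ, Finset.mem_inter.2 ⟨hγ, Finset.mem_erase.2 ⟨hγ', Finset.mem_univ _⟩⟩⟩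
    have h4 := hadd _ h1 (by have := hpt (m⁻¹ • κ); omega) h3
    have h5 : κ ∈ S := h4 (Finset.mem_erase.2 ⟨hm'.symm, Finset.mem_univ _⟩)
    exact Finset.mem_compl.1 hκ h5
  refine ⟨κ, fun x hx => ⟨hmiss x hx, fun h h' => h (hstab x h')⟩, ?_⟩
  intro κ' hκ'
  by_contra hkne
  -- an element with support containing `κ` but not `κ'`
  obtain ⟨D', h1, h3, h4⟩ := Finset.exists_subsuperset_card_eq (s := {κ}) (t := Finset.univ.erase κ') (n := d)
    (by
      intro γ hγ
      rw [Finset.mem_singleton] at hγ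
      rw [hγ]
      exact Finset.mem_erase.2 ⟨fun h => hkne h.symm, Finset.mem_univ _⟩)
    (by rw [Finset.card_singleton]; omega) (hpt κ')
  obtain ⟨z, ⟨y, hy, rfl⟩, hz⟩ := H355.FC.exists_support XB hne hconjB hcardB (by omega) D' h4
  have h5 : y • κ ≠ κ := by
    have : κ ∈ (φ y).support := by rw [hz]; exact h1 (Finset.mem_singleton_self κ)
    exact mem_support.1 this
  have h6 : y • b ≠ b := fun h' => h5 (hstab y h')
  have h7 := (hκ' y hy).1 h6
  have h8 : κ' ∈ (φ y).support := mem_support.2 h7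
  rw [hz] at h8
  exact Finset.notMem_erase _ _ (h3 h8)

end Cfsg.Agent.H426.FC
end

-- part: H426/FC/Loc
section
/-!
# S3618, part B: the local structure at a point
-/

set_option autoImplicit false
set_option linter.unusedSectionVars false

open Equiv Equiv.Perm MulAction

namespace Cfsg.Agent.H426.FC

universe u

theorem coprime_of_zpow_ne {G : Type*} [Group G] {p : ℕ} (hp : p.Prime) {x : G} (hx : x ^ p = 1) {i : ℤ}
    (h : x ^ i ≠ 1) : IsCoprime i (p : ℤ) := by
  rw [Int.isCoprime_iff_gcd_eq_one, Int.gcd_comm, ← Int.isCoprime_iff_gcd_eq_one,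
    Prime.coprime_iff_not_dvd (Nat.prime_iff_prime_int.1 hp)]
  rintro ⟨k, hk⟩
  apply h
  rw [hk, zpow_mul, zpow_natCast, hx, one_zpow]

theorem support_zpow_eq {B : Type*} [Fintype B] [DecidableEq B] {p : ℕ} {x : Perm B} (hx : x ^ p = 1)
    {i : ℤ} (h : IsCoprime i (p : ℤ)) : (x ^ i).support = x.support := by
  ext b
  rw [mem_support, mem_support]
  refine not_congr ⟨fun h1 => fixed_of_zpow hx h h1, fun h1 => Perm.zpow_apply_eq_self_of_apply_eq_self h1 i⟩

/-- an abstract form of the data attached to a point -/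
structure Loc {Ω : Type u} (Z : Set (Perm Ω)) (a : Ω) {B : Type u} (κ : Ω → B) : Prop where
  sep : ∀ T : Finset B, T.card ≤ 2 → ∀ β ∉ T, ∃ x ∈ Z, x a = a ∧ (∀ b, b ≠ a → κ b = β → x b ≠ b) ∧
    (∀ b, b ≠ a → κ b ∈ T → x b = b)
  eq : ∀ b b', b ≠ a → b' ≠ a → κ b = κ b' → ∀ x ∈ Z, x a = a → x b = b → x b' = b'
  third : ∀ b, b ≠ a → ∃ b', b' ≠ a ∧ b' ≠ b ∧ κ b' = κ b
  ne : ∃ b b', b ≠ a ∧ b' ≠ a ∧ κ b ≠ κ b'

variable {Ω : Type u} [Fintype Ω] [DecidableEq Ω]

section

variable {p : ℕ} [hp : Fact p.Prime] {H : Subgroup (Perm Ω)} {s : ℕ} (D : MinData p H s)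

include D

/-- the local structure -/
theorem exists_loc (hp2 : p ≠ 2) (hprim : IsPreprimitive H Ω) (hnot : ¬ IsMultiplyPretransitive H Ω 2) {x0 : Perm Ω}
    (hx0 : x0 ∈ XX p H s) (hn : 2 * s ≤ Fintype.card Ω)
    (IH : ∀ (B : Type u) [Fintype B] [DecidableEq B] (K : Subgroup (Perm B)), IsPreprimitive K B → ∀ z ∈ K,
      orderOf z = p → z.support.card < s → 2 * z.support.card ≤ Fintype.card B → alternatingGroup B ≤ K) (a : Ω) :
    ∃ (B : Type u) (κ : Ω → B), Loc (XX p H s) a κ := by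
  classical
  have hF := fam hx0 hn
  have hcard1 : 1 < Fintype.card Ω := by have := hF.two_le; have := hF.lt; omega
  obtain ⟨a', ha'⟩ : ∃ b, b ≠ a := by
    have : Nontrivial Ω := Fintype.one_lt_card_iff_nontrivial.1 hcard1
    exact exists_ne a
  obtain ⟨x1, hx1, hx1a, -⟩ := H273.FC.exists_fix_move H hprim _ s hF a a' ha'.symm
  let M : Subgroup (Perm Ω) := Ma p H s a
  have h2 : ∃ b c, b ≠ a ∧ c ≠ a ∧ ∀ m ∈ M, m b ≠ c := by
    by_contra hno
    push Not at hno
    apply hnot
    refine two_of_trans hprim.toIsPretransitive a fun b c hb hc => ?_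
    obtain ⟨m, hm, hmb⟩ := hno b c hb hc
    exact ⟨m, Ma_le a hm, Ma_fix hm, hmb⟩
  obtain ⟨b, hb, hbig, hsmall⟩ := exists_orbit M a (fun m hm => Ma_fix hm) x1.support
    (by rw [mem_support, not_not]; exact hx1a)
    (fun c hc => by
      obtain ⟨m, hm, hmc⟩ := exists_move D hprim hn hc hx1 hx1a
      exact ⟨m, hm, mem_support.2 hmc⟩) (by rw [hx1.2.2]; exact hn) h2
  rw [hx1.2.2] at hsmall
  let X1 : M := ⟨x1, mem_Ma hx1 hx1a⟩
  -- a maximal subgroup containing the stabilizer
  have hSt : stabilizer M b ≠ ⊤ := by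
    intro h
    obtain ⟨m, hm, hmb⟩ := exists_move D hprim hn hb hx1 hx1a
    have h1 : (⟨m, hm⟩ : M)⁻¹ * X1 * ⟨m, hm⟩ ∈ stabilizer M b := by rw [h]; exact Subgroup.mem_top _
    have h3 : (m⁻¹ * x1 * m) b = b := h1
    rw [Perm.mul_apply, Perm.mul_apply, Perm.inv_eq_iff_eq] at h3
    exact hmb h3
  obtain ⟨W, hW, hStW⟩ := (eq_top_or_exists_le_coatom (stabilizer M b)).resolve_left hSt
  let B : Type u := M ⧸ W
  have hfinB : Fintype B := Fintype.ofFinite _
  have hntB : Nontrivial B := by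
    obtain ⟨m, hm⟩ : ∃ m : M, m ∉ W := by
      by_contra h
      push Not at h
      exact hW.1 (eq_top_iff.2 fun m _ => h m)
    refine ⟨⟨(m : M ⧸ W), ((1 : M) : M ⧸ W), ?_⟩⟩
    intro h
    have h1 := QuotientGroup.eq.1 h.symm
    rw [inv_one, one_mul] at h1
    exact hm h1
  have hprimB : (IsPreprimitive M B :) := by
    rw [← isCoatom_stabilizer_iff_preprimitive M (((1 : M) : M ⧸ W) : B)]
    have h1 : stabilizer M (((1 : M) : M ⧸ W) : B) = W := stabilizer_quotient W
    rw [h1]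
    exact hW
  let φ : M →* Perm B := toPermHom M B
  have hφ : ∀ (m : M) (β : B), φ m β = m • β := fun m β => rfl
  have hKprim : IsPreprimitive φ.range B := by
    let f : B →ₑ[φ.rangeRestrict] B := { toFun := id, map_smul' := fun _ _ => rfl }
    exact IsPreprimitive.of_surjective (f := f) Function.surjective_id
  -- conjugation in `M`
  have hconj : ∀ y : M, (y : Perm Ω) ∈ XX p H s → ∃ m : M, ∃ i : ℤ, m * y * m⁻¹ = X1 ^ i ∧ IsCoprime i (p : ℤ) := by
    intro y hy
    obtain ⟨m, hm, i, hi⟩ := exists_conj_Ma D hprim hn hx1 hx1a hy (Ma_fix y.2)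
    refine ⟨⟨m, hm⟩, i, ?_, ?_⟩
    · apply Subtype.ext
      push_cast
      exact hi
    · apply coprime_of_zpow_ne hp.out (pow_eq_one hx1.2.1)
      rw [← hi]
      intro h
      apply ne_one hp.out hy.2.1
      rwa [conj_eq_one_iff] at h
  -- `x1` acts non-trivially on `B`
  have hφ1 : φ X1 ≠ 1 := by
    intro h
    have htriv : ∀ m : Perm Ω, ∀ hm : m ∈ M, φ ⟨m, hm⟩ = 1 := by
      intro m hm
      refine Subgroup.closure_induction (p := fun m hm => φ ⟨m, hm⟩ = 1) ?_ ?_ ?_ ?_ hm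
      · intro y hy
        obtain ⟨m, i, hi, -⟩ := hconj ⟨y, mem_Ma hy.1 hy.2⟩ hy.1
        have h1 := congrArg φ hi
        rw [map_mul, map_mul, map_zpow, h, one_zpow, map_inv, conj_eq_one_iff] at h1
        exact h1
      · exact map_one φ
      · intro y z hy hz h1 h3
        have : (⟨y * z, mul_mem hy hz⟩ : M) = ⟨y, hy⟩ * ⟨z, hz⟩ := rfl
        rw [this, map_mul, h1, h3, one_mul]
      · intro y hy h1
        have : (⟨y⁻¹, inv_mem hy⟩ : M) = (⟨y, hy⟩ : M)⁻¹ := rfl
        rw [this, map_inv, h1, inv_one]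
    obtain ⟨β, γ, hβγ⟩ := hntB
    obtain ⟨m, hm⟩ := exists_smul_eq M β γ
    have h1 := htriv m.1 m.2
    have h3 : φ m β = β := by
      have : φ m = 1 := h1
      rw [this]; rfl
    exact hβγ (h3.symm.trans hm)
  have hφp : (φ X1) ^ p = 1 := by
    rw [← map_pow]
    have : X1 ^ p = 1 := Subtype.ext (by push_cast; exact pow_eq_one hx1.2.1)
    rw [this, map_one]
  have hφo : orderOf (φ X1) = p :=
    ((Nat.dvd_prime hp.out).1 (orderOf_dvd_of_pow_eq_one hφp)).resolve_left
      fun h => hφ1 (orderOf_eq_one_iff.1 h)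
  -- counting
  let f : orbit M b → B := fun y =>
    Subgroup.quotientMapOfLE hStW (orbitEquivQuotientStabilizer M b y)
  have hfm : ∀ m : M, ∀ y : orbit M b, (y : Ω) = m • b → f y = ((m : M ⧸ W) : B) := by
    intro m y hy
    have h1 : orbitEquivQuotientStabilizer M b y = ((m : M ⧸ stabilizer M b)) := by
      rw [← Equiv.eq_symm_apply]
      apply Subtype.ext
      rw [hy, orbitEquivQuotientStabilizer_symm_apply]
    change Subgroup.quotientMapOfLE hStW (orbitEquivQuotientStabilizer M b y) = _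
    rw [h1]
    rfl
  have hf : ∀ (g : M) (y : orbit M b), f (g • y) = g • f y := by
    intro g y
    obtain ⟨m, hm⟩ := y.2
    have hm' : (y : Ω) = m • b := hm.symm
    rw [hfm m y hm', hfm (g * m) (g • y) (by rw [orbit.coe_smul, hm', mul_smul])]
    rfl
  let e : ℕ := Nat.card {y : orbit M b // f y = f ⟨b, mem_orbit_self b⟩}
  have he : 0 < e := by
    have : Nonempty {y : orbit M b // f y = f ⟨b, mem_orbit_self b⟩} := ⟨⟨⟨b, mem_orbit_self b⟩, rfl⟩⟩
    exact Nat.card_pos
  have hover := card_over (G := M) f hf (f ⟨b, mem_orbit_self b⟩)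
  have htot : Nat.card (orbit M b) = Fintype.card B * e := by
    rw [← Finset.card_univ, ← hover Finset.univ]
    exact Nat.card_congr (Equiv.subtypeUnivEquiv fun y => Finset.mem_univ _).symm
  have hsup : (φ X1).support.card * e ≤ Nat.card {c // c ∈ x1.support ∧ c ∈ orbit M b} := by
    rw [← hover]
    refine Nat.card_le_card_of_injective (fun y => ⟨(y.1 : Ω), ?_, y.1.2⟩) ?_
    · rw [mem_support]
      intro h
      have h1 : X1 • y.1 = y.1 := Subtype.ext h
      have h3 := hf X1 y.1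
      rw [h1] at h3
      exact mem_support.1 y.2 h3.symm
    · intro y z h
      exact Subtype.ext (Subtype.ext (congrArg (fun c : {c // c ∈ x1.support ∧ c ∈ orbit M b} => (c : Ω)) h))
  have hd2 : 2 * (φ X1).support.card ≤ Fintype.card B := by
    rw [htot] at hbig
    have h1 : 2 * (φ X1).support.card * e ≤ Fintype.card B * e := by
      calc 2 * (φ X1).support.card * e = 2 * ((φ X1).support.card * e) := by ring
        _ ≤ 2 * Nat.card {c // c ∈ x1.support ∧ c ∈ orbit M b} := Nat.mul_le_mul_left 2 hsup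
        _ ≤ _ := hbig
    exact Nat.le_of_mul_le_mul_right h1 he
  have hds : (φ X1).support.card < s := by
    have h1 : (φ X1).support.card ≤ (φ X1).support.card * e := Nat.le_mul_of_pos_right _ he
    omega
  have halt := IH B φ.range hKprim (φ X1) ⟨X1, rfl⟩ hφo hds hd2
  set d := (φ X1).support.card with hd
  -- properties of all minimal elements
  have hcardall : ∀ y : M, (y : Perm Ω) ∈ XX p H s → (φ y).support.card = d := by
    intro y hy
    obtain ⟨m, i, hi, hip⟩ := hconj y hy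
    have h1 := congrArg φ hi
    rw [map_mul, map_mul, map_zpow, map_inv] at h1
    rw [← Perm.card_support_conj (σ := φ m) (τ := φ y), h1, support_zpow_eq hφp hip]
  have hd3 : 3 ≤ d := by
    have h1 : 2 ≤ d := Perm.two_le_card_support_of_ne_one hφ1
    by_contra h
    have h3 : d = 2 := by omega
    have h4 : (φ X1).IsSwap := Perm.card_support_eq_two.1 h3
    have h5 : (φ X1) ^ 2 = 1 := by
      obtain ⟨u, v, -, huv⟩ := h4
      rw [huv, pow_two, Equiv.swap_mul_self]
    have h6 : p ∣ 2 := by rw [← hφo]; exact orderOf_dvd_of_pow_eq_one h5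
    exact hp2 ((Nat.prime_dvd_prime_iff_eq hp.out Nat.prime_two).1 h6)
  let XM : Set M := {y | (y : Perm Ω) ∈ XX p H s}
  have hconjM : ∀ m : M, ∀ y ∈ XM, m * y * m⁻¹ ∈ XM := by
    intro m y hy
    exact hF.conj m (Ma_le a m.2) y hy
  have hordM : ∀ y ∈ XM, orderOf (φ y) = p := by
    intro y hy
    have h1 : (φ y) ^ p = 1 := by
      rw [← map_pow]
      have : y ^ p = 1 := Subtype.ext (by push_cast; exact pow_eq_one hy.2.1)
      rw [this, map_one]
    refine ((Nat.dvd_prime hp.out).1 (orderOf_dvd_of_pow_eq_one h1)).resolve_left fun h => ?_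
    rw [orderOf_eq_one_iff] at h
    have h3 := hcardall y hy
    rw [h, Perm.support_one, Finset.card_empty] at h3
    omega
  have hdis : ∀ x ∈ XM, ∀ y ∈ XM, (∀ β : B, x • β = β ∨ y • β = β) → ∀ c : Ω, x • c = c ∨ y • c = c := by
    intro x hx y hy hxy c
    by_contra hno
    push Not at hno
    obtain ⟨l, hl, i, hi⟩ := D.exists_conj hx hy hno.1 hno.2
    have hlM : l ∈ M := by
      refine (Subgroup.closure_le _).2 ?_ hl
      rintro w (rfl | rfl)
      · exact x.2
      · exact y.2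
    have hcomm : Commute (φ x) (φ y) := by
      refine Perm.Disjoint.commute fun β => ?_
      exact hxy β
    -- `l` commutes with `y` on `B`
    have hly : Commute (φ ⟨l, hlM⟩) (φ y) := by
      have h1 : ∀ w : Perm Ω, ∀ hw : w ∈ Subgroup.closure {(x : Perm Ω), (y : Perm Ω)}, ∀ hwM : w ∈ M,
          Commute (φ ⟨w, hwM⟩) (φ y) := by
        intro w hw
        have hle : Subgroup.closure {(x : Perm Ω), (y : Perm Ω)} ≤ M := by
          rw [Subgroup.closure_le]
          rintro v (rfl | rfl)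
          · exact x.2
          · exact y.2
        refine Subgroup.closure_induction (p := fun w hw => ∀ hwM : w ∈ M, Commute (φ ⟨w, hwM⟩) (φ y)) ?_ ?_ ?_ ?_ hw
        · rintro v (rfl | rfl) hv
          · exact hcomm
          · exact Commute.refl _
        · intro h
          have : (⟨1, h⟩ : M) = 1 := rfl
          rw [this, map_one]
          exact Commute.one_left _
        · intro u v hu hv h3 h4 huv
          have : (⟨u * v, huv⟩ : M) = ⟨u, hle hu⟩ * ⟨v, hle hv⟩ := rfl
          rw [this, map_mul]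
          exact (h3 _).mul_left (h4 _)
        · intro u hu h3 hu'
          have : (⟨u⁻¹, hu'⟩ : M) = (⟨u, hle hu⟩ : M)⁻¹ := rfl
          rw [this, map_inv]
          exact (h3 _).inv_left
      exact h1 l hl hlM
    have h1 : φ y = (φ x) ^ i := by
      have h3 : (⟨l, hlM⟩ : M) * y * (⟨l, hlM⟩ : M)⁻¹ = x ^ i := Subtype.ext (by push_cast; exact hi)
      have h4 := congrArg φ h3
      rw [map_mul, map_mul, map_inv, map_zpow, hly.eq, mul_inv_cancel_right] at h4
      exact h4
    have h3 : 0 < (φ y).support.card := by rw [hcardall y hy]; omega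
    obtain ⟨β, hβ⟩ := Finset.card_pos.1 h3
    rw [mem_support] at hβ
    rcases hxy β with h4 | h4
    · apply hβ
      rw [h1]
      exact Perm.zpow_apply_eq_self_of_apply_eq_self h4 i
    · exact hβ h4
  have hex : ∀ c : Ω, c ≠ a → ∃ x ∈ XM, x • c ≠ c := by
    intro c hc
    obtain ⟨x, hx, hxa, hxc⟩ := H273.FC.exists_fix_move H hprim _ s hF a c hc.symm
    exact ⟨⟨x, mem_Ma hx hxa⟩, hx, hxc⟩
  have hk : ∀ c : Ω, ∃ k : B, c ≠ a → (∀ x ∈ XM, x • c ≠ c ↔ x • k ≠ k) ∧
      ∀ k', (∀ x ∈ XM, x • c ≠ c ↔ x • k' ≠ k') → k' = k := by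
    intro c
    by_cases hc : c = a
    · exact ⟨f ⟨b, mem_orbit_self b⟩, fun h => absurd hc h⟩
    · obtain ⟨k, hk, hk'⟩ := exists_kappa (M := M) (Ω := Ω) (B := B) hp2 XM hconjM hcardall hordM hd2 halt hdis c
        (hex c hc)
      exact ⟨k, fun _ => ⟨hk, hk'⟩⟩
  choose κ hκ using hk
  have hequi : ∀ (m : M) (c : Ω), c ≠ a → κ (m • c) = m • κ c := by
    intro m c hc
    have hmc : m • c ≠ a := by
      intro h
      have h1 : (m : Perm Ω) c = (m : Perm Ω) a := h.trans (Ma_fix m.2).symm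
      exact hc ((m : Perm Ω).injective h1)
    refine ((hκ (m • c) hmc).2 _ ?_).symm
    intro x hx
    have h1 := (hκ c hc).1 (m⁻¹ * x * m) (by have := hconjM m⁻¹ x hx; rwa [inv_inv] at this)
    rw [mul_smul, mul_smul, mul_smul, mul_smul, Ne, Ne, inv_smul_eq_iff, inv_smul_eq_iff] at h1
    exact h1
  refine ⟨B, κ, ?_, ?_, ?_, ?_⟩
  · intro T hT β hβ
    obtain ⟨D', h1, h3, h4⟩ := Finset.exists_subsuperset_card_eq (s := {β}) (t := Finset.univ \ T) (n := d)
      (by
        intro γ hγ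
        rw [Finset.mem_singleton] at hγ
        rw [hγ]
        exact Finset.mem_sdiff.2 ⟨Finset.mem_univ _, hβ⟩)
      (by rw [Finset.card_singleton]; omega)
      (by
        rw [Finset.card_sdiff_of_subset (Finset.subset_univ _), Finset.card_univ]
        omega)
    obtain ⟨z, ⟨y, hy, rfl⟩, hz⟩ := H355.FC.exists_support (d := d) (φ '' XM) ⟨_, X1, hx1, rfl⟩ (by
        rintro τ hτ _ ⟨y, hy, rfl⟩
        obtain ⟨m, rfl⟩ := halt hτ
        refine ⟨m * y * m⁻¹, hconjM m y hy, ?_⟩
        rw [map_mul, map_mul, map_inv]) (by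
        rintro _ ⟨y, hy, rfl⟩
        exact hcardall y hy) (by omega) D' h4
    refine ⟨y, hy, Ma_fix y.2, ?_, ?_⟩
    · intro c hc hcβ
      refine ((hκ c hc).1 y hy).2 ?_
      rw [hcβ]
      have h5 : β ∈ (φ y).support := by rw [hz]; exact h1 (Finset.mem_singleton_self β)
      exact mem_support.1 h5
    · intro c hc hcT
      by_contra h5
      have h6 := ((hκ c hc).1 y hy).1 h5
      have h7 : κ c ∈ (φ y).support := mem_support.2 h6
      rw [hz] at h7
      exact (Finset.mem_sdiff.1 (h3 h7)).2 hcT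
  · intro c c' hc hc' hcc x hx hxa hxc
    by_contra h
    have h1 := ((hκ c' hc').1 ⟨x, mem_Ma hx hxa⟩ hx).1 h
    rw [← hcc] at h1
    exact ((hκ c hc).1 ⟨x, mem_Ma hx hxa⟩ hx).2 h1 hxc
  · intro c hc
    obtain ⟨c1, hc1, hc1'⟩ : ∃ c1, c1 ≠ a ∧ ∀ m ∈ M, m c1 ≠ c := by
      obtain ⟨u, v, hu, hv, huv⟩ := h2
      by_cases h : ∃ m ∈ M, m u = c
      · obtain ⟨m, hm, hmu⟩ := h
        refine ⟨v, hv, ?_⟩
        intro n hn h1
        refine huv (n⁻¹ * m) (M.mul_mem (M.inv_mem hn) hm) ?_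
        rw [Perm.mul_apply, hmu, Perm.inv_eq_iff_eq]
        exact h1.symm
      · push Not at h
        exact ⟨u, hu, h⟩
    obtain ⟨m, hm⟩ := exists_smul_eq M (κ c1) (κ c)
    refine ⟨m • c1, ?_, hc1' m m.2, ?_⟩
    · intro h
      have h1 : (m : Perm Ω) c1 = (m : Perm Ω) a := h.trans (Ma_fix m.2).symm
      exact hc1 ((m : Perm Ω).injective h1)
    · rw [hequi m c1 hc1, hm]
  · obtain ⟨β, hβ⟩ := exists_ne (κ a')
    obtain ⟨m, hm⟩ := exists_smul_eq M (κ a') β
    refine ⟨a', m • a', ha', ?_, ?_⟩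
    · intro h
      have h1 : (m : Perm Ω) a' = (m : Perm Ω) a := h.trans (Ma_fix m.2).symm
      exact ha' ((m : Perm Ω).injective h1)
    · rw [hequi m a' ha', hm]
      exact hβ.symm

end

end Cfsg.Agent.H426.FC
end

-- part: H426/FC/Main
section
/-!
# S3618, part B: Theorem J and Theorem B
-/

set_option autoImplicit false
set_option linter.unusedSectionVars false

open Equiv Equiv.Perm MulAction

namespace Cfsg.Agent.H426.FC

universe u

/-- the contradiction -/
theorem no_loc {Ω : Type u} (Z : Set (Perm Ω)) (a0 : Ω) (h : ∀ a : Ω, ∃ (B : Type u) (κ : Ω → B), Loc Z a κ) :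
    False := by
  classical
  refine no_geometry Z ?_ ?_ ?_ ?_
  · intro a b y hab hay _ hF
    obtain ⟨B, κ, hL⟩ := h a
    have hk : κ y = κ b := by
      by_contra hne
      obtain ⟨x, hx, hxa, h1, h2⟩ := hL.sep {κ b} (by rw [Finset.card_singleton]; omega) (κ y)
        (by rw [Finset.mem_singleton]; exact hne)
      exact h1 y (Ne.symm hay) rfl (hF x hx hxa (h2 b (Ne.symm hab) (Finset.mem_singleton_self _)))
    intro x hx hxa hxy
    exact hL.eq y b (Ne.symm hay) (Ne.symm hab) hk x hx hxa hxy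
  · intro a b hab
    obtain ⟨B, κ, hL⟩ := h a
    obtain ⟨y, hya, hyb, hk⟩ := hL.third b (Ne.symm hab)
    exact ⟨y, hya, hyb, fun x hx hxa hxb => hL.eq b y (Ne.symm hab) hya hk.symm x hx hxa hxb⟩
  · intro a b b' y hb hb' hy hF
    obtain ⟨B, κ, hL⟩ := h a
    have hk : κ y = κ b ∨ κ y = κ b' := by
      by_contra hne
      push Not at hne
      obtain ⟨x, hx, hxa, h1, h2⟩ := hL.sep {κ b, κ b'} Finset.card_le_two (κ y)
        (by rw [Finset.mem_insert, Finset.mem_singleton]; exact not_or.2 hne)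
      exact h1 y hy rfl (hF x hx hxa (h2 b hb (Finset.mem_insert_self _ _))
        (h2 b' hb' (Finset.mem_insert_of_mem (Finset.mem_singleton_self _))))
    rcases hk with hk | hk
    · exact Or.inl fun x hx hxa hxb => hL.eq b y hb hy hk.symm x hx hxa hxb
    · exact Or.inr fun x hx hxa hxb => hL.eq b' y hb' hy hk.symm x hx hxa hxb
  · obtain ⟨B, κ, hL⟩ := h a0
    obtain ⟨b, b', hb, hb', hk⟩ := hL.ne
    obtain ⟨x, hx, hxa, h1, h2⟩ := hL.sep {κ b} (by rw [Finset.card_singleton]; omega) (κ b')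
      (by rw [Finset.mem_singleton]; exact hk.symm)
    exact ⟨a0, b, b', hb, hb', fun h => hk (by rw [h]), x, hx, hxa, h2 b hb (Finset.mem_singleton_self _),
      h1 b' hb' rfl⟩

/-- the case `n ≥ 2 s`, not 2-transitive, 2-closed -/
theorem no_min {Ω : Type u} [Fintype Ω] [DecidableEq Ω] {p : ℕ} [hp : Fact p.Prime] (hp2 : p ≠ 2)
    {H : Subgroup (Perm Ω)} {s : ℕ} (D : MinData p H s) (hprim : IsPreprimitive H Ω)
    (hnot : ¬ IsMultiplyPretransitive H Ω 2) {x0 : Perm Ω} (hx0 : x0 ∈ XX p H s) (hn : 2 * s ≤ Fintype.card Ω)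
    (IH : ∀ (B : Type u) [Fintype B] [DecidableEq B] (K : Subgroup (Perm B)), IsPreprimitive K B → ∀ z ∈ K,
      orderOf z = p → z.support.card < s → 2 * z.support.card ≤ Fintype.card B → alternatingGroup B ≤ K) : False := by
  have h2 : 2 ≤ s := (fam hx0 hn).two_le
  have : Nonempty Ω := Fintype.card_pos_iff.1 (by omega)
  exact no_loc (XX p H s) (Classical.arbitrary Ω) fun a => exists_loc D hp2 hprim hnot hx0 hn IH a

/-- an element of prime order `p` is a `p`-cycle or moves at least `2 p` points -/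
theorem cycle_or {Ω : Type u} [Fintype Ω] [DecidableEq Ω] {p : ℕ} (hp : p.Prime) {x : Perm Ω} (hx : orderOf x = p) :
    (x.IsCycle ∧ x.support.card = p) ∨ 2 * p ≤ x.support.card := by
  rcases Nat.lt_or_ge x.support.card (2 * p) with h | h
  · left
    have h1 : x.IsCycle := isCycle_of_prime_order (by rw [hx]; exact hp) (by rw [hx]; exact h)
    exact ⟨h1, by rw [← h1.orderOf, hx]⟩
  · exact Or.inr h

/-- the 2-transitive case -/
def TwoTrans (p : ℕ) : Prop :=
  ∀ (Ω : Type u) [Fintype Ω] [DecidableEq Ω] (K : Subgroup (Perm Ω)), IsMultiplyPretransitive K Ω 2 →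
    ∀ x ∈ K, orderOf x = p → 2 * p ≤ x.support.card → x.support.card < p ^ 2 → 2 * x.support.card ≤ Fintype.card Ω →
      alternatingGroup Ω ≤ K

theorem exists_minData {Ω : Type u} [Fintype Ω] [DecidableEq Ω] {p : ℕ} {H : Subgroup (Perm Ω)} (hcl : TwoClosed H)
    {x : Perm Ω} (hx : x ∈ H) (hxp : orderOf x = p) (hs : x.support.card < p ^ 2) :
    ∃ s ≤ x.support.card, MinData p H s ∧ ∃ x0, x0 ∈ XX p H s := by
  classical
  have hex : ∃ s, ∃ z ∈ H, orderOf z = p ∧ z.support.card = s := ⟨_, x, hx, hxp, rfl⟩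
  obtain ⟨z, hz, hzp, hzs⟩ := Nat.find_spec hex
  have hle : Nat.find hex ≤ x.support.card := Nat.find_min' hex ⟨x, hx, hxp, rfl⟩
  exact ⟨Nat.find hex, hle, ⟨hcl, lt_of_le_of_lt hle hs, fun w hw hwp => Nat.find_min' hex ⟨w, hw, hwp, rfl⟩⟩, z, hz, hzp, hzs⟩

/-- THEOREM J -/
theorem thmJ {p : ℕ} [hp : Fact p.Prime] (h2T : TwoTrans.{u} p) : ∀ (n : ℕ) (Ω : Type u) [Fintype Ω] [DecidableEq Ω]
    (K : Subgroup (Perm Ω)), IsPreprimitive K Ω → ∀ x ∈ K, orderOf x = p → x.support.card = n →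
    x.support.card < p ^ 2 → 2 * x.support.card ≤ Fintype.card Ω → p + 3 ≤ Fintype.card Ω →
    alternatingGroup Ω ≤ K := by
  intro n
  induction n using Nat.strong_induction_on with
  | _ n ih =>
  intro Ω _ _ K hK x hx hxp hxn hs hn h5
  have hp2 := hp.out.two_le
  rcases cycle_or hp.out hxp with ⟨hc, hcs⟩ | h2p
  · exact S0713.result K hK hp.out (by omega) h5 hc hcs hx
  have hp3 : p ≠ 2 := by
    rintro rfl
    omega
  by_cases h2 : IsMultiplyPretransitive K Ω 2
  · exact h2T Ω K h2 x hx hxp h2p hs hn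
  exfalso
  have hH := isPreprimitive_of_le (le_cl2 K) hK
  obtain ⟨s, hsx, D, x0, hx0⟩ := exists_minData (twoClosed_cl2 K) (le_cl2 K hx) hxp hs
  refine no_min hp3 D hH (not_two_cl2 h2) hx0 (by omega) ?_
  intro B _ _ L hL z hz hzp hzs hzB
  have hzc : p ≤ z.support.card := by
    rcases cycle_or hp.out hzp with ⟨_, h⟩ | h <;> omega
  exact ih z.support.card (by omega) B L hL z hz hzp rfl (by omega) hzB (by omega)

/-- THEOREM B -/
theorem thmB {p : ℕ} [hp : Fact p.Prime] (h2T : TwoTrans.{u} p) (Ω : Type u) [Fintype Ω] [DecidableEq Ω]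
    (K : Subgroup (Perm Ω)) (hK : IsPreprimitive K Ω) (hnot : ¬ IsMultiplyPretransitive K Ω 2) (x : Perm Ω)
    (hx : x ∈ K) (hxp : orderOf x = p) (hs : x.support.card < p ^ 2) : ¬ p ^ 2 ∣ Nat.card K := by
  intro hd
  have hp2 := hp.out.two_le
  have hH := isPreprimitive_of_le (le_cl2 K) hK
  obtain ⟨s, hsx, D, x0, hx0⟩ := exists_minData (twoClosed_cl2 K) (le_cl2 K hx) hxp hs
  have hn : 2 * s ≤ Fintype.card Ω :=
    D.two_mul_le (hd.trans (Subgroup.card_dvd_of_le (le_cl2 K))) hx0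
  have hx0s := hx0.2.2
  have h4 : 4 ≤ Fintype.card Ω := by
    have := (fam hx0 hn).two_le
    omega
  rcases cycle_or hp.out hx0.2.1 with ⟨hc, hcs⟩ | h2p
  · apply not_two_cl2 hnot
    by_cases hp3 : p = 2
    · have h1 : x0.IsSwap := Perm.card_support_eq_two.1 (by rw [hcs, hp3])
      have h2 := Equiv.Perm.subgroup_eq_top_of_isPreprimitive_of_isSwap_mem hH x0 h1 hx0.1
      exact two_of_alt (by rw [h2]; exact le_top) h4
    · refine two_of_alt ?_ h4
      exact S0713.result (cl2 K) hH hp.out (by omega) (by omega) hc hcs hx0.1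
  · have hp3 : p ≠ 2 := by
      rintro rfl
      have := D.lt
      omega
    refine no_min hp3 D hH (not_two_cl2 hnot) hx0 hn ?_
    intro B _ _ L hL z hz hzp hzs hzB
    have hzc : p ≤ z.support.card := by
      rcases cycle_or hp.out hzp with ⟨_, h⟩ | h <;> omega
    exact thmJ h2T z.support.card B L hL z hz hzp rfl (by have := D.lt; omega) hzB (by omega)

end Cfsg.Agent.H426.FC
end

private theorem dce_ec592a58ea10 : _root_.True := by
  try have : _root_.True := by simp only [_root_.Cfsg.Agent.H29.PrA.NG.CC.eq_1]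
  try have : _root_.True := by simp only [_root_.Cfsg.Agent.H29.PrA.NG.C.eq_1]
  try have : _root_.True := by simp only [_root_.Cfsg.Agent.H426.FC.Ma.eq_1]
  try have : _root_.True := by simp only [_root_.Cfsg.Agent.H29.PrA.ixg.eq_1]
  exact _root_.True.intro
end

-- part: H411/PrA/Basic_mg
section
prune_inst 0x2000000010000000000000100000000000000000000000002000010208010040804000000a0000100042808000000008000000000000000000000000000000000000020000340c00800000002000000000000000000000000000000000000000000000000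
set_option linter.all false
open scoped Cfsg.Agent.FastGrp

-- part: H411/PrA/Basic
section
/-!
# S3618, part A: basic facts (Sylow)
-/

set_option autoImplicit false

open Equiv Equiv.Perm MulAction
open scoped Pointwise

namespace Cfsg.Agent.H411.PrA

universe u

section gen

/-- in a finite group whose order is not divisible by `p ^ 2`, elements of order `p` generate conjugate subgroups -/
theorem conj_of_sylow {G : Type u} [Group G] [Finite G] {p : ℕ} (hp : p.Prime) (hG : ¬ p ^ 2 ∣ Nat.card G) (x y : G)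
    (hx : orderOf x = p) (hy : orderOf y = p) : ∃ k : G, k * x * k⁻¹ ∈ Subgroup.zpowers y := by
  have : Fact p.Prime := ⟨hp⟩
  have hfac : (Nat.card G).factorization p = 1 := by
    have h1 : p ∣ Nat.card G := hx ▸ orderOf_dvd_natCard x
    have h2 : 1 ≤ (Nat.card G).factorization p := (hp.dvd_iff_one_le_factorization Nat.card_pos.ne').mp h1
    have h3 : ¬ 2 ≤ (Nat.card G).factorization p := fun h =>
      hG ((hp.pow_dvd_iff_le_factorization Nat.card_pos.ne').mpr h)
    omega
  have hcx : Nat.card (Subgroup.zpowers x) = p ^ (Nat.card G).factorization p := by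
    rw [hfac, pow_one, Nat.card_zpowers, hx]
  have hcy : Nat.card (Subgroup.zpowers y) = p ^ (Nat.card G).factorization p := by
    rw [hfac, pow_one, Nat.card_zpowers, hy]
  obtain ⟨k, hk⟩ := MulAction.exists_smul_eq G (Sylow.ofCard _ hcx) (Sylow.ofCard _ hcy)
  refine ⟨k, ?_⟩
  have h4 : ((k • Sylow.ofCard _ hcx : Sylow p G) : Subgroup G) = Subgroup.zpowers y := by
    rw [hk]; rfl
  rw [← h4, Sylow.coe_subgroup_smul]
  exact Subgroup.smul_mem_pointwise_smul x (MulAut.conj k) _ (Subgroup.mem_zpowers x)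

end gen

variable {Ω : Type u}

theorem M_le {p : ℕ} {K : Subgroup (Perm Ω)} (a : Ω) : M p K a ≤ K :=
  (Subgroup.closure_le _).mpr fun _ hx => hx.1

theorem mem_M {p : ℕ} {K : Subgroup (Perm Ω)} {a : Ω} {x : Perm Ω} (hx : x ∈ K) (hxp : orderOf x = p) (hxa : x a = a) :
    x ∈ M p K a := Subgroup.subset_closure ⟨hx, hxp, hxa⟩

theorem M_fix {p : ℕ} {K : Subgroup (Perm Ω)} {a : Ω} {x : Perm Ω} (hx : x ∈ M p K a) : x a = a := by
  have : M p K a ≤ MulAction.stabilizer (Perm Ω) a := (Subgroup.closure_le _).mpr fun y hy => hy.2.2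
  exact this hx

/-- `M_(ka) = k M_a k⁻¹` -/
theorem conj_mem_M {p : ℕ} {K : Subgroup (Perm Ω)} {a : Ω} {k x : Perm Ω} (hk : k ∈ K) (hx : x ∈ M p K a) :
    k * x * k⁻¹ ∈ M p K (k a) := by
  have h1 : M p K a ≤ (M p K (k a)).comap (MulAut.conj k).toMonoidHom := by
    refine (Subgroup.closure_le _).mpr ?_
    rintro y ⟨hy, hyp, hya⟩
    change k * y * k⁻¹ ∈ M p K (k a)
    refine mem_M (K.mul_mem (K.mul_mem hk hy) (K.inv_mem hk)) ?_ ?_
    · rw [← hyp]
      exact (MulAut.conj k).orderOf_eq y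
    · simp [hya]
  exact h1 hx

variable [Fintype Ω] [DecidableEq Ω] {p q : ℕ} {K : Subgroup (Perm Ω)}

/-- Sylow: two elements of order `p` of a subgroup `H ≤ K` generate conjugate subgroups in `H` -/
theorem Setup.conj (h : Setup p q K) (H : Subgroup (Perm Ω)) (hH : H ≤ K) (x y : Perm Ω) (hx : x ∈ H) (hy : y ∈ H)
    (hxp : orderOf x = p) (hyp : orderOf y = p) : ∃ k ∈ H, k * x * k⁻¹ ∈ Subgroup.zpowers y := by
  have hc : ¬ p ^ 2 ∣ Nat.card H := fun hd => h.sylow (hd.trans (Subgroup.card_dvd_of_le hH))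
  obtain ⟨k, hk⟩ := conj_of_sylow h.prime hc (⟨x, hx⟩ : H) ⟨y, hy⟩ (by rw [Subgroup.orderOf_mk, hxp])
    (by rw [Subgroup.orderOf_mk, hyp])
  refine ⟨k, k.2, ?_⟩
  obtain ⟨n, hn⟩ := Subgroup.mem_zpowers_iff.mp hk
  rw [Subgroup.mem_zpowers_iff]
  refine ⟨n, ?_⟩
  have := congrArg (Subtype.val : H → Perm Ω) hn
  simpa only [_root_.SubgroupClass.coe_zpow, _root_.Subgroup.coe_mul, _root_.InvMemClass.coe_inv] using this

/-- `fix(M_a) = {a}` -/
theorem Setup.exists_move (h : Setup p q K) (a b : Ω) (hab : b ≠ a) : ∃ x ∈ K, orderOf x = p ∧ x a = a ∧ x b ≠ b := by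
  have hF : Cfsg.Agent.H426.FC.Fam K {x : Perm Ω | x ∈ K ∧ orderOf x = p} (q * p) := by
    refine ⟨fun x hx => hx.1, ?_, ?_, fun x hx => h.supp x hx.1 hx.2, ?_, h.fix⟩
    · rintro k hk x ⟨hx, hxp⟩
      refine ⟨K.mul_mem (K.mul_mem hk hx) (K.inv_mem hk), ?_⟩
      rw [← hxp]
      exact (MulAut.conj k).orderOf_eq x
    · obtain ⟨x, hx, hxp⟩ := h.ex
      exact ⟨x, hx, hxp⟩
    · have h1 := h.two_le
      have h2 := h.prime.two_le
      nlinarith
  obtain ⟨x, ⟨hx, hxp⟩, hxa, hxb⟩ := Cfsg.Agent.H273.FC.exists_fix_move K h.prim _ _ hF a b hab.symm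
  exact ⟨x, hx, hxp, hxa, hxb⟩

/-- every element of order `p` fixing `a` acts non-trivially on every `M_a`-orbit other than `{a}` -/
theorem Setup.exists_orbit_move (h : Setup p q K) (a b : Ω) (hab : b ≠ a) (x : Perm Ω) (hx : x ∈ K) (hxp : orderOf x = p)
    (hxa : x a = a) : ∃ m ∈ M p K a, x (m b) ≠ m b := by
  obtain ⟨y, hy, hyp, hya, hyb⟩ := h.exists_move a b hab
  obtain ⟨k, hk, hkz⟩ := h.conj (M p K a) (M_le a) y x (mem_M hy hyp hya) (mem_M hx hxp hxa) hyp hxp
  refine ⟨k, hk, fun hfix => hyb ?_⟩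
  have h1 : Subgroup.zpowers x ≤ MulAction.stabilizer (Perm Ω) (k b) := by
    rw [Subgroup.zpowers_le]
    exact hfix
  have h2 : (k * y * k⁻¹) (k b) = k b := h1 hkz
  have h3 : k (y b) = k b := by simpa only [_root_.EmbeddingLike.apply_eq_iff_eq, _root_.Equiv.Perm.coe_mul, _root_.Equiv.Perm.coe_inv, _root_.Function.comp_apply, _root_.Equiv.symm_apply_apply] using h2
  exact k.injective h3

/-- `N_H(<x>)` is transitive on the points fixed by `x` in an `H`-orbit -/
theorem Setup.exists_normalizer (h : Setup p q K) (H : Subgroup (Perm Ω)) (hH : H ≤ K) (x : Perm Ω) (hx : x ∈ H)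
    (hxp : orderOf x = p) (b : Ω) (hb : x b = b) (k : Perm Ω) (hk : k ∈ H) (hkb : x (k b) = k b) :
    ∃ n ∈ H, n b = k b ∧ n * x * n⁻¹ ∈ Subgroup.zpowers x := by
  have h1 : k * x * k⁻¹ ∈ H ⊓ MulAction.stabilizer (Perm Ω) (k b) :=
    ⟨H.mul_mem (H.mul_mem hk hx) (H.inv_mem hk), by
      change (k * x * k⁻¹) (k b) = k b
      simp [hb]⟩
  have h2 : x ∈ H ⊓ MulAction.stabilizer (Perm Ω) (k b) := ⟨hx, hkb⟩
  obtain ⟨l, ⟨hl, hlb⟩, hlz⟩ := h.conj _ (inf_le_left.trans hH) _ _ h1 h2
    (by rw [← hxp]; exact (MulAut.conj k).orderOf_eq x) hxp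
  refine ⟨l * k, H.mul_mem hl hk, ?_, ?_⟩
  · exact hlb
  · have : l * k * x * (l * k)⁻¹ = l * (k * x * k⁻¹) * l⁻¹ := by group
    rw [this]
    exact hlz

end Cfsg.Agent.H411.PrA
end

-- part: H903/GeoCase
section
/-!
# S3618, part A: the cases `(B, ε) = (0, 1)` and `(1, 1)` of the combinatorial structure `Geo` (helper903)

`Geo.card_closure`, `Geo.case01`, `Geo.case11` of `tools/plans/S3618_A_stmts.lean`.
-/

set_option autoImplicit false
set_option linter.unusedSectionVars false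

open Equiv Equiv.Perm MulAction Cfsg.Agent.H411.PrA

namespace Cfsg.Agent.H903.GeoCase

universe u

variable {Ω : Type u} {p m B ε : ℕ} {XX : Set (Perm Ω)}

/-- the flat spanned by `a` and `T` -/
def fl (g : Geo p m B ε XX) (a : Ω) (T : Finset (Fin m)) : Set Ω :=
  {y | ∀ x ∈ XX, x a = a → _root_.Disjoint (g.P a x) T → x y = y}

theorem NF.symm {a b : Ω} (h : NF XX a b) : NF XX b a := by
  obtain ⟨x, hx, h1, h2⟩ := h
  exact ⟨x, hx, h2, h1⟩

theorem exists_disj (g : Geo p m B ε XX) (a : Ω) (T : Finset (Fin m)) (hT : T.card + p ≤ m) :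
    ∃ x ∈ XX, x a = a ∧ _root_.Disjoint (g.P a x) T := by
  classical
  have h1 : p ≤ (Tᶜ).card := by
    rw [Finset.card_compl, Fintype.card_fin]; omega
  obtain ⟨U, hU, hUc⟩ := Finset.exists_subset_card_eq h1
  obtain ⟨x, hx, hxa, hP⟩ := g.surj_P a U hUc
  refine ⟨x, hx, hxa, ?_⟩
  rw [hP]
  exact Finset.disjoint_left.2 (fun i hi hiT => (Finset.mem_compl.1 (hU hi)) hiT)

theorem exists_disj_mem (g : Geo p m B ε XX) (a : Ω) (T : Finset (Fin m)) (hT : T.card + p ≤ m) (hp : 1 ≤ p)
    (i : Fin m) (hi : i ∉ T) : ∃ x ∈ XX, x a = a ∧ _root_.Disjoint (g.P a x) T ∧ i ∈ g.P a x := by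
  classical
  have h1 : p ≤ (Tᶜ).card := by
    rw [Finset.card_compl, Fintype.card_fin]; omega
  have h2 : ({i} : Finset (Fin m)) ⊆ Tᶜ := by
    intro j hj
    rw [Finset.mem_singleton] at hj
    subst hj
    exact Finset.mem_compl.2 hi
  obtain ⟨U, hiU, hU, hUc⟩ := Finset.exists_subsuperset_card_eq h2 (by simpa using hp) h1
  obtain ⟨x, hx, hxa, hP⟩ := g.surj_P a U hUc
  refine ⟨x, hx, hxa, ?_, ?_⟩
  · rw [hP]
    exact Finset.disjoint_left.2 (fun i hi hiT => (Finset.mem_compl.1 (hU hi)) hiT)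
  · rw [hP]; exact hiU (Finset.mem_singleton_self i)

theorem self_mem_fl (g : Geo p m B ε XX) (a : Ω) (T : Finset (Fin m)) : a ∈ fl g a T :=
  fun _ _ h _ => h

theorem mem_fl (g : Geo p m B ε XX) (hp : 1 ≤ p) (a : Ω) (T : Finset (Fin m)) (hT : T.card + p ≤ m) (y : Ω) :
    y ∈ fl g a T ↔ y = a ∨ (a ≠ y ∧ NF XX a y ∧ g.S a y ⊆ T) := by
  constructor
  · intro h
    by_cases hya : y = a
    · exact Or.inl hya
    · right
      have hay : a ≠ y := fun h => hya h.symm
      obtain ⟨x, hx, hxa, hd⟩ := exists_disj g a T hT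
      have hNF : NF XX a y := ⟨x, hx, hxa, h x hx hxa hd⟩
      refine ⟨hay, hNF, ?_⟩
      intro i hi
      by_contra hiT
      obtain ⟨x', hx', hxa', hd', hi'⟩ := exists_disj_mem g a T hT hp i hiT
      have h1 := h x' hx' hxa' hd'
      rw [g.fix_iff a y hay hNF x' hx' hxa'] at h1
      exact Finset.disjoint_left.1 h1 hi' hi
  · rintro (rfl | ⟨hay, hNF, hS⟩)
    · exact self_mem_fl g y T
    · intro x hx hxa hd
      rw [g.fix_iff a y hay hNF x hx hxa]
      exact Finset.disjoint_of_subset_right hS hd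

/-- number of points of a flat -/
theorem card_fl [Finite Ω] (g : Geo p m B ε XX) (hp : 1 ≤ p) (a : Ω) (T : Finset (Fin m)) (hT : T.card + p ≤ m) :
    (fl g a T).ncard = 1 + B * T.card + ε * T.card.choose 2 := by
  classical
  have : Fintype Ω := Fintype.ofFinite Ω
  set G : Finset Ω := Finset.univ.filter (fun b => a ≠ b ∧ NF XX a b ∧ g.S a b ⊆ T) with hG
  have h1 : fl g a T = ↑(insert a G) := by
    ext y
    rw [mem_fl g hp a T hT]
    simp only [hG, _root_.ne_eq, _root_.Finset.coe_insert, _root_.Finset.coe_filter, _root_.Finset.mem_univ, _root_.true_and, _root_.Set.mem_insert_iff, _root_.Set.mem_ofPred_eq]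
  have haG : a ∉ G := by simp only [hG, _root_.ne_eq, _root_.Finset.mem_filter, _root_.Finset.mem_univ, _root_.not_true_eq_false, _root_.false_and, _root_.and_false, _root_.not_false_eq_true]
  rw [h1, Set.ncard_coe_finset, Finset.card_insert_of_notMem haG]
  have h2 : Set.MapsTo (fun b => g.S a b) (G : Set Ω) (↑(T.powersetCard 1 ∪ T.powersetCard 2) : Set (Finset (Fin m))) := by
    intro b hb
    have hb' : b ∈ G := hb
    rw [hG, Finset.mem_filter] at hb'
    obtain ⟨-, hab, hNF, hS⟩ := hb'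
    obtain ⟨h3, h4⟩ := g.card_S a b hab hNF
    simp only [Finset.coe_union, Set.mem_union, Finset.mem_coe, Finset.mem_powersetCard]
    have h5 : (g.S a b).card = 1 ∨ (g.S a b).card = 2 := by omega
    rcases h5 with h5 | h5
    · exact Or.inl ⟨hS, h5⟩
    · exact Or.inr ⟨hS, h5⟩
  rw [Finset.card_eq_sum_card_fiberwise h2]
  have hdis : _root_.Disjoint (T.powersetCard 1) (T.powersetCard 2) := by
    rw [Finset.disjoint_left]
    intro U h3 h4
    rw [Finset.mem_powersetCard] at h3 h4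
    omega
  rw [Finset.sum_union hdis]
  have h6 : ∑ R ∈ T.powersetCard 1, (G.filter (fun b => g.S a b = R)).card = B * T.card := by
    rw [Finset.sum_congr rfl (g := fun _ => B), Finset.sum_const, Finset.card_powersetCard, Nat.choose_one_right,
      smul_eq_mul, mul_comm]
    intro R hR
    rw [Finset.mem_powersetCard] at hR
    obtain ⟨i, rfl⟩ := Finset.card_eq_one.1 hR.2
    refine Eq.trans ?_ (g.card_B a i)
    rw [← Set.ncard_coe_finset]
    congr 1
    ext b
    simp only [hG, Finset.coe_filter, Finset.mem_filter, Finset.mem_univ, true_and, Set.mem_ofPred_eq]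
    constructor
    · rintro ⟨⟨h7, h8, -⟩, h9⟩
      exact ⟨h7, h8, h9⟩
    · rintro ⟨h7, h8, h9⟩
      exact ⟨⟨h7, h8, h9 ▸ hR.1⟩, h9⟩
  have h7 : ∑ R ∈ T.powersetCard 2, (G.filter (fun b => g.S a b = R)).card = ε * T.card.choose 2 := by
    rw [Finset.sum_congr rfl (g := fun _ => ε), Finset.sum_const, Finset.card_powersetCard,
      smul_eq_mul, mul_comm]
    intro R hR
    rw [Finset.mem_powersetCard] at hR
    obtain ⟨i, j, hij, rfl⟩ := Finset.card_eq_two.1 hR.2
    refine Eq.trans ?_ (g.card_ε a i j hij)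
    rw [← Set.ncard_coe_finset]
    congr 1
    ext b
    simp only [hG, Finset.coe_filter, Finset.mem_filter, Finset.mem_univ, true_and, Set.mem_ofPred_eq]
    constructor
    · rintro ⟨⟨h7, h8, -⟩, h9⟩
      exact ⟨h7, h8, h9⟩
    · rintro ⟨h7, h8, h9⟩
      exact ⟨⟨h7, h8, h9 ▸ hR.1⟩, h9⟩
  rw [h6, h7]
  omega

open Classical in
/-- change of base point in a flat -/
theorem fl_change (g : Geo p m B ε XX) (a : Ω) (T : Finset (Fin m)) (hT : T.card + p ≤ m)
    (c : Ω) (hc : c ∈ fl g a T) :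
    ∃ T' : Finset (Fin m), T'.card + p ≤ m ∧ fl g c T' = fl g a T ∧
      (∀ i, i ∈ T' ↔ ∃ y ∈ fl g a T, y ≠ c ∧ i ∈ g.S c y) := by
  refine ⟨Finset.univ.filter (fun i => ∃ y ∈ fl g a T, y ≠ c ∧ i ∈ g.S c y), ?_, ?_, ?_⟩
  · obtain ⟨x, hx, hxa, hd⟩ := exists_disj g a T hT
    have hxc : x c = c := hc x hx hxa hd
    have hdis : _root_.Disjoint (g.P c x) (Finset.univ.filter (fun i => ∃ y ∈ fl g a T, y ≠ c ∧ i ∈ g.S c y)) := by
      rw [Finset.disjoint_left]
      intro i hi hi'
      rw [Finset.mem_filter] at hi'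
      obtain ⟨-, y, hy, hyc, hiy⟩ := hi'
      have hxy : x y = y := hy x hx hxa hd
      have h1 := (g.fix_iff c y (Ne.symm hyc) ⟨x, hx, hxc, hxy⟩ x hx hxc).1 hxy
      exact Finset.disjoint_left.1 h1 hi hiy
    have h2 := Finset.card_le_univ (g.P c x ∪ (Finset.univ.filter (fun i => ∃ y ∈ fl g a T, y ≠ c ∧ i ∈ g.S c y)))
    rw [Finset.card_union_of_disjoint hdis, g.card_P c x hx hxc, Fintype.card_fin] at h2
    omega
  · ext y
    constructor
    · intro hy x hx hxa hd
      have hxc : x c = c := hc x hx hxa hd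
      refine hy x hx hxc ?_
      rw [Finset.disjoint_left]
      intro i hi hi'
      rw [Finset.mem_filter] at hi'
      obtain ⟨-, z, hz, hzc, hiz⟩ := hi'
      have hxz : x z = z := hz x hx hxa hd
      have h1 := (g.fix_iff c z (Ne.symm hzc) ⟨x, hx, hxc, hxz⟩ x hx hxc).1 hxz
      exact Finset.disjoint_left.1 h1 hi hiz
    · intro hy x hx hxc hd
      by_cases hyc : y = c
      · rw [hyc]; exact hxc
      · obtain ⟨x0, hx0, hxa0, hd0⟩ := exists_disj g a T hT
        have hNF : NF XX c y := ⟨x0, hx0, hc x0 hx0 hxa0 hd0, hy x0 hx0 hxa0 hd0⟩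
        rw [g.fix_iff c y (Ne.symm hyc) hNF x hx hxc]
        refine Finset.disjoint_of_subset_right ?_ hd
        intro i hi
        rw [Finset.mem_filter]
        exact ⟨Finset.mem_univ _, y, hy, hyc, hi⟩
  · intro i
    simp only [_root_.ne_eq, _root_.Finset.mem_filter, _root_.Finset.mem_univ, _root_.true_and]

/-- change of base point, with the rank preserved -/
theorem fl_change' [Finite Ω] (g : Geo p m B ε XX) (hp : 1 ≤ p) (a : Ω) (T : Finset (Fin m)) (hT : T.card + p ≤ m)
    (hinj : ∀ r : ℕ, B * r + ε * r.choose 2 = B * T.card + ε * T.card.choose 2 → r = T.card)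
    (c : Ω) (hc : c ∈ fl g a T) :
    ∃ T' : Finset (Fin m), T'.card = T.card ∧ fl g c T' = fl g a T ∧
      (∀ i, i ∈ T' ↔ ∃ y ∈ fl g a T, y ≠ c ∧ i ∈ g.S c y) := by
  obtain ⟨T', h1, h2, h3⟩ := fl_change g a T hT c hc
  refine ⟨T', ?_, h2, h3⟩
  apply hinj
  have h4 := card_fl g hp a T hT
  have h5 := card_fl g hp c T' h1
  rw [h2] at h5
  omega

theorem choose_two_step (n : ℕ) : (n + 1).choose 2 = n + n.choose 2 := by
  rw [Nat.choose_succ_succ' n 1, Nat.choose_one_right]

theorem choose_two_lt (n k : ℕ) (hn : 1 ≤ n) (h : n < k) : n.choose 2 < k.choose 2 := by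
  have h1 : (n + 1).choose 2 ≤ k.choose 2 := Nat.choose_le_choose 2 h
  have h2 := choose_two_step n
  omega

theorem inj11 (s r : ℕ) (h : 1 * r + 1 * r.choose 2 = 1 * s + 1 * s.choose 2) : r = s := by
  rw [one_mul, one_mul, one_mul, one_mul, ← choose_two_step, ← choose_two_step] at h
  by_contra hne
  rcases Nat.lt_or_gt_of_ne hne with hlt | hlt
  · have := choose_two_lt (r + 1) (s + 1) (by omega) (by omega)
    omega
  · have := choose_two_lt (s + 1) (r + 1) (by omega) (by omega)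
    omega

theorem inj01 (s r : ℕ) (hs : 2 ≤ s) (h : 0 * r + 1 * r.choose 2 = 0 * s + 1 * s.choose 2) : r = s := by
  rw [zero_mul, zero_mul, one_mul, one_mul, zero_add, zero_add] at h
  by_contra hne
  rcases Nat.lt_or_gt_of_ne hne with hlt | hlt
  · have h1 : r.choose 2 ≤ (s - 1).choose 2 := Nat.choose_le_choose 2 (by omega)
    have h2 := choose_two_lt (s - 1) s (by omega) (by omega)
    omega
  · have := choose_two_lt s r (by omega) hlt
    omega

/-! ### The case `(1, 1)` -/

section case11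

variable [Finite Ω]

/-- uniqueness of the point with given label -/
theorem uniq1 (g : Geo p m 1 1 XX) {a b b' : Ω} (hab : a ≠ b) (hab' : a ≠ b') (hb : NF XX a b) (hb' : NF XX a b')
    (h : g.S a b = g.S a b') : b = b' := by
  obtain ⟨h1, h2⟩ := g.card_S a b hab hb
  have h5 : (g.S a b).card = 1 ∨ (g.S a b).card = 2 := by omega
  rcases h5 with h5 | h5
  · obtain ⟨i, hi⟩ := Finset.card_eq_one.1 h5
    obtain ⟨z, hz⟩ := Set.ncard_eq_one.1 (g.card_B a i)
    have h6 : b ∈ ({z} : Set Ω) := by rw [← hz]; exact ⟨hab, hb, hi⟩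
    have h7 : b' ∈ ({z} : Set Ω) := by rw [← hz]; exact ⟨hab', hb', h ▸ hi⟩
    rw [Set.mem_singleton_iff] at h6 h7
    rw [h6, h7]
  · obtain ⟨i, j, hij, hi⟩ := Finset.card_eq_two.1 h5
    obtain ⟨z, hz⟩ := Set.ncard_eq_one.1 (g.card_ε a i j hij)
    have h6 : b ∈ ({z} : Set Ω) := by rw [← hz]; exact ⟨hab, hb, hi⟩
    have h7 : b' ∈ ({z} : Set Ω) := by rw [← hz]; exact ⟨hab', hb', h ▸ hi⟩
    rw [Set.mem_singleton_iff] at h6 h7
    rw [h6, h7]

theorem exists1 (g : Geo p m 1 1 XX) (a : Ω) (i : Fin m) : ∃ b, a ≠ b ∧ NF XX a b ∧ g.S a b = {i} := by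
  obtain ⟨z, hz⟩ := Set.ncard_eq_one.1 (g.card_B a i)
  exact ⟨z, by have : z ∈ ({z} : Set Ω) := rfl
               rw [← hz] at this
               exact this⟩

theorem exists2 (g : Geo p m 1 1 XX) (a : Ω) (T : Finset (Fin m)) (hT : T.card = 2) :
    ∃ b, a ≠ b ∧ NF XX a b ∧ g.S a b = T := by
  obtain ⟨i, j, hij, rfl⟩ := Finset.card_eq_two.1 hT
  obtain ⟨z, hz⟩ := Set.ncard_eq_one.1 (g.card_ε a i j hij)
  exact ⟨z, by have : z ∈ ({z} : Set Ω) := rfl
               rw [← hz] at this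
               exact this⟩

theorem symm_le (g : Geo p m 1 1 XX) (hm : p + 3 ≤ m) (hp : 3 ≤ p) {a b : Ω} (hab : a ≠ b) (hn : NF XX a b) :
    (g.S b a).card ≤ (g.S a b).card := by
  obtain ⟨h1, h2⟩ := g.card_S a b hab hn
  have hbF : b ∈ fl g a (g.S a b) :=
    (mem_fl g (by omega) a _ (by omega) b).2 (Or.inr ⟨hab, hn, Finset.Subset.refl _⟩)
  obtain ⟨T', h3, h4, h5⟩ := fl_change' g (by omega) a (g.S a b) (by omega) (fun r hr => inj11 _ _ hr) b hbF
  rw [← h3]
  apply Finset.card_le_card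
  intro i hi
  rw [h5]
  exact ⟨a, self_mem_fl g a _, hab, hi⟩

theorem symm11 (g : Geo p m 1 1 XX) (hm : p + 3 ≤ m) (hp : 3 ≤ p) {a b : Ω} (hab : a ≠ b) (hn : NF XX a b) :
    (g.S a b).card = (g.S b a).card :=
  le_antisymm (symm_le g hm hp hab.symm (NF.symm hn)) (symm_le g hm hp hab hn)

theorem near_symm (g : Geo p m 1 1 XX) (hm : p + 3 ≤ m) (hp : 3 ≤ p) {a b : Ω} (h : g.Near a b) : g.Near b a := by
  obtain ⟨h1, h2, h3⟩ := h
  exact ⟨h1.symm, NF.symm h2, by rw [← symm11 g hm hp h1 h2]; exact h3⟩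

/-- opposite points -/
def Opp (g : Geo p m B ε XX) (a b : Ω) : Prop := a ≠ b ∧ NF XX a b ∧ (g.S a b).card = 2

theorem opp_symm (g : Geo p m 1 1 XX) (hm : p + 3 ≤ m) (hp : 3 ≤ p) {a b : Ω} (h : Opp g a b) : Opp g b a := by
  obtain ⟨h1, h2, h3⟩ := h
  exact ⟨h1.symm, NF.symm h2, by rw [← symm11 g hm hp h1 h2]; exact h3⟩

theorem near_or_opp (g : Geo p m B ε XX) {a b : Ω} (hab : a ≠ b) (hn : NF XX a b) : g.Near a b ∨ Opp g a b := by
  obtain ⟨h1, h2⟩ := g.card_S a b hab hn
  have h5 : (g.S a b).card = 1 ∨ (g.S a b).card = 2 := by omega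
  rcases h5 with h5 | h5
  · exact Or.inl ⟨hab, hn, h5⟩
  · exact Or.inr ⟨hab, hn, h5⟩

theorem not_near_opp (g : Geo p m B ε XX) {a b : Ω} (h : g.Near a b) (h' : Opp g a b) : False := by
  have h1 := h.2.2
  have h2 := h'.2.2
  omega

/-- in a flat of rank 2: existence and uniqueness of the opposite point -/
theorem rank2 (g : Geo p m 1 1 XX) (hm : p + 3 ≤ m) (hp : 3 ≤ p) (a : Ω) (T : Finset (Fin m)) (hT : T.card = 2)
    (c : Ω) (hc : c ∈ fl g a T) :
    ∃ y ∈ fl g a T, Opp g c y ∧ (∀ z ∈ fl g a T, Opp g c z → z = y) ∧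
      (∀ z ∈ fl g a T, z ≠ c → NF XX c z ∧ g.S c z ⊆ g.S c y) := by
  obtain ⟨T', h3, h4, h5⟩ := fl_change' g (by omega) a T (by omega) (fun r hr => inj11 _ _ hr) c hc
  rw [hT] at h3
  obtain ⟨y, hy1, hy2, hy3⟩ := exists2 g c T' h3
  have hmem := mem_fl g (by omega) c T' (by omega)
  rw [h4] at hmem
  refine ⟨y, (hmem y).2 (Or.inr ⟨hy1, hy2, hy3.subset⟩), ⟨hy1, hy2, by rw [hy3, h3]⟩, ?_, ?_⟩
  · intro z hz hzo
    rcases (hmem z).1 hz with h6 | ⟨h6, h7, h8⟩
    · exact absurd h6.symm hzo.1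
    · refine uniq1 g h6 hy1 h7 hy2 ?_
      rw [hy3]
      exact Finset.eq_of_subset_of_card_le h8 (by rw [h3, hzo.2.2])
  · intro z hz hzc
    rcases (hmem z).1 hz with h6 | ⟨h6, h7, h8⟩
    · exact absurd h6 hzc
    · exact ⟨h7, by rw [hy3]; exact h8⟩

/-- two neighbours of a point are opposite -/
theorem tri (g : Geo p m 1 1 XX) (hm : p + 3 ≤ m) (hp : 3 ≤ p) {b z d : Ω} (hz : g.Near b z) (hd : g.Near b d)
    (hzd : z ≠ d) : Opp g z d ∧ g.S z b ⊆ g.S z d := by
  classical
  obtain ⟨i, hi⟩ := Finset.card_eq_one.1 hz.2.2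
  obtain ⟨j, hj⟩ := Finset.card_eq_one.1 hd.2.2
  have hij : i ≠ j := by
    rintro rfl
    exact hzd (uniq1 g hz.1 hd.1 hz.2.1 hd.2.1 (by rw [hi, hj]))
  have hT : ({i, j} : Finset (Fin m)).card = 2 := Finset.card_pair hij
  set F := fl g b {i, j} with hF
  have hmem := mem_fl g (by omega) b {i, j} (by omega)
  have hbF : b ∈ F := self_mem_fl g b _
  have hzF : z ∈ F := (hmem z).2 (Or.inr ⟨hz.1, hz.2.1, by rw [hi]; simp⟩)
  have hdF : d ∈ F := (hmem d).2 (Or.inr ⟨hd.1, hd.2.1, by rw [hj]; simp⟩)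
  obtain ⟨w, hwF, hw1, hw2, hw3⟩ := rank2 g hm hp b {i, j} hT z hzF
  have hwd : w = d := by
    by_contra hwd
    obtain ⟨b', hbF', hb1, hb2, hb3⟩ := rank2 g hm hp b {i, j} hT b hbF
    have hwb : w ≠ b := by
      rintro rfl
      exact not_near_opp g (near_symm g hm hp hz) hw1
    have hwz : w ≠ z := hw1.1.symm
    have hbb : b' ≠ b := hb1.1.symm
    have hbz : b' ≠ z := by
      rintro rfl
      exact not_near_opp g hz hb1
    have hbd : b' ≠ d := by
      rintro rfl
      exact not_near_opp g hd hb1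
    have hbw : b' = w := by
      by_contra hbw
      have h1 : (↑({b, z, d, w, b'} : Finset Ω) : Set Ω) ⊆ F := by
        intro y hy
        simp only [Finset.coe_insert, Finset.coe_singleton, Set.mem_insert_iff, Set.mem_singleton_iff] at hy
        rcases hy with rfl | rfl | rfl | rfl | rfl
        · exact hbF
        · exact hzF
        · exact hdF
        · exact hwF
        · exact hbF'
      have h2 := Set.ncard_le_ncard h1
      rw [Set.ncard_coe_finset, hF, card_fl g (by omega) b _ (by omega), hT] at h2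
      have h3 : ({b, z, d, w, b'} : Finset Ω).card = 5 := by
        rw [Finset.card_insert_of_notMem, Finset.card_insert_of_notMem, Finset.card_insert_of_notMem,
          Finset.card_insert_of_notMem, Finset.card_singleton]
        · simpa using fun h => hbw h.symm
        · simpa using ⟨fun h => hwd h.symm, fun h => hbd h.symm⟩
        · simpa using ⟨hzd, fun h => hwz h.symm, fun h => hbz h.symm⟩
        · simpa using ⟨hz.1, hd.1, fun h => hwb h.symm, fun h => hbb h.symm⟩
      rw [h3] at h2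
      norm_num [Nat.choose] at h2
    rw [hbw] at hb1
    obtain ⟨y, hyF, hy1, hy2, hy3⟩ := rank2 g hm hp b {i, j} hT w hwF
    have h4 := hy2 b hbF (opp_symm g hm hp hb1)
    have h5 := hy2 z hzF (opp_symm g hm hp hw1)
    exact hz.1 (h4.trans h5.symm)
  rw [hwd] at hw1 hw3
  exact ⟨hw1, (hw3 b hbF hz.1).2⟩

/-- `b` is a neighbour of `a`, `w` is opposite to `a`, the label of `b` is in the label of `w`: `b`, `w` are
neighbours -/
theorem near_of_sub (g : Geo p m 1 1 XX) (hm : p + 3 ≤ m) (hp : 3 ≤ p) {a b w : Ω} (hb : g.Near a b) (hw : Opp g a w)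
    (hs : g.S a b ⊆ g.S a w) : g.Near b w := by
  have hmem := mem_fl g (by omega) a (g.S a w) (by rw [hw.2.2]; omega)
  have hwF : w ∈ fl g a (g.S a w) := (hmem w).2 (Or.inr ⟨hw.1, hw.2.1, Finset.Subset.refl _⟩)
  have hbF : b ∈ fl g a (g.S a w) := (hmem b).2 (Or.inr ⟨hb.1, hb.2.1, hs⟩)
  have hbw : b ≠ w := by
    rintro rfl
    exact not_near_opp g hb hw
  obtain ⟨y, hyF, hy1, hy2, hy3⟩ := rank2 g hm hp a (g.S a w) hw.2.2 w hwF
  have h1 := hy2 a (self_mem_fl g a _) (opp_symm g hm hp hw)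
  have h2 := hy3 b hbF hbw
  apply near_symm g hm hp
  rcases near_or_opp g hbw.symm h2.1 with h | h
  · exact h
  · exact absurd ((hy2 b hbF h).trans h1.symm) hb.1.symm

theorem case11' (g : Geo p m 1 1 XX) [Nonempty Ω] (hm : p + 3 ≤ m) (hp : 3 ≤ p) : False := by
  classical
  obtain ⟨a⟩ := (inferInstance : Nonempty Ω)
  set i : Fin m := ⟨0, by omega⟩ with hidef
  set j : Fin m := ⟨1, by omega⟩ with hjdef
  have hij : i ≠ j := by
    intro h
    have := congrArg Fin.val h
    simp [hidef, hjdef] at this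
  obtain ⟨d, had, hnd, hSd⟩ := exists2 g a {i, j} (Finset.card_pair hij)
  have hod : Opp g a d := ⟨had, hnd, by rw [hSd]; exact Finset.card_pair hij⟩
  obtain ⟨bi, habi, hnbi, hSbi⟩ := exists1 g a i
  obtain ⟨bj, habj, hnbj, hSbj⟩ := exists1 g a j
  have hbi : g.Near a bi := ⟨habi, hnbi, by rw [hSbi]; simp⟩
  have hbj : g.Near a bj := ⟨habj, hnbj, by rw [hSbj]; simp⟩
  have hbij : bi ≠ bj := by
    rintro rfl
    rw [hSbi] at hSbj
    exact hij (Finset.singleton_injective hSbj)
  have hid : g.Near bi d := near_of_sub g hm hp hbi hod (by rw [hSbi, hSd]; simp)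
  have hjd : g.Near bj d := near_of_sub g hm hp hbj hod (by rw [hSbj, hSd]; simp)
  have hdi := near_symm g hm hp hid
  have hdj := near_symm g hm hp hjd
  obtain ⟨i', hi'⟩ := Finset.card_eq_one.1 hdi.2.2
  obtain ⟨j', hj'⟩ := Finset.card_eq_one.1 hdj.2.2
  have hij' : i' ≠ j' := by
    intro h
    exact hbij (uniq1 g hdi.1 hdj.1 hdi.2.1 hdj.2.1 (by rw [hi', hj', h]))
  -- a third index
  obtain ⟨k, hk⟩ : ∃ k : Fin m, k ∉ ({i', j'} : Finset (Fin m)) := by
    by_contra hcon
    push Not at hcon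
    have h1 : (Finset.univ : Finset (Fin m)) ⊆ {i', j'} := fun k _ => hcon k
    have h2 := Finset.card_le_card h1
    rw [Finset.card_univ, Fintype.card_fin, Finset.card_pair hij'] at h2
    omega
  obtain ⟨z, hdz, hnz, hSz⟩ := exists1 g d k
  have hz : g.Near d z := ⟨hdz, hnz, by rw [hSz]; simp⟩
  have hzi : z ≠ bi := by
    rintro rfl
    rw [hSz] at hi'
    exact hk (by rw [Finset.singleton_injective hi']; simp)
  have hzj : z ≠ bj := by
    rintro rfl
    rw [hSz] at hj'
    exact hk (by rw [Finset.singleton_injective hj']; simp)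
  have hda : Opp g d a := opp_symm g hm hp hod
  have hza : z ≠ a := by
    rintro rfl
    exact not_near_opp g hz hda
  -- the label of `a` with respect to `d`
  have h1 : g.S d bi ⊆ g.S d a := (tri g hm hp hid (near_symm g hm hp hbi) had.symm).2
  have h2 : g.S d bj ⊆ g.S d a := (tri g hm hp hjd (near_symm g hm hp hbj) had.symm).2
  have h3 : g.S d a = {i', j'} := by
    symm
    apply Finset.eq_of_subset_of_card_le
    · intro x hx
      rw [Finset.mem_insert, Finset.mem_singleton] at hx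
      rcases hx with rfl | rfl
      · exact h1 (by rw [hi']; simp)
      · exact h2 (by rw [hj']; simp)
    · rw [hda.2.2, Finset.card_pair hij']
  -- the flat of rank 3
  set T : Finset (Fin m) := insert k {i', j'} with hT
  have hTc : T.card = 3 := by
    rw [hT, Finset.card_insert_of_notMem hk, Finset.card_pair hij']
  have hmem := mem_fl g (by omega) d T (by omega)
  have haF : a ∈ fl g d T := (hmem a).2 (Or.inr ⟨had.symm, hda.2.1, by rw [h3, hT]; exact Finset.subset_insert _ _⟩)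
  have hzF : z ∈ fl g d T := (hmem z).2 (Or.inr ⟨hdz, hnz, by rw [hSz, hT]; simp⟩)
  obtain ⟨T', h4, h5, h6⟩ := fl_change' g (by omega) d T (by omega) (fun r hr => inj11 _ _ hr) a haF
  have hmem' := mem_fl g (by omega) a T' (by omega)
  rw [h5] at hmem'
  rcases (hmem' z).1 hzF with h | ⟨haz, hnaz, hSaz⟩
  · exact hza h
  · have hSad : g.S a d ⊆ T' := by
      intro x hx
      rw [h6]
      exact ⟨d, self_mem_fl g d T, had.symm, hx⟩
    rcases near_or_opp g haz hnaz with hnear | hopp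
    · have h7 := (tri g hm hp (near_symm g hm hp hnear) (near_symm g hm hp hz) had).2
      obtain ⟨l, hl⟩ := Finset.card_eq_one.1 hnear.2.2
      rw [hl, hSd, Finset.singleton_subset_iff, Finset.mem_insert, Finset.mem_singleton] at h7
      rcases h7 with rfl | rfl
      · exact hzi (uniq1 g haz habi hnaz hnbi (by rw [hl, hSbi]))
      · exact hzj (uniq1 g haz habj hnaz hnbj (by rw [hl, hSbj]))
    · have h8 : (g.S a z ∩ g.S a d).Nonempty := by
        rw [← Finset.card_pos]
        have h9 := Finset.card_union_add_card_inter (g.S a z) (g.S a d)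
        have h10 := Finset.card_le_card (Finset.union_subset hSaz hSad)
        rw [hopp.2.2, hod.2.2] at h9
        omega
      obtain ⟨l, hl⟩ := h8
      rw [Finset.mem_inter] at hl
      obtain ⟨b', hab', hnb', hSb'⟩ := exists1 g a l
      have hb' : g.Near a b' := ⟨hab', hnb', by rw [hSb']; simp⟩
      have h11 := near_of_sub g hm hp hb' hopp (by rw [hSb']; simpa using hl.1)
      have h12 := near_of_sub g hm hp hb' hod (by rw [hSb']; simpa using hl.2)
      exact not_near_opp g hz (tri g hm hp h12 h11 hdz).1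

end case11

/-! ### The case `(0, 1)` -/

theorem exists2' (g : Geo p m 0 1 XX) (a : Ω) (i j : Fin m) (hij : i ≠ j) :
    ∃ b, a ≠ b ∧ NF XX a b ∧ g.S a b = {i, j} := by
  obtain ⟨z, hz⟩ := Set.ncard_eq_one.1 (g.card_ε a i j hij)
  exact ⟨z, by have : z ∈ ({z} : Set Ω) := rfl
               rw [← hz] at this
               exact this⟩

/-- the label set of a flat is determined by the flat -/
theorem sub_of_fl_sub (g : Geo p m 0 1 XX) (hp : 1 ≤ p) (a : Ω) (T T' : Finset (Fin m)) (hT : T.card + p ≤ m)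
    (hT' : T'.card + p ≤ m) (h2 : 2 ≤ T.card) (h : fl g a T ⊆ fl g a T') : T ⊆ T' := by
  classical
  intro i hi
  obtain ⟨j, hj⟩ : (T.erase i).Nonempty := by
    rw [← Finset.card_pos, Finset.card_erase_of_mem hi]; omega
  rw [Finset.mem_erase] at hj
  obtain ⟨y, h3, h4, h5⟩ := exists2' g a i j hj.1.symm
  have h6 : y ∈ fl g a T := (mem_fl g hp a T hT y).2 (Or.inr ⟨h3, h4, by
    rw [h5]
    intro x hx
    rw [Finset.mem_insert, Finset.mem_singleton] at hx
    rcases hx with rfl | rfl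
    · exact hi
    · exact hj.2⟩)
  rcases (mem_fl g hp a T' hT' y).1 (h h6) with h7 | ⟨-, -, h8⟩
  · exact absurd h7.symm h3
  · exact h8 (by rw [h5]; simp)

theorem fl_mono (g : Geo p m B ε XX) (a : Ω) {T T' : Finset (Fin m)} (h : T ⊆ T') : fl g a T ⊆ fl g a T' :=
  fun _ hy x hx hxa hd => hy x hx hxa (Finset.disjoint_of_subset_right h hd)

theorem case01' [Finite Ω] (g : Geo p m 0 1 XX) [Nonempty Ω] (hm : p + 5 ≤ m) (hp : 1 ≤ p) : False := by
  classical
  have : Fintype Ω := Fintype.ofFinite Ω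
  obtain ⟨a⟩ := (inferInstance : Nonempty Ω)
  obtain ⟨T, -, hT⟩ := Finset.exists_subset_card_eq (s := (Finset.univ : Finset (Fin m))) (n := 5)
    (by rw [Finset.card_univ, Fintype.card_fin]; omega)
  set F := fl g a T with hF
  have hFc : F.ncard = 11 := by
    rw [hF, card_fl g hp a T (by omega), hT]
    norm_num [Nat.choose]
  set t : Finset (Set Ω) := Finset.univ.filter (fun R => R ⊆ F ∧ ∃ (c : Ω) (T' : Finset (Fin m)), T'.card = 4 ∧ R = fl g c T')
    with ht
  have hmain : F.toFinset.card * 5 = t.card * 7 := by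
    refine Finset.card_mul_eq_card_mul (fun (c : Ω) (R : Set Ω) => c ∈ R) ?_ ?_
    · intro c hc
      rw [Set.mem_toFinset] at hc
      obtain ⟨Tc, h1, h2, h3⟩ := fl_change' g hp a T (by omega) (fun r hr => inj01 _ _ (by omega) hr) c hc
      have h4 : (Tc.powersetCard 4).card = 5 := by
        rw [Finset.card_powersetCard, h1, hT]
        norm_num [Nat.choose]
      rw [← h4]
      symm
      refine Finset.card_bij (fun U _ => fl g c U) ?_ ?_ ?_
      · intro U hU
        rw [Finset.mem_powersetCard] at hU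
        rw [Finset.bipartiteAbove, Finset.mem_filter, ht, Finset.mem_filter]
        exact ⟨⟨Finset.mem_univ _, by rw [hF, ← h2]; exact fl_mono g c hU.1, c, U, hU.2, rfl⟩, self_mem_fl g c U⟩
      · intro U hU U' hU' h
        rw [Finset.mem_powersetCard] at hU hU'
        apply Finset.Subset.antisymm
        · exact sub_of_fl_sub g hp c U U' (by omega) (by omega) (by omega) (le_of_eq h)
        · exact sub_of_fl_sub g hp c U' U (by omega) (by omega) (by omega) (le_of_eq h.symm)
      · intro R hR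
        rw [Finset.bipartiteAbove, Finset.mem_filter, ht, Finset.mem_filter] at hR
        obtain ⟨⟨-, hRF, c', T', hT', rfl⟩, hcR⟩ := hR
        obtain ⟨U, h5, h6, h7⟩ := fl_change' g hp c' T' (by omega) (fun r hr => inj01 _ _ (by omega) hr) c hcR
        refine ⟨U, ?_, h6⟩
        rw [Finset.mem_powersetCard]
        refine ⟨?_, by omega⟩
        intro i hi
        obtain ⟨y, hy, hyc, hiy⟩ := (h7 i).1 hi
        exact (h3 i).2 ⟨y, hRF hy, hyc, hiy⟩
    · intro R hR
      rw [ht, Finset.mem_filter] at hR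
      obtain ⟨-, hRF, c', T', hT', rfl⟩ := hR
      have h1 := card_fl g hp c' T' (by omega)
      rw [hT'] at h1
      norm_num [Nat.choose] at h1
      rw [← h1, ← Set.ncard_coe_finset]
      congr 1
      ext y
      rw [Finset.mem_coe, Finset.bipartiteBelow, Finset.mem_filter, Set.mem_toFinset]
      exact ⟨fun h => h.2, fun h => ⟨hRF h, h⟩⟩
  rw [← Set.ncard_eq_toFinset_card', hFc] at hmain
  omega

end Cfsg.Agent.H903.GeoCase

namespace Cfsg.Agent.H903.GeoCase.Task

universe u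

variable {Ω : Type u} {p m B ε : ℕ} {XX : Set (Perm Ω)}

theorem Geo.case01 (g : Geo p m 0 1 XX) [Finite Ω] [Nonempty Ω] (hm : p + 5 ≤ m) (hp : 3 ≤ p) : False :=
  case01' g hm (by omega)

theorem Geo.case11 (g : Geo p m 1 1 XX) [Finite Ω] [Nonempty Ω] (hm : p + 3 ≤ m) (hp : 3 ≤ p) (_hc : g.Conn) : False :=
  case11' g hm hp

end Cfsg.Agent.H903.GeoCase.Task
end

-- part: H405/PrA/GeoB
section
/-!
# S3618, part A: lines of the combinatorial structure `Geo` (plan `tools/plans/S3618_A.md`, section 7)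

`symm`, `conn`, `B_le`, `case10` of `tools/plans/S3618_A_stmts.lean`.
-/

set_option autoImplicit false
set_option linter.unusedSectionVars false

open Equiv Equiv.Perm MulAction Cfsg.Agent.H411.PrA
open scoped Pointwise
open Cfsg.Agent.H903.GeoCase (fl mem_fl self_mem_fl card_fl fl_change' choose_two_lt fl_mono)

namespace Cfsg.Agent.H405.PrA

universe u

variable {Ω : Type u} {p m B ε : ℕ} {XX : Set (Perm Ω)}

/-- the number of points determines the rank -/
theorem inj_gen (s r : ℕ) (hB : 1 ≤ B ∨ (1 ≤ ε ∧ 2 ≤ s)) (h : B * r + ε * r.choose 2 = B * s + ε * s.choose 2) :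
    r = s := by
  have hmono : ∀ r s : ℕ, r < s → r.choose 2 ≤ s.choose 2 := fun r s h => Nat.choose_le_choose 2 h.le
  rcases hB with hB | ⟨hε, hs⟩
  · rcases lt_trichotomy r s with h1 | h1 | h1
    · have h2 := hmono _ _ h1
      have h3 : B * r < B * s := Nat.mul_lt_mul_of_pos_left h1 hB
      have h4 : ε * r.choose 2 ≤ ε * s.choose 2 := Nat.mul_le_mul_left _ h2
      omega
    · exact h1
    · have h2 := hmono _ _ h1
      have h3 : B * s < B * r := Nat.mul_lt_mul_of_pos_left h1 hB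
      have h4 : ε * s.choose 2 ≤ ε * r.choose 2 := Nat.mul_le_mul_left _ h2
      omega
  · rcases lt_trichotomy r s with h1 | h1 | h1
    · have h2 : r.choose 2 < s.choose 2 := by
        rcases Nat.lt_or_ge r 1 with h5 | h5
        · have : r.choose 2 = 0 := Nat.choose_eq_zero_of_lt (by omega)
          rw [this]
          exact Nat.choose_pos hs
        · exact choose_two_lt r s h5 h1
      have h3 : B * r ≤ B * s := Nat.mul_le_mul_left _ h1.le
      have h4 : ε * r.choose 2 < ε * s.choose 2 := Nat.mul_lt_mul_of_pos_left h2 hε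
      omega
    · exact h1
    · have h2 : s.choose 2 < r.choose 2 := choose_two_lt s r (by omega) h1
      have h3 : B * s ≤ B * r := Nat.mul_le_mul_left _ h1.le
      have h4 : ε * s.choose 2 < ε * r.choose 2 := Nat.mul_lt_mul_of_pos_left h2 hε
      omega

theorem NF_symm {a b : Ω} (h : NF XX a b) : NF XX b a := by
  obtain ⟨x, hx, h1, h2⟩ := h
  exact ⟨x, hx, h2, h1⟩

variable [Finite Ω]

/-- if there are no singletons the label of `b` has two elements -/
theorem card_S_two (g : Geo p m B ε XX) (hB : B = 0) {a b : Ω} (hab : a ≠ b) (hn : NF XX a b) : (g.S a b).card = 2 := by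
  have h1 := g.card_S a b hab hn
  have h2 : (g.S a b).card ≠ 1 := by
    intro h
    obtain ⟨i, hi⟩ := Finset.card_eq_one.1 h
    have h3 := (g.card_B a i).trans hB
    rw [Set.ncard_eq_zero (Set.toFinite _)] at h3
    exact Set.notMem_empty b (h3 ▸ (show b ∈ {b | a ≠ b ∧ NF XX a b ∧ g.S a b = {i}} from ⟨hab, hn, hi⟩))
  omega

theorem symm_le (g : Geo p m B ε XX) (hm : p + 3 ≤ m) (hp : 3 ≤ p) (hBe : 1 ≤ B + ε) {a b : Ω} (hab : a ≠ b)
    (hn : NF XX a b) : (g.S b a).card ≤ (g.S a b).card := by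
  obtain ⟨h1, h2⟩ := g.card_S a b hab hn
  have hbF : b ∈ fl g a (g.S a b) :=
    (mem_fl g (by omega) a _ (by omega) b).2 (Or.inr ⟨hab, hn, Finset.Subset.refl _⟩)
  obtain ⟨T', h3, h4, h5⟩ := fl_change' g (by omega) a (g.S a b) (by omega) (fun r hr => inj_gen _ _ (by
    by_cases hB : B = 0
    · right
      exact ⟨by omega, by rw [card_S_two g hB hab hn]⟩
    · left; omega) hr) b hbF
  rw [← h3]
  apply Finset.card_le_card
  intro i hi
  rw [h5]
  exact ⟨a, self_mem_fl g a _, hab, hi⟩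

theorem symm (g : Geo p m B ε XX) (hm : p + 3 ≤ m) (hp : 3 ≤ p) (hBe : 1 ≤ B + ε) (a b : Ω) (hab : a ≠ b)
    (hn : NF XX a b) : (g.S a b).card = (g.S b a).card :=
  le_antisymm (symm_le g hm hp hBe hab.symm (NF_symm hn)) (symm_le g hm hp hBe hab hn)

theorem near_symm (g : Geo p m B ε XX) (hm : p + 3 ≤ m) (hp : 3 ≤ p) (hB : 1 ≤ B) {a b : Ω} (h : g.Near a b) :
    g.Near b a := by
  obtain ⟨h1, h2, h3⟩ := h
  exact ⟨h1.symm, NF_symm h2, by rw [← symm g hm hp (by omega) a b h1 h2]; exact h3⟩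

/-- the points fixed by all members of `XX` which fix `a` and `b` form the flat of the label of `b` -/
theorem closure_eq (g : Geo p m B ε XX) {a b : Ω} (hab : a ≠ b) (hn : NF XX a b) :
    {y | ∀ x ∈ XX, x a = a → x b = b → x y = y} = fl g a (g.S a b) := by
  ext y
  constructor
  · intro h x hx hxa hd
    exact h x hx hxa ((g.fix_iff a b hab hn x hx hxa).2 hd)
  · intro h x hx hxa hxb
    exact h x hx hxa ((g.fix_iff a b hab hn x hx hxa).1 hxb)

/-- the members of a line: `c` is on the line of `a`, `b` -/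
theorem mem_line (g : Geo p m B ε XX) (hm : p + 3 ≤ m) (hp : 3 ≤ p) {a : Ω} {i : Fin m} {c : Ω} :
    c ∈ fl g a {i} ↔ c = a ∨ (g.Near a c ∧ g.S a c = {i}) := by
  rw [mem_fl g (by omega) a {i} (by rw [Finset.card_singleton]; omega)]
  constructor
  · rintro (h | ⟨h1, h2, h3⟩)
    · exact Or.inl h
    · right
      have h4 := (g.card_S a c h1 h2).1
      have h5 : g.S a c = {i} := by
        apply Finset.eq_of_subset_of_card_le h3
        rw [Finset.card_singleton]
        exact h4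
      exact ⟨⟨h1, h2, by rw [h5, Finset.card_singleton]⟩, h5⟩
  · rintro (h | ⟨⟨h1, h2, -⟩, h3⟩)
    · exact Or.inl h
    · exact Or.inr ⟨h1, h2, h3.subset⟩

/-- a line seen from another of its points -/
theorem line_change (g : Geo p m B ε XX) (hm : p + 3 ≤ m) (hp : 3 ≤ p) (hB : 1 ≤ B) {a c : Ω} {i : Fin m}
    (hc : c ∈ fl g a {i}) : ∃ j : Fin m, fl g c {j} = fl g a {i} := by
  obtain ⟨T', h1, h2, -⟩ := fl_change' g (by omega) a {i} (by rw [Finset.card_singleton]; omega)
    (fun r hr => inj_gen _ _ (Or.inl hB) hr) c hc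
  rw [Finset.card_singleton] at h1
  obtain ⟨j, rfl⟩ := Finset.card_eq_one.1 h1
  exact ⟨j, h2⟩

/-- two lines with two common points are equal -/
theorem line_unique (g : Geo p m B ε XX) (hm : p + 3 ≤ m) (hp : 3 ≤ p) (hB : 1 ≤ B) {a a' c d : Ω} {i i' : Fin m}
    (hc : c ∈ fl g a {i}) (hd : d ∈ fl g a {i}) (hc' : c ∈ fl g a' {i'}) (hd' : d ∈ fl g a' {i'}) (hcd : c ≠ d) :
    fl g a {i} = fl g a' {i'} := by
  obtain ⟨j, hj⟩ := line_change g hm hp hB hc
  obtain ⟨j', hj'⟩ := line_change g hm hp hB hc'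
  rw [← hj] at hd
  rw [← hj'] at hd'
  rw [← hj, ← hj']
  rcases (mem_line g hm hp).1 hd with h | ⟨-, h1⟩
  · exact absurd h.symm hcd
  rcases (mem_line g hm hp).1 hd' with h | ⟨-, h2⟩
  · exact absurd h.symm hcd
  rw [h1] at h2
  rw [h2]

theorem B_le (g : Geo p m B ε XX) (hm : p + 3 ≤ m) (hp : 3 ≤ p) (hB : 1 ≤ B) [Nonempty Ω] : B ≤ 1 + ε := by
  classical
  obtain ⟨a⟩ := (inferInstance : Nonempty Ω)
  set i : Fin m := ⟨0, by omega⟩ with hidef
  set j : Fin m := ⟨1, by omega⟩ with hjdef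
  have hij : i ≠ j := by
    intro h
    have := congrArg Fin.val h
    simp [hidef, hjdef] at this
  have hijc : ({i, j} : Finset (Fin m)).card = 2 := Finset.card_pair hij
  -- a point `c` of the line `i`
  obtain ⟨c, hac, hnc, hSc⟩ : ({b | a ≠ b ∧ NF XX a b ∧ g.S a b = {i}}).Nonempty := by
    rw [← Set.ncard_pos (Set.toFinite _), g.card_B a i]
    exact hB
  have hcnear : g.Near a c := ⟨hac, hnc, by rw [hSc, Finset.card_singleton]⟩
  have hcL : c ∈ fl g a {i} := (mem_line g hm hp).2 (Or.inr ⟨hcnear, hSc⟩)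
  have hcF : c ∈ fl g a {i, j} := fl_mono g a (by simp) hcL
  obtain ⟨T', h1, h2, h3⟩ := fl_change' g (by omega) a {i, j} (by omega) (fun r hr => inj_gen _ _ (Or.inl hB) hr) c hcF
  rw [hijc] at h1
  -- the label of `a` seen from `c`
  have hSca : (g.S c a).card = 1 := (near_symm g hm hp hB hcnear).2.2
  obtain ⟨i', hi'⟩ := Finset.card_eq_one.1 hSca
  have hi'T : i' ∈ T' := (h3 i').2 ⟨a, self_mem_fl g a _, hac, by rw [hi']; simp⟩
  obtain ⟨j', hj'T, hj'⟩ := Finset.exists_mem_ne (by omega : 1 < T'.card) i'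
  have hT'm : T'.card + p ≤ m := by omega
  -- the second line
  have haL' : a ∈ fl g c {i'} := (mem_line g hm hp).2 (Or.inr ⟨near_symm g hm hp hB hcnear, hi'⟩)
  have hLL : fl g c {i'} = fl g a {i} :=
    line_unique g hm hp hB (self_mem_fl g c _) haL' hcL (self_mem_fl g a _) hac.symm
  have hL2F : fl g c {j'} ⊆ fl g a {i, j} := by
    rw [← h2]
    exact fl_mono g c (by simpa using hj'T)
  have hcard : (fl g c {j'}).ncard = 1 + B := by
    rw [card_fl g (by omega) c {j'} (by rw [Finset.card_singleton]; omega), Finset.card_singleton]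
    simp
  have hcard2 : (fl g c {j'} \ {c}).ncard = B := by
    rw [Set.ncard_diff_singleton_of_mem (self_mem_fl g c _), hcard]
    omega
  have hsub : fl g c {j'} \ {c} ⊆ (fl g c {j'} ∩ fl g a {j}) ∪ {b | a ≠ b ∧ NF XX a b ∧ g.S a b = {i, j}} := by
    rintro y ⟨hy, hyc⟩
    have hyF := hL2F hy
    have hyL : y ∉ fl g a {i} := by
      intro hyL
      rw [← hLL] at hyL
      have h5 := line_unique g hm hp hB (self_mem_fl g c _) hyL (self_mem_fl g c _) hy
        (fun h => hyc (by rw [← h]; rfl))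
      rw [← h5] at hy
      -- then `{i'} = {j'}`
      rcases (mem_line g hm hp).1 hy with h6 | ⟨h6, h7⟩
      · exact hyc h6
      · rw [h5] at hy
        rcases (mem_line g hm hp).1 hy with h8 | ⟨h8, h9⟩
        · exact hyc h8
        · rw [h7] at h9
          exact hj' (Finset.singleton_injective h9).symm
    rcases (mem_fl g (by omega) a {i, j} (by omega) y).1 hyF with h5 | ⟨h5, h6, h7⟩
    · exact absurd (h5 ▸ self_mem_fl g a _) hyL
    · by_cases hyj : y ∈ fl g a {j}
      · exact Or.inl ⟨hy, hyj⟩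
      · right
        refine ⟨h5, h6, ?_⟩
        apply Finset.eq_of_subset_of_card_le h7
        rw [hijc]
        have h8 := g.card_S a y h5 h6
        by_contra hlt
        obtain ⟨l, hl⟩ := Finset.card_eq_one.1 (by omega : (g.S a y).card = 1)
        rw [hl, Finset.singleton_subset_iff, Finset.mem_insert, Finset.mem_singleton] at h7
        have hnear : g.Near a y := ⟨h5, h6, by rw [hl, Finset.card_singleton]⟩
        rcases h7 with rfl | rfl
        · exact hyL ((mem_line g hm hp).2 (Or.inr ⟨hnear, hl⟩))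
        · exact hyj ((mem_line g hm hp).2 (Or.inr ⟨hnear, hl⟩))
  have hint : (fl g c {j'} ∩ fl g a {j}).ncard ≤ 1 := by
    rw [Set.ncard_le_one (Set.toFinite _)]
    rintro y ⟨hy1, hy2⟩ z ⟨hz1, hz2⟩
    by_contra hyz
    have h5 := line_unique g hm hp hB hy1 hz1 hy2 hz2 hyz
    have h6 : c ∈ fl g a {j} := by
      rw [← h5]; exact self_mem_fl g c _
    rcases (mem_line g hm hp).1 h6 with h7 | ⟨-, h7⟩
    · exact hac h7.symm
    · rw [hSc] at h7
      exact hij (Finset.singleton_injective h7)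
  have h4 := (Set.ncard_le_ncard hsub (Set.toFinite _)).trans (Set.ncard_union_le _ _)
  rw [hcard2, g.card_ε a i j hij] at h4
  omega

/-- connectedness of the collinearity graph -/
theorem conn (g : Geo p m B ε XX) (hm : p + 3 ≤ m) (hp : 3 ≤ p) (hB : 1 ≤ B) (K : Subgroup (Perm Ω))
    (hK : IsPreprimitive K Ω) (hXX : ∀ k ∈ K, ∀ x ∈ XX, k * x * k⁻¹ ∈ XX) : g.Conn := by
  classical
  have hinv : ∀ k ∈ K, ∀ a b, g.Near a b → g.Near (k a) (k b) := by
    intro k hk a b h
    obtain ⟨h1, h2, h3⟩ := h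
    have h1' : k a ≠ k b := fun h => h1 (k.injective h)
    have h2' : NF XX (k a) (k b) := by
      obtain ⟨x, hx, hxa, hxb⟩ := h2
      exact ⟨k * x * k⁻¹, hXX k hk x hx, by simp [hxa], by simp [hxb]⟩
    refine ⟨h1', h2', ?_⟩
    have h4 := closure_eq g h1 h2
    have h5 := closure_eq g h1' h2'
    have h6 : {y | ∀ x ∈ XX, x (k a) = k a → x (k b) = k b → x y = y} =
        k '' {y | ∀ x ∈ XX, x a = a → x b = b → x y = y} := by
      ext y
      constructor
      · intro h
        refine ⟨k⁻¹ y, ?_, by simp⟩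
        intro x hx hxa hxb
        have h7 := h (k * x * k⁻¹) (hXX k hk x hx) (by simp [hxa]) (by simp [hxb])
        simp only [Perm.mul_apply] at h7
        rw [← Perm.eq_inv_iff_eq] at h7
        exact h7
      · rintro ⟨z, hz, rfl⟩ x hx hxa hxb
        have h7 := hz (k⁻¹ * x * k) (by simpa using hXX k⁻¹ (inv_mem hk) x hx) (by simp [hxa]) (by simp [hxb])
        simp only [Perm.mul_apply] at h7
        rw [Perm.inv_eq_iff_eq] at h7
        exact h7
    have hc2 : (g.S a b).card + p ≤ m := by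
      have := (g.card_S a b h1 h2).2
      omega
    have hc2' : (g.S (k a) (k b)).card + p ≤ m := by
      have := (g.card_S (k a) (k b) h1' h2').2
      omega
    have h7 : (fl g (k a) (g.S (k a) (k b))).ncard = (fl g a (g.S a b)).ncard := by
      rw [← h5, h6, ← h4, Set.ncard_image_of_injective _ k.injective]
    rw [card_fl g (by omega) _ _ hc2, card_fl g (by omega) _ _ hc2'] at h7
    rw [← h3]
    exact inj_gen (B := B) (ε := ε) _ _ (Or.inl hB) (by omega)
  have hsymm : ∀ a b, Relation.ReflTransGen g.Near a b → Relation.ReflTransGen g.Near b a := by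
    intro a b h
    induction h with
    | refl => exact Relation.ReflTransGen.refl
    | tail h1 h2 ih => exact Relation.ReflTransGen.head (near_symm g hm hp hB h2) ih
  have hmap : ∀ k ∈ K, ∀ a b, Relation.ReflTransGen g.Near a b → Relation.ReflTransGen g.Near (k a) (k b) := by
    intro k hk a b h
    exact Relation.ReflTransGen.lift k (fun a b h => hinv k hk a b h) _ _ h
  intro a b
  let C : Set Ω := {c | Relation.ReflTransGen g.Near a c}
  have haC : a ∈ C := Relation.ReflTransGen.refl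
  have hblock : IsBlock K C := by
    rw [MulAction.isBlock_iff_smul_eq_or_disjoint]
    intro k
    by_cases h : _root_.Disjoint (k • C) C
    · exact Or.inr h
    · left
      rw [Set.not_disjoint_iff] at h
      obtain ⟨z, ⟨c, hc, hkc⟩, hz⟩ := h
      have hkc' : (k : Perm Ω) c = z := hkc
      have h1 : Relation.ReflTransGen g.Near ((k : Perm Ω) a) z := hkc' ▸ hmap k k.2 a c hc
      have h2 : Relation.ReflTransGen g.Near ((k : Perm Ω) a) a := h1.trans (hsymm _ _ hz)
      ext y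
      constructor
      · rintro ⟨d, hd, rfl⟩
        have h3 : Relation.ReflTransGen g.Near ((k : Perm Ω) a) ((k : Perm Ω) d) := hmap k k.2 a d hd
        exact (hsymm _ _ h2).trans h3
      · intro hy
        refine ⟨(k : Perm Ω)⁻¹ y, ?_, ?_⟩
        · have h3 : Relation.ReflTransGen g.Near ((k : Perm Ω) a) y := h2.trans hy
          have h4 := hmap (k : Perm Ω)⁻¹ (inv_mem k.2) _ _ h3
          have h5 : (k : Perm Ω)⁻¹ ((k : Perm Ω) a) = a := by simp
          rw [h5] at h4
          exact h4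
        · change (k : Perm Ω) ((k : Perm Ω)⁻¹ y) = y
          simp
  rcases hK.isTrivialBlock_of_isBlock hblock with h | h
  · exfalso
    obtain ⟨c, hac, hnc, hSc⟩ : ({b | a ≠ b ∧ NF XX a b ∧ g.S a b = {(⟨0, by omega⟩ : Fin m)}}).Nonempty := by
      rw [← Set.ncard_pos (Set.toFinite _), g.card_B a _]
      exact hB
    have hcC : c ∈ C := Relation.ReflTransGen.single ⟨hac, hnc, by rw [hSc, Finset.card_singleton]⟩
    exact hac (h haC hcC)
  · have : b ∈ C := by rw [h]; exact Set.mem_univ b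
    exact this

/-- the case `B = 1`, `ε = 0` -/
theorem case10 (g : Geo p m 1 0 XX) [Nonempty Ω] (hm : p + 3 ≤ m) (hp : 3 ≤ p) (hc : g.Conn) : Nat.card Ω = m + 1 := by
  classical
  have hB : 1 ≤ 1 := le_rfl
  -- all labels are singletons
  have hone : ∀ a b, a ≠ b → NF XX a b → g.Near a b := by
    intro a b hab hn
    refine ⟨hab, hn, ?_⟩
    have h1 := g.card_S a b hab hn
    by_contra hne
    obtain ⟨i, j, hij, hS⟩ := Finset.card_eq_two.1 (by omega : (g.S a b).card = 2)
    have h2 := g.card_ε a i j hij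
    rw [Set.ncard_eq_zero (Set.toFinite _)] at h2
    exact Set.notMem_empty b (h2 ▸ (show b ∈ {b | a ≠ b ∧ NF XX a b ∧ g.S a b = {i, j}} from ⟨hab, hn, hS⟩))
  -- two neighbours of a point are neighbours
  have htri : ∀ a b c, g.Near a b → g.Near a c → b ≠ c → g.Near b c := by
    intro a b c hb hc' hbc
    obtain ⟨x, hx, hxa, hd⟩ := Cfsg.Agent.H903.GeoCase.exists_disj g a (g.S a b ∪ g.S a c) (by
      have h1 := Finset.card_union_le (g.S a b) (g.S a c)
      have h2 := hb.2.2
      have h3 := hc'.2.2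
      omega)
    apply hone b c hbc
    refine ⟨x, hx, ?_, ?_⟩
    · rw [g.fix_iff a b hb.1 hb.2.1 x hx hxa]
      exact Finset.disjoint_of_subset_right Finset.subset_union_left hd
    · rw [g.fix_iff a c hc'.1 hc'.2.1 x hx hxa]
      exact Finset.disjoint_of_subset_right Finset.subset_union_right hd
  obtain ⟨a⟩ := (inferInstance : Nonempty Ω)
  have hall : ∀ b, Relation.ReflTransGen g.Near a b → b = a ∨ g.Near a b := by
    intro b h
    induction h with
    | refl => exact Or.inl rfl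
    | @tail b c h1 h2 ih =>
      rcases ih with rfl | ih
      · exact Or.inr h2
      · by_cases hca : c = a
        · exact Or.inl hca
        · exact Or.inr (htri b a c (near_symm g hm hp hB ih) h2 (fun h => hca h.symm))
  haveI := Fintype.ofFinite Ω
  -- counting
  have h1 : (Finset.univ.erase a).card = m := by
    have h2 : (Finset.univ.erase a).card = (Finset.univ : Finset (Fin m)).card := by
      have hex : ∀ b ∈ Finset.univ.erase a, ∃ i : Fin m, g.S a b = {i} := by
        intro b hb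
        rcases hall b (hc a b) with h | h
        · exact absurd h (Finset.ne_of_mem_erase hb)
        · exact Finset.card_eq_one.1 h.2.2
      haveI : Nonempty (Fin m) := ⟨⟨0, by omega⟩⟩
      choose! f hf using hex
      refine Finset.card_bij (fun b _ => f b) (fun _ _ => Finset.mem_univ _) ?_ ?_
      · intro b hb c hc' hbc
        have h3 := hf b hb
        have h4 := hf c hc'
        rw [hbc] at h3
        have hb' : g.Near a b := (hall b (hc a b)).resolve_left (Finset.ne_of_mem_erase hb)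
        have hc'' : g.Near a c := (hall c (hc a c)).resolve_left (Finset.ne_of_mem_erase hc')
        obtain ⟨w, hw⟩ := Set.ncard_eq_one.1 (g.card_B a (f c))
        have h5 : b ∈ {b | a ≠ b ∧ NF XX a b ∧ g.S a b = {f c}} := ⟨hb'.1, hb'.2.1, h3⟩
        have h6 : c ∈ {b | a ≠ b ∧ NF XX a b ∧ g.S a b = {f c}} := ⟨hc''.1, hc''.2.1, h4⟩
        rw [hw] at h5 h6
        exact (Set.mem_singleton_iff.1 h5).trans (Set.mem_singleton_iff.1 h6).symm
      · intro i _
        obtain ⟨w, hw⟩ := Set.ncard_eq_one.1 (g.card_B a i)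
        have h5 : w ∈ {b | a ≠ b ∧ NF XX a b ∧ g.S a b = {i}} := by rw [hw]; exact Set.mem_singleton w
        obtain ⟨h6, h7, h8⟩ := h5
        have h9 : w ∈ Finset.univ.erase a := Finset.mem_erase.2 ⟨h6.symm, Finset.mem_univ _⟩
        refine ⟨w, h9, ?_⟩
        have h10 := hf w h9
        rw [h8] at h10
        exact (Finset.singleton_injective h10).symm
    rw [h2, Finset.card_univ, Fintype.card_fin]
  rw [Finset.card_erase_of_mem (Finset.mem_univ a), Finset.card_univ] at h1
  have h2 : 0 < Fintype.card Ω := Fintype.card_pos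
  rw [Nat.card_eq_fintype_card]
  omega

end Cfsg.Agent.H405.PrA
end

-- part: H579/Pr/Avg
section
/-!
# 2-transitive groups: averaging, small supports (helper579)

* `sum_pairs` : double counting for pairs;
* `alt_of_small` : a non-trivial element moving at most 3 points forces the alternating group;
* `min_deg` : otherwise every non-trivial element `x` satisfies `n - 1 ≤ (|supp x| - 1) ^ 2`;
* `bochert` : the minimal degree `m` satisfies `(m - 3) (n - m) ≤ 3 (m - 1) ^ 2`;
* `three_two` : no elements of order 3 with two cycles if `n ≥ 22`.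
-/

set_option autoImplicit false

namespace Cfsg.Agent.H579.Pr

open MulAction Finset

universe u v

variable {G : Type u} {Ω : Type v} [Group G] [MulAction G Ω] [Fintype Ω] [DecidableEq Ω]

section avg

variable [Fintype G]

theorem card_two (h2 : IsMultiplyPretransitive G Ω 2) {a b c d : Ω} (hab : a ≠ b) (hcd : c ≠ d) :
    #{h : G | h • a = c ∧ h • b = d} * (Fintype.card Ω * (Fintype.card Ω - 1)) = Fintype.card G := by
  have h0 : Fintype.card G = ∑ z ∈ (univ : Finset Ω).offDiag, #{h : G | (h • a, h • b) = z} := by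
    have h1 := Finset.card_eq_sum_card_fiberwise (s := (univ : Finset G)) (t := (univ : Finset Ω).offDiag)
      (f := fun h => (h • a, h • b)) (fun h _ => by simp only [mem_offDiag, hab, _root_.Finset.coe_offDiag, _root_.Finset.coe_univ, _root_.Set.offDiag_univ, _root_.Set.mem_compl_iff, _root_.Set.mem_diagonal_iff, _root_.smul_left_cancel_iff, _root_.not_false_eq_true])
    rw [← Finset.card_univ, h1]
  have key : ∀ z ∈ (univ : Finset Ω).offDiag,
      #{h : G | (h • a, h • b) = z} = #{h : G | h • a = c ∧ h • b = d} := by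
    rintro ⟨u, w⟩ hz
    rw [mem_offDiag] at hz
    obtain ⟨t, ht1, ht2⟩ := is_two_pretransitive_iff.1 h2 hcd hz.2.2
    refine Finset.card_bij' (fun h _ => t⁻¹ * h) (fun h _ => t * h) ?_ ?_ ?_ ?_
    · intro h hh
      simp only [mem_filter, mem_univ, true_and, Prod.mk.injEq] at hh ⊢
      rw [mul_smul, mul_smul, inv_smul_eq_iff, inv_smul_eq_iff, hh.1, hh.2]
      exact ⟨ht1.symm, ht2.symm⟩
    · intro h hh
      simp only [mem_filter, mem_univ, true_and, Prod.mk.injEq] at hh ⊢
      rw [mul_smul, mul_smul, hh.1, hh.2]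
      exact ⟨ht1, ht2⟩
    · intro h _
      simp
    · intro h _
      simp
  rw [h0, Finset.sum_congr rfl key, sum_const, offDiag_card, Finset.card_univ, smul_eq_mul, mul_comm,
    Nat.mul_sub_one]

theorem sum_pairs (h2 : IsMultiplyPretransitive G Ω 2) (P Q : Finset (Ω × Ω)) (hP : ∀ z ∈ P, z.1 ≠ z.2)
    (hQ : ∀ z ∈ Q, z.1 ≠ z.2) :
    (∑ h : G, #{z ∈ P | (h • z.1, h • z.2) ∈ Q}) * (Fintype.card Ω * (Fintype.card Ω - 1)) =
      Fintype.card G * (#P * #Q) := by
  have h1 : ∑ h : G, #{z ∈ P | (h • z.1, h • z.2) ∈ Q} =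
      ∑ z ∈ P, ∑ w ∈ Q, #{h : G | h • z.1 = w.1 ∧ h • z.2 = w.2} := by
    have e1 : ∀ h : G, #{z ∈ P | (h • z.1, h • z.2) ∈ Q} =
        ∑ z ∈ P, ∑ w ∈ Q, (if h • z.1 = w.1 ∧ h • z.2 = w.2 then 1 else 0) := by
      intro h
      rw [Finset.card_filter]
      refine Finset.sum_congr rfl fun z _ => ?_
      split_ifs with hz
      · rw [Finset.sum_eq_single_of_mem _ hz]
        · simp
        · intro w _ hw
          rw [if_neg]
          rintro ⟨h3, h4⟩
          exact hw (Prod.ext h3.symm h4.symm)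
      · symm
        apply Finset.sum_eq_zero
        intro w hw
        rw [if_neg]
        rintro ⟨h3, h4⟩
        apply hz
        rw [h3, h4]
        exact hw
    simp_rw [e1]
    rw [Finset.sum_comm]
    refine Finset.sum_congr rfl fun z _ => ?_
    rw [Finset.sum_comm]
    refine Finset.sum_congr rfl fun w _ => ?_
    rw [Finset.card_filter]
  rw [h1, Finset.sum_mul]
  have e2 : ∀ z ∈ P, (∑ w ∈ Q, #{h : G | h • z.1 = w.1 ∧ h • z.2 = w.2}) *
      (Fintype.card Ω * (Fintype.card Ω - 1)) = Fintype.card G * #Q := by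
    intro z hz
    rw [Finset.sum_mul]
    have e3 : ∀ w ∈ Q, #{h : G | h • z.1 = w.1 ∧ h • z.2 = w.2} * (Fintype.card Ω * (Fintype.card Ω - 1)) =
        Fintype.card G := fun w hw => card_two h2 (hP z hz) (hQ w hw)
    rw [Finset.sum_congr rfl e3, sum_const, smul_eq_mul, mul_comm]
  rw [Finset.sum_congr rfl e2, sum_const, smul_eq_mul]
  ring

theorem sum_points [IsPretransitive G Ω] (P Q : Finset Ω) :
    (∑ h : G, #{z ∈ P | h • z ∈ Q}) * Fintype.card Ω = Fintype.card G * (#P * #Q) := by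
  have h0 : ∀ a c : Ω, #{h : G | h • a = c} * Fintype.card Ω = Fintype.card G := by
    intro a c
    have h1 := Finset.card_eq_sum_card_fiberwise (s := (univ : Finset G)) (t := (univ : Finset Ω))
      (f := fun h => h • a) (fun h _ => by simp)
    have key : ∀ z ∈ (univ : Finset Ω), #{h : G | h • a = z} = #{h : G | h • a = c} := by
      intro z _
      obtain ⟨t, ht⟩ := exists_smul_eq G c z
      refine Finset.card_bij' (fun h _ => t⁻¹ * h) (fun h _ => t * h) ?_ ?_ ?_ ?_
      · intro h hh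
        simp only [mem_filter, mem_univ, true_and] at hh ⊢
        rw [mul_smul, inv_smul_eq_iff, hh, ht]
      · intro h hh
        simp only [mem_filter, mem_univ, true_and] at hh ⊢
        rw [mul_smul, hh, ht]
      · intro h _
        simp
      · intro h _
        simp
    rw [Finset.sum_congr rfl key, sum_const, Finset.card_univ, Finset.card_univ, smul_eq_mul] at h1
    rw [h1, mul_comm]
  have h1 : ∑ h : G, #{z ∈ P | h • z ∈ Q} = ∑ z ∈ P, ∑ w ∈ Q, #{h : G | h • z = w} := by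
    have e1 : ∀ h : G, #{z ∈ P | h • z ∈ Q} = ∑ z ∈ P, ∑ w ∈ Q, (if h • z = w then 1 else 0) := by
      intro h
      rw [Finset.card_filter]
      refine Finset.sum_congr rfl fun z _ => ?_
      rw [Finset.sum_ite_eq]
    simp_rw [e1]
    rw [Finset.sum_comm]
    refine Finset.sum_congr rfl fun z _ => ?_
    rw [Finset.sum_comm]
    refine Finset.sum_congr rfl fun w _ => ?_
    rw [Finset.card_filter]
  rw [h1, Finset.sum_mul]
  have e2 : ∀ z ∈ P, (∑ w ∈ Q, #{h : G | h • z = w}) * Fintype.card Ω = Fintype.card G * #Q := by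
    intro z _
    rw [Finset.sum_mul]
    rw [Finset.sum_congr rfl fun w _ => h0 z w, sum_const, smul_eq_mul, mul_comm]
  rw [Finset.sum_congr rfl e2, sum_const, smul_eq_mul]
  ring

end avg

end Cfsg.Agent.H579.Pr
end

-- part: H579/Pr/Small
section
/-!
# 2-transitive groups: small supports (helper579)

* `alt_of_small` : a non-trivial element moving at most 3 points forces the alternating group;
* `min_deg` : otherwise every non-trivial element `x` satisfies `n - 1 ≤ (|supp x| - 1) ^ 2`;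
* `bochert` : the minimal degree `m` satisfies `(m - 3) (n - m) ≤ 3 (m - 1) ^ 2`;
* `three_two` : no elements of order 3 with two cycles if `n ≥ 22`.
-/

set_option autoImplicit false

namespace Cfsg.Agent.H579.Pr

open MulAction Finset

universe u v

variable {G : Type u} {Ω : Type v} [Group G] [MulAction G Ω] [Fintype Ω] [DecidableEq Ω]

variable (Ω) in
/-- the moved points -/
def mv (x : G) : Finset Ω := univ.filter fun a => x • a ≠ a

theorem mem_mv {x : G} {a : Ω} : a ∈ mv Ω x ↔ x • a ≠ a := by simp only [mv, _root_.ne_eq, _root_.Finset.mem_filter, _root_.Finset.mem_univ, _root_.true_and]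

theorem not_mem_mv {x : G} {a : Ω} : a ∉ mv Ω x ↔ x • a = a := by simp only [mv, _root_.ne_eq, _root_.Finset.mem_filter, _root_.Finset.mem_univ, _root_.true_and, _root_.Decidable.not_not]

theorem mem_mv_inv {x : G} {a : Ω} : a ∈ mv Ω x⁻¹ ↔ a ∈ mv Ω x := by
  rw [mem_mv, mem_mv, Ne, inv_smul_eq_iff, eq_comm]

theorem smul_mem_mv {x : G} {a : Ω} : x • a ∈ mv Ω x ↔ a ∈ mv Ω x := by
  rw [mem_mv, mem_mv, Ne, smul_left_cancel_iff]

theorem inv_smul_mem_mv {x : G} {a : Ω} : x⁻¹ • a ∈ mv Ω x ↔ a ∈ mv Ω x := by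
  rw [← mem_mv_inv, smul_mem_mv, mem_mv_inv]

theorem mem_mv_conj {h x : G} {a : Ω} : a ∈ mv Ω (h⁻¹ * x * h) ↔ h • a ∈ mv Ω x := by
  rw [mem_mv, mem_mv, mul_smul, mul_smul, Ne, inv_smul_eq_iff]

theorem mv_comm_subset (x y : G) : mv Ω (x * y * x⁻¹ * y⁻¹) ⊆
    (mv Ω x ∩ mv Ω y) ∪ (mv Ω x ∩ mv Ω y).image (x • ·) ∪ (mv Ω x ∩ mv Ω y).image (y • ·) := by
  intro w hw
  rw [mem_mv, mul_smul, mul_smul, mul_smul] at hw
  rw [mem_union, mem_union, mem_image, mem_image]
  by_cases h1 : y⁻¹ • w = w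
  · have hyw : y • w = w := by rw [inv_smul_eq_iff] at h1; exact h1.symm
    rw [h1] at hw
    have h2 : x⁻¹ • w ∈ mv Ω y := by
      rw [mem_mv]
      intro hc
      rw [hc, smul_inv_smul] at hw
      exact hw rfl
    have h3 : x⁻¹ • w ∈ mv Ω x := by
      by_contra hc
      rw [not_mem_mv, smul_inv_smul] at hc
      rw [← hc, mem_mv] at h2
      exact h2 hyw
    exact Or.inl (Or.inr ⟨_, mem_inter.2 ⟨h3, h2⟩, smul_inv_smul x w⟩)
  · have h2 : w ∈ mv Ω y := by rw [← mem_mv_inv, mem_mv]; exact h1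
    by_cases h3 : w ∈ mv Ω x
    · exact Or.inl (Or.inl (mem_inter.2 ⟨h3, h2⟩))
    · rw [not_mem_mv] at h3
      right
      refine ⟨y⁻¹ • w, mem_inter.2 ⟨?_, inv_smul_mem_mv.2 h2⟩, smul_inv_smul y w⟩
      rw [← mem_mv_inv, mem_mv]
      intro hc
      rw [hc, smul_inv_smul, h3] at hw
      exact hw rfl

theorem card_mv_comm_le (x y : G) : #(mv Ω (x * y * x⁻¹ * y⁻¹)) ≤ 3 * #(mv Ω x ∩ mv Ω y) := by
  refine (card_le_card (mv_comm_subset x y)).trans ((card_union_le _ _).trans ?_)
  have h1 := card_union_le (mv Ω x ∩ mv Ω y) ((mv Ω x ∩ mv Ω y).image (x • ·))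
  have h2 : #((mv Ω x ∩ mv Ω y).image (x • ·)) ≤ #(mv Ω x ∩ mv Ω y) := card_image_le
  have h3 : #((mv Ω x ∩ mv Ω y).image (y • ·)) ≤ #(mv Ω x ∩ mv Ω y) := card_image_le
  omega

theorem mv_nonempty [FaithfulSMul G Ω] {x : G} (h : x ≠ 1) : (mv Ω x).Nonempty := by
  by_contra hc
  rw [not_nonempty_iff_eq_empty] at hc
  apply h
  apply FaithfulSMul.eq_of_smul_eq_smul (α := Ω)
  intro a
  have : a ∉ mv Ω x := by rw [hc]; exact notMem_empty a
  rw [not_mem_mv.1 this, one_smul]

theorem support_eq (x : G) : (toPermHom G Ω x).support = mv Ω x := by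
  ext a
  rw [Equiv.Perm.mem_support, mem_mv]
  rfl

theorem two_range (h2 : IsMultiplyPretransitive G Ω 2) :
    IsMultiplyPretransitive (toPermHom G Ω).range Ω 2 := by
  rw [is_two_pretransitive_iff]
  intro a b c d hab hcd
  obtain ⟨g, h1, h3⟩ := is_two_pretransitive_iff.1 h2 hab hcd
  exact ⟨⟨toPermHom G Ω g, g, rfl⟩, h1, h3⟩

/-- **Jordan** -/
theorem alt_of_small [FaithfulSMul G Ω] (h2 : IsMultiplyPretransitive G Ω 2) {z : G} (hz : z ≠ 1)
    (h3 : #(mv Ω z) ≤ 3) : alternatingGroup Ω ≤ (toPermHom G Ω).range := by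
  have hp : IsPreprimitive (toPermHom G Ω).range Ω := isPreprimitive_of_is_two_pretransitive (two_range h2)
  have h1 : toPermHom G Ω z ≠ 1 := by
    intro hc
    apply hz
    apply FaithfulSMul.eq_of_smul_eq_smul (α := Ω)
    intro a
    rw [one_smul]
    exact DFunLike.congr_fun hc a
  have h4 := Equiv.Perm.two_le_card_support_of_ne_one h1
  rw [support_eq] at h4
  rcases Nat.lt_or_ge (#(mv Ω z)) 3 with h5 | h5
  · have h6 : (toPermHom G Ω z).IsSwap := by
      rw [← Equiv.Perm.card_support_eq_two, support_eq]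
      omega
    rw [Equiv.Perm.subgroup_eq_top_of_isPreprimitive_of_isSwap_mem hp _ h6 ⟨z, rfl⟩]
    exact le_top
  · have h6 : (toPermHom G Ω z).IsThreeCycle := by
      rw [← card_support_eq_three_iff, support_eq]
      omega
    exact Equiv.Perm.alternatingGroup_le_of_isPreprimitive_of_isThreeCycle_mem hp h6 ⟨z, rfl⟩

section

variable [Fintype G]

/-- the points of `S` whose image under `h` is in `S` -/
def ii (S : Finset Ω) (h : G) : Finset Ω := S.filter fun a => h • a ∈ S

omit [Fintype G] in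
theorem ii_mv (x h : G) : ii (mv Ω x) h = mv Ω x ∩ mv Ω (h⁻¹ * x * h) := by
  ext a
  rw [ii, mem_filter, mem_inter, mem_mv_conj]

theorem sum_ii [IsPretransitive G Ω] (S : Finset Ω) :
    (∑ h : G, #(ii S h)) * Fintype.card Ω = Fintype.card G * (#S * #S) := sum_points S S

theorem sum_ii_two (h2 : IsMultiplyPretransitive G Ω 2) (S : Finset Ω) :
    (∑ h : G, #(ii S h) * (#(ii S h) - 1)) * (Fintype.card Ω * (Fintype.card Ω - 1)) =
      Fintype.card G * ((#S * (#S - 1)) * (#S * (#S - 1))) := by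
  have h1 := sum_pairs h2 S.offDiag S.offDiag (fun z hz => (mem_offDiag.1 hz).2.2)
    (fun z hz => (mem_offDiag.1 hz).2.2)
  have h3 : ∀ h : G, #{z ∈ S.offDiag | (h • z.1, h • z.2) ∈ S.offDiag} = #(ii S h) * (#(ii S h) - 1) := by
    intro h
    rw [Nat.mul_sub_one, ← offDiag_card]
    congr 1
    ext z
    rw [mem_filter, mem_offDiag, mem_offDiag, mem_offDiag, ii, mem_filter, mem_filter]
    constructor
    · rintro ⟨⟨h4, h5, h6⟩, h7, h8, -⟩
      exact ⟨⟨h4, h7⟩, ⟨h5, h8⟩, h6⟩
    · rintro ⟨⟨h4, h7⟩, ⟨h5, h8⟩, h6⟩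
      exact ⟨⟨h4, h5, h6⟩, h7, h8, fun hc => h6 (smul_left_cancel h hc)⟩
  rw [Finset.sum_congr rfl fun h _ => h3 h, offDiag_card, ← Nat.mul_sub_one] at h1
  exact h1

/-- **The minimal degree, first bound.** -/
theorem min_deg [FaithfulSMul G Ω] (h2 : IsMultiplyPretransitive G Ω 2)
    (hA : ¬ alternatingGroup Ω ≤ (toPermHom G Ω).range) {x : G} (hx : x ≠ 1) :
    Fintype.card Ω ≤ (#(mv Ω x) - 1) ^ 2 + 1 := by
  have htr : IsPretransitive G Ω := isPretransitive_of_is_two_pretransitive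
  set S := mv Ω x with hS
  have hpos : 0 < #S := (mv_nonempty hx).card_pos
  have hne : ∀ h : G, #(ii S h) ≠ 1 := by
    intro h h1
    apply hA
    rw [hS, ii_mv] at h1
    obtain ⟨a, ha⟩ := card_eq_one.1 h1
    have haJ : a ∈ mv Ω x ∩ mv Ω (h⁻¹ * x * h) := by rw [ha]; exact mem_singleton_self a
    rw [mem_inter] at haJ
    refine alt_of_small h2 (z := x * (h⁻¹ * x * h) * x⁻¹ * (h⁻¹ * x * h)⁻¹) ?_ ?_
    · intro hc
      have h3 : x * (h⁻¹ * x * h) = (h⁻¹ * x * h) * x := by
        rw [mul_inv_eq_one, mul_inv_eq_iff_eq_mul] at hc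
        exact hc
      have h4 : x • a ∈ mv Ω x ∩ mv Ω (h⁻¹ * x * h) := by
        rw [mem_inter]
        refine ⟨smul_mem_mv.2 haJ.1, ?_⟩
        rw [mem_mv, ← mul_smul, ← h3, mul_smul, Ne, smul_left_cancel_iff]
        exact mem_mv.1 haJ.2
      rw [ha, mem_singleton] at h4
      exact (mem_mv.1 haJ.1) h4
    · have h3 := card_mv_comm_le (Ω := Ω) x (h⁻¹ * x * h)
      rw [h1] at h3
      exact h3
  have h3 := sum_ii (G := G) S
  have h4 := sum_ii_two h2 S (G := G)
  have h5 : ∑ h : G, #(ii S h) ≤ ∑ h : G, #(ii S h) * (#(ii S h) - 1) := by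
    apply Finset.sum_le_sum
    intro h _
    have h6 := hne h
    rcases Nat.eq_zero_or_pos (#(ii S h)) with h7 | h7
    · rw [h7]
    · exact Nat.le_mul_of_pos_right _ (by omega)
  have hG : 0 < Fintype.card G := Fintype.card_pos
  have h6 : Fintype.card G * (#S * #S) * (Fintype.card Ω - 1) ≤
      Fintype.card G * ((#S * (#S - 1)) * (#S * (#S - 1))) := by
    rw [← h3, ← h4]
    calc _ = (∑ h : G, #(ii S h)) * (Fintype.card Ω * (Fintype.card Ω - 1)) := by ring
      _ ≤ _ := Nat.mul_le_mul_right _ h5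
  have h7 : Fintype.card Ω - 1 ≤ (#S - 1) ^ 2 := by
    apply Nat.le_of_mul_le_mul_left _ (Nat.mul_pos hG (Nat.mul_pos hpos hpos))
    calc _ ≤ _ := h6
      _ = _ := by ring
  omega

/-- an element `y` and `x` with `x • J ⊄ J` do not commute -/
theorem comm_ne {x y : G} {a : Ω} (ha : a ∈ mv Ω y) (hb : x • a ∉ mv Ω y) : x * y * x⁻¹ * y⁻¹ ≠ 1 := by
  intro hc
  have h3 : x * y = y * x := by
    rw [mul_inv_eq_one, mul_inv_eq_iff_eq_mul] at hc
    exact hc
  apply hb
  rw [mem_mv, ← mul_smul, ← h3, mul_smul, Ne, smul_left_cancel_iff]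
  exact mem_mv.1 ha

/-- **No elements of order 3 with two cycles if `n ≥ 22`.** -/
theorem three_two [FaithfulSMul G Ω] (h2 : IsMultiplyPretransitive G Ω 2)
    (hA : ¬ alternatingGroup Ω ≤ (toPermHom G Ω).range) {x : G} (hx : orderOf x = 3) (hs : #(mv Ω x) = 6)
    (hn : 22 ≤ Fintype.card Ω) : False := by
  have htr : IsPretransitive G Ω := isPretransitive_of_is_two_pretransitive
  set S := mv Ω x with hS
  have hx3 : x * x * x = 1 := by
    have h := pow_orderOf_eq_one x
    rw [hx] at h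
    rw [← h, pow_three']
  -- the pairs `(a, x a)`
  set C : Finset (Ω × Ω) := S.image fun a => (a, x • a) with hC
  have hCcard : #C = 6 := by
    rw [hC, card_image_of_injective, hs]
    intro a b hab
    exact congrArg Prod.fst hab
  have hCne : ∀ z ∈ C, z.1 ≠ z.2 := by
    intro z hz
    obtain ⟨a, ha, rfl⟩ := mem_image.1 hz
    exact (mem_mv.1 ha).symm
  have h3 := sum_ii (G := G) S
  have h4 := sum_ii_two h2 S (G := G)
  have h5 := sum_pairs h2 C S.offDiag hCne (fun z hz => (mem_offDiag.1 hz).2.2)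
  rw [hs] at h3 h4
  rw [hCcard, offDiag_card, hs] at h5
  have key : ∃ h : G, #(ii S h) * (#(ii S h) - 1) < #(ii S h) +
      #{z ∈ C | (h • z.1, h • z.2) ∈ S.offDiag} := by
    by_contra hcon
    push Not at hcon
    have h6 : (∑ h : G, #(ii S h)) + ∑ h : G, #{z ∈ C | (h • z.1, h • z.2) ∈ S.offDiag} ≤
        ∑ h : G, #(ii S h) * (#(ii S h) - 1) := by
      rw [← Finset.sum_add_distrib]
      exact Finset.sum_le_sum fun h _ => hcon h
    have hG : 0 < Fintype.card G := Fintype.card_pos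
    have h7 := Nat.mul_le_mul_right (Fintype.card Ω * (Fintype.card Ω - 1)) h6
    rw [add_mul, h4, h5] at h7
    have h8 : (∑ h : G, #(ii S h)) * (Fintype.card Ω * (Fintype.card Ω - 1)) =
        Fintype.card G * (36 * (Fintype.card Ω - 1)) := by
      rw [← mul_assoc, h3]
      ring
    rw [h8, ← mul_add] at h7
    have h9 := Nat.le_of_mul_le_mul_left h7 hG
    omega
  obtain ⟨h, hh⟩ := key
  -- the number of the pairs is at most the number of the points `a` with `a, x a` in `J`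
  set J := ii S h with hJ
  have hJmv : J = mv Ω x ∩ mv Ω (h⁻¹ * x * h) := by rw [hJ, hS, ii_mv]
  set A := J.filter fun a => x • a ∈ J with hAdef
  have hcard : #{z ∈ C | (h • z.1, h • z.2) ∈ S.offDiag} ≤ #A := by
    apply Finset.card_le_card_of_injOn (fun z => z.1)
    · intro z hz
      have hz' := mem_filter.1 (mem_coe.1 hz)
      obtain ⟨a, ha, rfl⟩ := mem_image.1 hz'.1
      have h6 := mem_offDiag.1 hz'.2
      simp only at h6
      rw [mem_coe, hAdef, mem_filter, hJ, ii, mem_filter, mem_filter]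
      exact ⟨⟨ha, h6.1⟩, smul_mem_mv.2 ha, h6.2.1⟩
    · intro z hz w hw hzw
      obtain ⟨a, ha, rfl⟩ := mem_image.1 (mem_filter.1 (mem_coe.1 hz)).1
      obtain ⟨b, hb, rfl⟩ := mem_image.1 (mem_filter.1 (mem_coe.1 hw)).1
      have : a = b := hzw
      rw [this]
  have hAJ : #A ≤ #J := card_le_card (filter_subset _ _)
  have hJpos : 0 < #J := by
    by_contra hc
    have : #J = 0 := by omega
    rw [this] at hh hAJ
    omega
  have hJ2 : #J ≤ 2 := by
    by_contra hc
    have h6 : #J * 2 ≤ #J * (#J - 1) := Nat.mul_le_mul_left _ (by omega)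
    omega
  -- `J` is not invariant under `x`
  have hdist : ∀ a ∈ S, x • x • a ≠ a ∧ x • x • a ≠ x • a := by
    intro a ha
    have h6 : x • a ≠ a := mem_mv.1 ha
    constructor
    · intro hc
      apply h6
      calc x • a = x • x • x • a := by rw [hc]
        _ = (x * x * x) • a := by rw [mul_smul, mul_smul]
        _ = a := by rw [hx3, one_smul]
    · intro hc
      exact h6 (smul_left_cancel x hc)
  set y := h⁻¹ * x * h with hy
  have hsmall : ∃ z : G, z ≠ 1 ∧ #(mv Ω z) ≤ 5 := by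
    obtain ⟨a, ha⟩ := card_pos.1 hJpos
    have haJ := ha
    rw [hJmv, mem_inter] at haJ
    -- there is a point of `J` whose image is not in `J`
    obtain ⟨b, hb, hbJ⟩ : ∃ b ∈ J, x • b ∉ J := by
      by_contra hcon
      push Not at hcon
      have h6 : ({a, x • a, x • x • a} : Finset Ω) ⊆ J := by
        intro w hw
        simp only [mem_insert, mem_singleton] at hw
        rcases hw with rfl | rfl | rfl
        · exact ha
        · exact hcon _ ha
        · exact hcon _ (hcon _ ha)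
      have h7 := card_le_card h6
      have h8 := hdist a haJ.1
      rw [card_insert_of_notMem, card_insert_of_notMem, card_singleton] at h7
      · omega
      · rw [mem_singleton]; exact fun hc => h8.2 hc.symm
      · rw [mem_insert, mem_singleton]
        rintro (hc | hc)
        · exact (mem_mv.1 haJ.1) hc.symm
        · exact h8.1 hc.symm
    have hbJ' := hb
    rw [hJmv, mem_inter] at hb hbJ
    refine ⟨x * y * x⁻¹ * y⁻¹, comm_ne hb.2 fun hc => hbJ ⟨smul_mem_mv.2 hb.1, hc⟩, ?_⟩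
    rcases Nat.lt_or_ge (#J) 2 with h6 | h6
    · have h7 := card_mv_comm_le (Ω := Ω) x y
      rw [← hJmv] at h7
      omega
    · -- `J = {a, x a}`
      have h7 : #J = 2 := by omega
      have h8 : 0 < #A := by
        rw [h7] at hh
        omega
      obtain ⟨c, hc⟩ := card_pos.1 h8
      rw [hAdef, mem_filter] at hc
      refine (card_le_card (mv_comm_subset x y)).trans ?_
      rw [← hJmv]
      have h9 : J ∪ J.image (x • ·) ∪ J.image (y • ·) = (insert (x • x • c) J) ∪ J.image (y • ·) := by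
        have hcS : c ∈ S := by
          have := hc.1
          rw [hJmv, mem_inter] at this
          exact this.1
        have hJc : J = {c, x • c} := by
          symm
          apply Finset.eq_of_subset_of_card_le
          · intro w hw
            simp only [mem_insert, mem_singleton] at hw
            rcases hw with rfl | rfl
            · exact hc.1
            · exact hc.2
          · rw [h7, card_pair]
            exact (mem_mv.1 hcS).symm
        rw [hJc]
        ext w
        simp only [mem_union, mem_insert, mem_singleton, mem_image, exists_eq_or_imp, exists_eq_left]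
        (clear * -; tauto)
      rw [h9]
      refine (card_union_le _ _).trans ?_
      have h10 := card_insert_le (x • x • c) J
      have h11 : #(J.image (y • ·)) ≤ #J := card_image_le
      omega
  obtain ⟨z, hz, hz5⟩ := hsmall
  have h6 := min_deg h2 hA hz
  have h7 : (#(mv Ω z) - 1) ^ 2 ≤ 4 ^ 2 := Nat.pow_le_pow_left (by omega) 2
  omega

/-- **The minimal degree, second bound** (Bochert). -/
theorem bochert [FaithfulSMul G Ω] (h2 : IsMultiplyPretransitive G Ω 2) {x : G} (hx : x ≠ 1)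
    (hmin : ∀ z : G, z ≠ 1 → #(mv Ω x) ≤ #(mv Ω z)) :
    (#(mv Ω x) - 3) * (Fintype.card Ω - #(mv Ω x)) ≤ 3 * (#(mv Ω x) - 1) ^ 2 := by
  set S := mv Ω x with hS
  have hpos : 0 < #S := (mv_nonempty hx).card_pos
  set P : Finset (Ω × Ω) := S.image fun a => (a, x • a) with hP
  have hPcard : #P = #S := by
    rw [hP, card_image_of_injective]
    intro a b hab
    exact congrArg Prod.fst hab
  have hPne : ∀ z ∈ P, z.1 ≠ z.2 := by
    intro z hz
    obtain ⟨a, ha, rfl⟩ := mem_image.1 hz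
    exact (mem_mv.1 ha).symm
  set Q : Finset (Ω × Ω) := Sᶜ ×ˢ S with hQ
  have hQcard : #Q = (Fintype.card Ω - #S) * #S := by
    rw [hQ, card_product, card_compl]
  have hQne : ∀ z ∈ Q, z.1 ≠ z.2 := by
    intro z hz hc
    rw [hQ, mem_product, mem_compl] at hz
    rw [hc] at hz
    exact hz.1 hz.2
  have h5 := sum_pairs h2 P Q hPne hQne (G := G)
  have h4 := sum_ii_two h2 S (G := G)
  have key : ∀ h : G, (#S - 3) * #{z ∈ P | (h • z.1, h • z.2) ∈ Q} ≤ 3 * (#(ii S h) * (#(ii S h) - 1)) := by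
    intro h
    set y := h⁻¹ * x * h with hy
    have hJmv : ii S h = mv Ω x ∩ mv Ω y := by rw [hS, ii_mv]
    rcases Nat.eq_zero_or_pos (#{z ∈ P | (h • z.1, h • z.2) ∈ Q}) with h0 | h0
    · rw [h0, mul_zero]
      exact Nat.zero_le _
    have hle : #{z ∈ P | (h • z.1, h • z.2) ∈ Q} ≤ #(ii S h) := by
      apply Finset.card_le_card_of_injOn (fun z => z.2)
      · intro z hz
        have hz' := mem_filter.1 (mem_coe.1 hz)
        obtain ⟨a, ha, rfl⟩ := mem_image.1 hz'.1
        have h6 := mem_product.1 hz'.2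
        rw [mem_coe, ii, mem_filter]
        exact ⟨smul_mem_mv.2 ha, h6.2⟩
      · intro z hz w hw hzw
        obtain ⟨a, ha, rfl⟩ := mem_image.1 (mem_filter.1 (mem_coe.1 hz)).1
        obtain ⟨b, hb, rfl⟩ := mem_image.1 (mem_filter.1 (mem_coe.1 hw)).1
        have : x • a = x • b := hzw
        rw [smul_left_cancel x this]
    obtain ⟨z, hz⟩ := card_pos.1 h0
    have hz' := mem_filter.1 hz
    obtain ⟨a, ha, rfl⟩ := mem_image.1 hz'.1
    have h6 := mem_product.1 hz'.2
    simp only [mem_compl] at h6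
    -- `y` fixes `a` and moves `x a`
    have h7 : a ∉ mv Ω y := by rw [mem_mv_conj]; exact h6.1
    have h8 : x • a ∈ mv Ω y := by rw [mem_mv_conj]; exact h6.2
    have h9 : x * y * x⁻¹ * y⁻¹ ≠ 1 := by
      intro hc
      have h3 : x * y = y * x := by
        rw [mul_inv_eq_one, mul_inv_eq_iff_eq_mul] at hc
        exact hc
      apply mem_mv.1 h8
      rw [← mul_smul, ← h3, mul_smul, not_mem_mv.1 h7]
    have h10 := (hmin _ h9).trans (card_mv_comm_le x y)
    rw [← hJmv] at h10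
    have h11 : #S - 3 ≤ 3 * (#(ii S h) - 1) := by omega
    calc _ ≤ (3 * (#(ii S h) - 1)) * #(ii S h) := Nat.mul_le_mul h11 hle
      _ = _ := by ring
  have h6 : (#S - 3) * (∑ h : G, #{z ∈ P | (h • z.1, h • z.2) ∈ Q}) ≤
      3 * ∑ h : G, #(ii S h) * (#(ii S h) - 1) := by
    rw [Finset.mul_sum, Finset.mul_sum]
    exact Finset.sum_le_sum fun h _ => key h
  have h7 := Nat.mul_le_mul_right (Fintype.card Ω * (Fintype.card Ω - 1)) h6
  rw [mul_assoc, mul_assoc, h4, h5, hPcard, hQcard] at h7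
  have hG : 0 < Fintype.card G := Fintype.card_pos
  apply Nat.le_of_mul_le_mul_left _ (Nat.mul_pos hG (Nat.mul_pos hpos hpos))
  calc _ = (#S - 3) * (Fintype.card G * (#S * ((Fintype.card Ω - #S) * #S))) := by ring
    _ ≤ _ := h7
    _ = _ := by ring

end

end Cfsg.Agent.H579.Pr
end

private theorem dce_f09d1659af43 : _root_.True := by
  try have : _root_.True := by simp only [_root_.Cfsg.Agent.H579.Pr.ii.eq_1]
  try have : _root_.True := by simp only [_root_.Cfsg.Agent.H579.Pr.mv.eq_1]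
  exact _root_.True.intro
end
end
end
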